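import Mathlib
import Cfsg.Agent.H1.CoprimeAction
import Cfsg.Agent.H1.Offender
import Cfsg.Agent.H79.CoprimeGen

/-! Small groups acting fixed-point-freely: kernels of elementary abelian groups on a module. -/

set_option autoImplicit false
set_option linter.style.haveILetI false

namespace H1.PairFPF

open Subgroup
open scoped commutatorElement

variable {G : Type*} [Group G]

theorem conjMap_mem {A H : Subgroup G} (h : A ≤ normalizer (H : Set G)) {a x : G} (ha : a ∈ A)
    (hx : x ∈ H) : a * x * a⁻¹ ∈ H :=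
  (mem_normalizer_iff.mp (h ha) x).mp hx

theorem mem_centralizer_singleton' {a x : G} :
    x ∈ centralizer ({a} : Set G) ↔ a * x = x * a := by
  simp [mem_centralizer_iff]

theorem coprime_of_isPGroup [Finite G] {q v : ℕ} [Fact q.Prime] [Fact v.Prime] (hne : q ≠ v)
    {Q V : Subgroup G} (hQ : IsPGroup q Q) (hV : IsPGroup v V) :
    (Nat.card Q).Coprime (Nat.card V) :=
  IsPGroup.coprime_card_of_ne _ _ hne _ _ hQ hV

theorem isMulCommutative_of_le {H K : Subgroup G} (hK : IsMulCommutative K) (h : H ≤ K) :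
    IsMulCommutative H :=
  ⟨⟨fun x y => Subtype.ext <| by
    have := congrArg Subtype.val (hK.is_comm.comm (⟨x, h x.2⟩ : K) ⟨y, h y.2⟩)
    simpa using this⟩⟩

theorem le_normalizer_bot' {L : Subgroup G} : L ≤ normalizer ((⊥ : Subgroup G) : Set G) := by
  rw [normalizer_eq_top]
  exact le_top

theorem mem_normalizer_centralizer {H : Subgroup G} {a : G}
    (ha : a ∈ normalizer (H : Set G)) :
    a ∈ normalizer ((centralizer (H : Set G) : Subgroup G) : Set G) := by
  have hmem : ∀ b : G, b ∈ normalizer (H : Set G) → ∀ c ∈ centralizer (H : Set G),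
      b * c * b⁻¹ ∈ centralizer (H : Set G) := by
    intro b hb c hc
    rw [mem_centralizer_iff] at hc ⊢
    intro h hh
    have h1 := hc _ (show b⁻¹ * h * b ∈ H by
      have := (mem_normalizer_iff.mp (inv_mem hb) h).mp hh
      rwa [inv_inv] at this)
    calc h * (b * c * b⁻¹) = b * ((b⁻¹ * h * b) * c) * b⁻¹ := by group
      _ = b * (c * (b⁻¹ * h * b)) * b⁻¹ := by rw [h1]
      _ = b * c * b⁻¹ * h := by group
  refine mem_normalizer_iff.mpr fun c => ⟨hmem a ha c, fun hc => ?_⟩
  simpa [mul_assoc] using hmem a⁻¹ (inv_mem ha) _ hc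

theorem normalizer_inf_le_normalizer_commutator' {X Y : Subgroup G} {a : G}
    (hX : a ∈ normalizer (X : Set G)) (hY : a ∈ normalizer (Y : Set G)) :
    a ∈ normalizer ((⁅X, Y⁆ : Subgroup G) : Set G) := by
  rw [mem_normalizer_iff_map_conj_eq] at hX hY ⊢
  rw [map_commutator, hX, hY]

/-- A non-trivial element of the subgroup generated by an element of prime order generates it. -/
theorem mem_zpowers_of_prime {n : ℕ} (hn : n.Prime) {z u : G} (hz : z ^ n = 1)
    (hu : u ∈ zpowers z) (hu1 : u ≠ 1) : z ∈ zpowers u := by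
  obtain ⟨k, rfl⟩ := mem_zpowers_iff.mp hu
  refine mem_zpowers_iff.mpr ?_
  have hk : IsCoprime k (n : ℤ) := by
    rw [Int.isCoprime_iff_nat_coprime, Int.natAbs_natCast]
    refine Nat.Coprime.symm (hn.coprime_iff_not_dvd.mpr fun h => hu1 ?_)
    obtain ⟨j, hj⟩ := Int.natCast_dvd.mpr h
    rw [hj, zpow_mul, zpow_natCast, hz, one_zpow]
  obtain ⟨s, t, hst⟩ := hk
  refine ⟨s, ?_⟩
  rw [← zpow_mul, show k * s = 1 - n * t by linarith, zpow_sub, zpow_one, zpow_mul, zpow_natCast,
    hz, one_zpow, inv_one, mul_one]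

/-- The norm argument: if `g` has no fixed points on the group `L` acting without fixed points on
`A`, the `L`-invariant subgroups containing the norms of `g` are the whole of `A`. -/
theorem eq_top_of_norm_mem {M A : Type*} [Group M] [CommGroup A] [Finite A] (φ : M →* MulAut A)
    (L : Subgroup M) [Finite L] (g : M) (h : ℕ) (hh : 0 < h)
    (hg : g ∈ normalizer (L : Set M))
    (hfix : ∀ i, 0 < i → i < h → ∀ a ∈ L, a * g ^ i = g ^ i * a → a = 1)
    (hcop : (Nat.card L).Coprime (Nat.card A)) (hL : ∀ v : A, (∀ l ∈ L, φ l v = v) → v = 1)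
    (W : Subgroup A) (hW : ∀ l ∈ L, ∀ w ∈ W, φ l w ∈ W)
    (hnorm : ∀ v : A, ∏ i ∈ Finset.range h, φ (g ^ i) v ∈ W) : W = ⊤ := by
  classical
  cases nonempty_fintype L
  refine eq_top_iff.mpr fun w _ => ?_
  have hP : ∀ u : A, ∏ a : L, φ (a : M) u = 1 := fun u => by
    refine hL _ fun l hl => ?_
    rw [map_prod]
    refine Fintype.prod_equiv (Equiv.mulLeft (⟨l, hl⟩ : L)) _ _ fun a => ?_
    simp [map_mul]
  have hD : ∏ a : L, ∏ i ∈ Finset.range h, φ ((a : M) * g ^ i * (a : M)⁻¹) w ∈ W := by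
    refine prod_mem fun a _ => ?_
    have := hW (a : M) a.2 _ (hnorm (φ (a : M)⁻¹ w))
    rw [map_prod] at this
    have e : ∀ i ∈ Finset.range h, φ (a : M) (φ (g ^ i) (φ (a : M)⁻¹ w)) =
        φ ((a : M) * g ^ i * (a : M)⁻¹) w := fun i _ => by
      simp [map_mul]
    rwa [Finset.prod_congr rfl e] at this
  rw [Finset.prod_comm,
    ← Finset.prod_erase_mul (Finset.range h) _ (Finset.mem_range.mpr hh)] at hD
  have hrest : ∏ i ∈ (Finset.range h).erase 0, ∏ a : L, φ ((a : M) * g ^ i * (a : M)⁻¹) w = 1 := by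
    refine Finset.prod_eq_one fun i hi => ?_
    obtain ⟨hi0, hih⟩ := Finset.mem_erase.mp hi
    rw [Finset.mem_range] at hih
    have hnormal : ∀ a ∈ L, g ^ i * a * (g ^ i)⁻¹ ∈ L := fun a ha =>
      (mem_normalizer_iff.mp (pow_mem hg i) a).mp ha
    let f : L → L := fun a => ⟨(a : M) * (g ^ i * (a : M)⁻¹ * (g ^ i)⁻¹),
      L.mul_mem a.2 (hnormal _ (L.inv_mem a.2))⟩
    have hf : Function.Bijective f := by
      refine Finite.injective_iff_bijective.mp fun a b hab => ?_
      have h' : (a : M) * (g ^ i * (a : M)⁻¹ * (g ^ i)⁻¹) =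
          (b : M) * (g ^ i * (b : M)⁻¹ * (g ^ i)⁻¹) := congrArg Subtype.val hab
      have hc : (b : M)⁻¹ * a * g ^ i = g ^ i * ((b : M)⁻¹ * a) := by
        calc (b : M)⁻¹ * a * g ^ i
            = (b : M)⁻¹ * ((a : M) * (g ^ i * (a : M)⁻¹ * (g ^ i)⁻¹)) * g ^ i * a := by group
          _ = (b : M)⁻¹ * ((b : M) * (g ^ i * (b : M)⁻¹ * (g ^ i)⁻¹)) * g ^ i * a := by rw [h']
          _ = g ^ i * ((b : M)⁻¹ * a) := by group
      have := hfix i (Nat.pos_of_ne_zero hi0) hih _ (L.mul_mem (L.inv_mem b.2) a.2) hc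
      exact Subtype.ext (inv_mul_eq_one.mp this).symm
    calc ∏ a : L, φ ((a : M) * g ^ i * (a : M)⁻¹) w
        = ∏ a : L, φ (f a : M) (φ (g ^ i) w) := by
          refine Finset.prod_congr rfl fun a _ => ?_
          rw [← MulAut.mul_apply, ← map_mul]
          congr 2
          simp only [f]
          group
      _ = ∏ a : L, φ (a : M) (φ (g ^ i) w) :=
          Fintype.prod_bijective f hf _ (fun a => φ (a : M) (φ (g ^ i) w)) fun _ => rfl
      _ = 1 := hP _
  rw [hrest, one_mul] at hD
  simp only [pow_zero, mul_one, mul_inv_cancel, map_one, MulAut.one_apply, Finset.prod_const,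
    Finset.card_univ, ← Nat.card_eq_fintype_card] at hD
  obtain ⟨u, hu⟩ := (powCoprime hcop.symm).surjective w
  have hco : (orderOf w).Coprime (Nat.card L) :=
    hcop.symm.coprime_dvd_left (orderOf_dvd_natCard w)
  obtain ⟨e, he⟩ := exists_pow_eq_self_of_coprime hco.symm
  rw [← he]
  exact pow_mem hD e

/-- If the prime order element `a` is fixed-point-free on `L` modulo `C(V)` and `C_V(L) = 1`,
an `L`-invariant subgroup containing `C_V(a)` contains `V`. -/
theorem le_of_fixed_le [Finite G] (V L W : Subgroup G) [hVc : IsMulCommutative V] {a : G} {n : ℕ}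
    (hn : n.Prime) (han : a ^ n = 1) (haV : a ∈ normalizer (V : Set G))
    (haL : a ∈ normalizer (L : Set G)) (hLV : L ≤ normalizer (V : Set G))
    (hcop : (Nat.card L).Coprime (Nat.card V)) (hnL : (Nat.card L).Coprime n)
    (hfixL : L ⊓ centralizer ({a} : Set G) ≤ centralizer (V : Set G))
    (hVL : V ⊓ centralizer (L : Set G) = ⊥) (hLW : L ≤ normalizer (W : Set G))
    (hfixV : V ⊓ centralizer ({a} : Set G) ≤ W) : V ≤ W := by
  open scoped IsMulCommutative in
  letI : CommGroup V := inferInstance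
  set N := normalizer (V : Set G)
  let φ : N →* MulAut V := V.normalizerMonoidHom
  have hval : ∀ (x : N) (v : V), ((φ x v : V) : G) = (x : G) * v * (x : G)⁻¹ := fun _ _ => rfl
  have hker : ∀ x : N, φ x = 1 → (x : G) ∈ centralizer (V : Set G) := fun x hx => by
    refine mem_centralizer_iff.mpr fun v hv => ?_
    have h := hval x ⟨v, hv⟩
    rw [hx] at h
    exact eq_mul_inv_iff_mul_eq.mp h
  let g : N := ⟨a, haV⟩
  let L' : Subgroup (MulAut V) := (L.subgroupOf N).map φ
  have hgn : g ^ n = 1 := Subtype.ext han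
  have key := eq_top_of_norm_mem (MonoidHom.id (MulAut V)) L' (φ g) n hn.pos ?_ ?_ ?_ ?_
    (W.subgroupOf V) ?_ ?_
  · exact subgroupOf_eq_top.mp key
  · rw [mem_normalizer_iff]
    have hL : ∀ x : N, (x : G) ∈ L → ∀ y : N, (y : G) ∈ normalizer (L : Set G) →
        φ y * φ x * (φ y)⁻¹ ∈ L' := fun x hx y hy =>
      ⟨y * x * y⁻¹, (mem_normalizer_iff.mp hy x).mp hx, by simp⟩
    intro y
    constructor
    · rintro ⟨x, hx, rfl⟩
      exact hL x hx g haL
    · rintro ⟨x, hx, he⟩
      have := hL x hx g⁻¹ (inv_mem haL)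
      rw [he, map_inv] at this
      simpa [mul_assoc] using this
  · rintro i hi hin _ ⟨y, hy, rfl⟩ hcomm
    have hco : i.Coprime n := Nat.Coprime.symm
      (hn.coprime_iff_not_dvd.mpr (Nat.not_dvd_of_pos_of_lt hi hin))
    obtain ⟨m, -, hm⟩ := Nat.exists_mul_mod_eq_one_of_coprime hco hn.one_lt
    have ha1 : (φ g ^ i) ^ m = φ g := by
      rw [← pow_mul, ← map_pow, ← Nat.div_add_mod (i * m) n, hm, pow_add, pow_mul, hgn, one_pow,
        one_mul, pow_one]
    have h1 : Commute (φ y) (φ g) := ha1 ▸ Commute.pow_right hcomm m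
    have hmem : y⁻¹ * (g * y * g⁻¹) ∈ φ.ker := by
      rw [MonoidHom.mem_ker, map_mul, map_mul, map_mul, map_inv, map_inv, ← h1.eq,
        mul_inv_cancel_right, inv_mul_cancel]
    have hLC : zpowers a ≤ normalizer ((L ⊓ centralizer (V : Set G) : Subgroup G) : Set G) :=
      zpowers_le.mpr (inf_normalizer_le_normalizer_inf (mem_inf.mpr
        ⟨haL, mem_normalizer_centralizer haV⟩))
    have hstep : ∀ b ∈ zpowers a,
        (y : G)⁻¹ * (b * y * b⁻¹) ∈ L ⊓ centralizer (V : Set G) := by
      intro b hb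
      obtain ⟨k, rfl⟩ := mem_zpowers_iff.mp hb
      refine mem_inf.mpr ⟨mul_mem (inv_mem hy)
        ((mem_normalizer_iff.mp (zpow_mem haL k) _).mp hy), ?_⟩
      have : y⁻¹ * (g ^ k * y * (g ^ k)⁻¹) ∈ φ.ker := by
        rw [MonoidHom.mem_ker, map_mul, map_mul, map_mul, map_inv, map_inv, map_zpow,
          ← (h1.zpow_right k).eq, mul_inv_cancel_right, inv_mul_cancel]
      have h3 := hker _ this
      simpa using h3
    obtain ⟨c, hc, hyc⟩ := H1.exists_fixed_mem_coset_of_le (A := zpowers a) (K := L)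
      (N := L ⊓ centralizer (V : Set G)) inf_le_left hLC
      (by rw [Nat.card_zpowers]; exact (hnL.symm.coprime_dvd_left (orderOf_dvd_of_pow_eq_one han)))
      (Or.inl (Group.isSolvable_of_comm fun u v => Subtype.ext (by
        have := (IsCyclic.commGroup (α := zpowers a)).mul_comm u v
        exact congrArg Subtype.val this))) hy hstep
    rw [zpowers_eq_closure, centralizer_closure] at hc
    have hyV : (y : G) ∈ centralizer (V : Set G) := by
      have e : (y : G) = c * ((y : G)⁻¹ * c)⁻¹ := by group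
      rw [e]
      exact mul_mem (hfixL hc) (inv_mem (mem_inf.mp hyc).2)
    refine MulEquiv.ext fun v => Subtype.ext ?_
    rw [hval, ← mem_centralizer_iff.mp hyV v v.2, mul_inv_cancel_right]
    rfl
  · refine hcop.coprime_dvd_left ?_
    rw [← Nat.card_congr (subgroupOfEquivOfLe hLV).toEquiv]
    exact card_map_dvd _ _
  · intro v hv
    have : (v : G) ∈ V ⊓ centralizer (L : Set G) := by
      refine mem_inf.mpr ⟨v.2, mem_centralizer_iff.mpr fun l hl => ?_⟩
      have := congrArg Subtype.val (hv _ ⟨⟨l, hLV hl⟩, hl, rfl⟩)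
      exact mul_inv_eq_iff_eq_mul.mp this
    rw [hVL, mem_bot] at this
    exact Subtype.ext this
  · rintro _ ⟨x, hx, rfl⟩ w hw
    exact (mem_normalizer_iff.mp (hLW hx) (w : G)).mp hw
  · intro v
    have hfix : φ g (∏ i ∈ Finset.range n, φ (g ^ i) v) = ∏ i ∈ Finset.range n, φ (g ^ i) v := by
      rw [map_prod]
      have e : ∀ i ∈ Finset.range n, φ g (φ (g ^ i) v) = φ (g ^ (i + 1)) v := fun i _ => by
        rw [← MulAut.mul_apply, ← map_mul, ← pow_succ']
      rw [Finset.prod_congr rfl e]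
      have h1 := Finset.prod_range_succ (fun i => φ (g ^ i) v) n
      have h2 := Finset.prod_range_succ' (fun i => φ (g ^ i) v) n
      rw [h1, hgn, pow_zero] at h2
      exact (mul_right_cancel h2).symm
    simp only [MonoidHom.id_apply, ← map_pow]
    refine hfixV (mem_inf.mpr ⟨Subtype.coe_prop _, mem_centralizer_singleton'.mpr ?_⟩)
    have h := congrArg Subtype.val hfix
    exact mul_inv_eq_iff_eq_mul.mp h

/-- An element of prime order fixed-point-free on `L` modulo `C(V)` and on the abelian group `V`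
forces the coprime group `L` to act trivially on `V`. -/
theorem frob_trivial [Finite G] (V L : Subgroup G) [hVc : IsMulCommutative V] {a : G} {n : ℕ}
    (hn : n.Prime) (han : a ^ n = 1) (haV : a ∈ normalizer (V : Set G))
    (haL : a ∈ normalizer (L : Set G)) (hLV : L ≤ normalizer (V : Set G))
    (hcop : (Nat.card L).Coprime (Nat.card V)) (hnL : (Nat.card L).Coprime n)
    (hfixL : L ⊓ centralizer ({a} : Set G) ≤ centralizer (V : Set G))
    (hfixV : V ⊓ centralizer ({a} : Set G) = ⊥) : L ≤ centralizer (V : Set G) := by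
  set V1 := ⁅V, L⁆
  have hle : V1 ≤ V := H1.commutator_le_left_of_le_normalizer hLV
  haveI : IsMulCommutative V1 := isMulCommutative_of_le hVc hle
  have h0 := le_of_fixed_le V1 L ⊥ hn han
    (normalizer_inf_le_normalizer_commutator' haV haL) haL
    H1.right_le_normalizer_commutator (hcop.coprime_dvd_right (card_dvd_of_le hle)) hnL
    (hfixL.trans (centralizer_le (SetLike.coe_subset_coe.mpr hle)))
    (H1.commutator_inf_centralizer_eq_bot hVc hLV hcop)
    le_normalizer_bot' ((inf_le_inf_right _ hle).trans hfixV.le)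
  rw [le_centralizer_iff, ← commutator_eq_bot_iff_le_centralizer]
  exact le_bot_iff.mp h0

/-- If `Z` is elementary abelian, coprime to `V` and faithful at `z`, some subgroup of index `q`
avoiding `z` has fixed points on `V`. -/
theorem exists_kernel [Finite G] {q : ℕ} [hq : Fact q.Prime] (V Z : Subgroup G)
    [IsMulCommutative Z] (hexp : ∀ x ∈ Z, x ^ q = 1) (hZV : Z ≤ normalizer (V : Set G))
    (hcop : (Nat.card V).Coprime q) {z : G} (hz : z ∈ Z) (hzV : z ∉ centralizer (V : Set G)) :
    ∃ K : Subgroup G, K ≤ Z ∧ z ∉ K ∧ K.relIndex Z = q ∧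
      V ⊓ centralizer (K : Set G) ≠ ⊥ ∧ z ∉ centralizer ((V ⊓ centralizer (K : Set G) : Subgroup G) : Set G) := by
  induction hn : Nat.card V using Nat.strong_induction_on generalizing V with
  | _ n ih =>
  subst hn
  by_cases hsmall : ∃ U : Subgroup G, U < V ∧ Z ≤ normalizer (U : Set G) ∧
      z ∉ centralizer (U : Set G)
  · obtain ⟨U, hUV, hUn, hUz⟩ := hsmall
    obtain ⟨K, hK, hzK, hKi, hne, hzc⟩ := ih (Nat.card U)
      (lt_of_le_of_ne (card_le_of_le hUV.le) fun e =>
        hUV.ne (eq_of_le_of_card_ge hUV.le e.ge))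
      U hUn (hcop.coprime_dvd_left (card_dvd_of_le hUV.le)) hUz rfl
    refine ⟨K, hK, hzK, hKi, fun e => hne ?_, fun e => hzc ?_⟩
    · exact le_bot_iff.mp ((inf_le_inf_right _ hUV.le).trans e.le)
    · exact centralizer_le (SetLike.coe_subset_coe.mpr (inf_le_inf_right _ hUV.le)) e
  push Not at hsmall
  set K := Z ⊓ centralizer (V : Set G) with hKdef
  have hVn : ∀ S : Subgroup G, S ≤ Z → Z ≤ normalizer ((V ⊓ centralizer (S : Set G) : Subgroup G) : Set G) := by
    intro S hS x hx
    refine inf_normalizer_le_normalizer_inf (mem_inf.mpr ⟨hZV hx, ?_⟩)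
    refine le_normalizer ?_
    rw [mem_centralizer_iff]
    intro s hs
    exact congrArg Subtype.val (IsMulCommutative.is_comm.comm (⟨s, hS hs⟩ : Z) ⟨x, hx⟩)
  -- elements outside `K` act without fixed points
  have hfix : ∀ x ∈ Z, x ∉ K → ∀ U : Subgroup G, U = V ⊓ centralizer ({x} : Set G) →
      z ∈ centralizer (U : Set G) := by
    intro x hx hxK U hU
    by_cases hlt : U < V
    · refine hsmall U hlt ?_
      have hU' : U = V ⊓ centralizer ((zpowers x : Subgroup G) : Set G) := by
        rw [hU, zpowers_eq_closure, centralizer_closure]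
      rw [hU']
      exact hVn _ (zpowers_le.mpr hx)
    · have hUV : U = V := (lt_or_eq_of_le (hU ▸ inf_le_left)).resolve_left hlt
      refine absurd (mem_inf.mpr ⟨hx, ?_⟩) hxK
      rw [mem_centralizer_iff]
      intro v hv
      have := (mem_inf.mp (hU.le (hUV.ge hv))).2
      exact (mem_centralizer_singleton'.mp this).symm
  have hzK : z ∉ K := fun h => hzV (mem_inf.mp h).2
  refine ⟨K, inf_le_left, hzK, ?_, ?_, ?_⟩
  · -- the quotient is cyclic
    haveI : IsMulCommutative (K.subgroupOf Z) := inferInstance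
    have hpg : IsPGroup q Z := fun x => ⟨1, Subtype.ext (by simpa using hexp x x.2)⟩
    obtain ⟨m, hm⟩ := hpg.exists_card_eq
    have hd : K.relIndex Z ∣ q ^ m := hm ▸ relIndex_dvd_card _ _
    obtain ⟨j, -, hj⟩ := (Nat.dvd_prime_pow hq.out).mp hd
    have hj0 : j ≠ 0 := by
      rintro rfl
      rw [pow_zero, relIndex_eq_one] at hj
      exact hzK (hj hz)
    by_contra hcontra
    have hj2 : 2 ≤ j := by
      rcases j with _ | _ | j
      · exact absurd rfl hj0
      · exact absurd (by simpa using hj) hcontra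
      · omega
    have hcm : ∀ u ∈ Z, ∀ w ∈ Z, u * w = w * u := fun u hu w hw =>
      congrArg Subtype.val (IsMulCommutative.is_comm.comm (⟨u, hu⟩ : Z) ⟨w, hw⟩)
    -- a subgroup of order `q ^ 2` meeting `K` trivially
    obtain ⟨x, hx, hxK⟩ : ∃ x ∈ Z, x ∉ K ⊔ zpowers z := by
      by_contra hall
      push Not at hall
      have hn : zpowers z ≤ normalizer (K : Set G) := by
        refine zpowers_le.mpr (mem_normalizer_iff.mpr fun y => ⟨fun hy => ?_, fun hy => ?_⟩)
        · rwa [hcm z hz y (mem_inf.mp hy).1, mul_inv_cancel_right]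
        · have hyZ : y ∈ Z := by
            have h3 := mul_mem (mul_mem (inv_mem hz) (mem_inf.mp hy).1) hz
            simpa [mul_assoc] using h3
          rwa [hcm z hz y hyZ, mul_inv_cancel_right] at hy
      have hsurj : Function.Surjective (fun kw : K × zpowers z =>
          (⟨(kw.1 : G) * kw.2, mul_mem (inf_le_left (a := Z) kw.1.2)
            (zpowers_le.mpr hz kw.2.2)⟩ : Z)) := by
        rintro ⟨y, hy⟩
        obtain ⟨k, hk, w, hw, rfl⟩ := H1.exists_mul_of_mem_sup hn (hall y hy)
        exact ⟨(⟨k, hk⟩, ⟨w, hw⟩), rfl⟩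
      have hcard := Nat.card_le_card_of_surjective _ hsurj
      rw [Nat.card_prod, Nat.card_zpowers] at hcard
      have hzq : orderOf z ≤ q :=
        Nat.le_of_dvd hq.out.pos (orderOf_dvd_of_pow_eq_one (hexp z hz))
      have h4 : Nat.card K * K.relIndex Z = Nat.card Z := by
        rw [relIndex, ← Nat.card_congr (subgroupOfEquivOfLe (inf_le_left : K ≤ Z)).toEquiv]
        exact card_mul_index _
      have h1 : K.relIndex Z ≤ q := Nat.le_of_mul_le_mul_left
        (h4 ▸ hcard.trans (Nat.mul_le_mul_left _ hzq)) Nat.card_pos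
      have h2 : q ^ 2 ≤ q ^ j := Nat.pow_le_pow_right hq.out.pos hj2
      have h3 : q < q ^ 2 := lt_self_pow₀ hq.out.one_lt (by norm_num)
      omega
    set E := zpowers z ⊔ zpowers x
    have hEZ : E ≤ Z := sup_le (zpowers_le.mpr hz) (zpowers_le.mpr hx)
    haveI : IsMulCommutative E := isMulCommutative_of_le inferInstance hEZ
    have hEK : E ⊓ K = ⊥ := by
      rw [eq_bot_iff]
      intro y hy
      obtain ⟨hyE, hyK⟩ := mem_inf.mp hy
      have hn2 : zpowers x ≤ normalizer ((zpowers z : Subgroup G) : Set G) := by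
        refine zpowers_le.mpr (mem_normalizer_iff.mpr fun w => ⟨fun hw => ?_, fun hw => ?_⟩)
        · rwa [hcm x hx w (zpowers_le.mpr hz hw), mul_inv_cancel_right]
        · have hwZ : w ∈ Z := by
            have := mul_mem (mul_mem (inv_mem hx) (zpowers_le.mpr hz hw)) hx
            simpa [mul_assoc] using this
          rwa [hcm x hx w hwZ, mul_inv_cancel_right] at hw
      obtain ⟨u, hu, w, hw, rfl⟩ := H1.exists_mul_of_mem_sup hn2 hyE
      by_cases hw1 : w = 1
      · subst hw1
        by_contra hu1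
        rw [mem_bot, mul_one] at hu1
        rw [mul_one] at hyK
        refine hzK ?_
        have : z ∈ zpowers u := mem_zpowers_of_prime hq.out (hexp z hz) hu hu1
        exact zpowers_le.mpr hyK this
      · exfalso
        refine hxK ?_
        have hxw : x ∈ zpowers w := mem_zpowers_of_prime hq.out (hexp x hx) hw hw1
        refine zpowers_le.mpr ?_ hxw
        have : w = u⁻¹ * (u * w) := by group
        rw [this]
        exact mul_mem (mem_sup_right (inv_mem hu)) (mem_sup_left hyK)
    have hE2 : ¬ IsCyclic E := by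
      intro hc
      have h1 : Nat.card E ∣ q := by
        rw [← IsCyclic.exponent_eq_card]
        exact Monoid.exponent_dvd_of_forall_pow_eq_one fun g => Subtype.ext (by simpa using hexp g (hEZ g.2))
      have h2 : zpowers z = E := eq_of_le_of_card_ge le_sup_left (by
        rw [Nat.card_zpowers]
        refine Nat.le_of_dvd (orderOf_pos z) (h1.trans (dvd_of_eq ?_))
        exact (orderOf_eq_prime (hexp z hz) fun e => hzK (e ▸ one_mem _)).symm)
      exact hxK (mem_sup_right (h2.ge (mem_sup_right (mem_zpowers x))))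
    refine hzV (mem_centralizer_iff.mpr fun v hv => ?_)
    have hle : V ≤ centralizer ({z} : Set G) := by
      refine H79.le_of_centralizers_le (A := E) (fun a ha => hexp a (hEZ ha)) hE2
        (hEZ.trans hZV) hcop fun y hy hy1 => ?_
      intro w hw
      refine mem_centralizer_singleton'.mpr ?_
      have hyK : y ∉ K := fun h => hy1 (by simpa [hEK] using mem_inf.mpr ⟨hy, h⟩)
      exact (mem_centralizer_iff.mp (hfix y (hEZ hy) hyK _ rfl) w hw).symm
    exact (mem_centralizer_singleton'.mp (hle hv)).symm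
  · intro e
    have : V = ⊥ := by
      rw [← e, eq_comm, inf_eq_left, le_centralizer_iff]
      exact inf_le_right
    exact hzV (by rw [this]; simp [mem_centralizer_iff])
  · rw [inf_eq_left.mpr (le_centralizer_iff.mpr inf_le_right : V ≤ centralizer (K : Set G))]
    exact hzV

/-- `x` centralises `[V, Z]` when it centralises `C_V(a)` and `Z`, with `a` fixed-point-free on
`Z`. -/
theorem commutator_le_centralizer [Finite G] (V Z : Subgroup G) [hVc : IsMulCommutative V]
    {a x : G} {n : ℕ} (hn : n.Prime) (han : a ^ n = 1) (haV : a ∈ normalizer (V : Set G))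
    (haZ : a ∈ normalizer (Z : Set G)) (hZV : Z ≤ normalizer (V : Set G))
    (hcop : (Nat.card Z).Coprime (Nat.card V)) (hnZ : (Nat.card Z).Coprime n)
    (hfix : Z ⊓ centralizer ({a} : Set G) ≤ centralizer (V : Set G))
    (hxZ : x ∈ centralizer (Z : Set G))
    (hx : V ⊓ centralizer ({a} : Set G) ≤ centralizer ({x} : Set G)) :
    ⁅V, Z⁆ ≤ centralizer ({x} : Set G) := by
  have hle : ⁅V, Z⁆ ≤ V := H1.commutator_le_left_of_le_normalizer hZV
  haveI : IsMulCommutative (⁅V, Z⁆ : Subgroup G) := isMulCommutative_of_le hVc hle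
  refine (le_of_fixed_le ⁅V, Z⁆ Z (⁅V, Z⁆ ⊓ centralizer ({x} : Set G)) hn han
    (normalizer_inf_le_normalizer_commutator' haV haZ) haZ H1.right_le_normalizer_commutator
    (hcop.coprime_dvd_right (card_dvd_of_le hle)) hnZ
    (hfix.trans (centralizer_le (SetLike.coe_subset_coe.mpr hle)))
    (H1.commutator_inf_centralizer_eq_bot hVc hZV hcop) ?_ ?_).trans inf_le_right
  · intro z hz
    refine inf_normalizer_le_normalizer_inf
      (mem_inf.mpr ⟨H1.right_le_normalizer_commutator hz, le_normalizer ?_⟩)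
    exact mem_centralizer_singleton'.mpr (mem_centralizer_iff.mp hxZ z hz).symm
  · intro u hu
    exact mem_inf.mpr ⟨(mem_inf.mp hu).1, hx (mem_inf.mpr ⟨hle (mem_inf.mp hu).1, (mem_inf.mp hu).2⟩)⟩

/-- A group of order a product of two primes that is not cyclic. -/
def IsPair (A : Subgroup G) : Prop :=
  ∃ p₁ p₂ : ℕ, p₁.Prime ∧ p₂.Prime ∧ Nat.card A = p₁ * p₂ ∧ ¬ IsCyclic A

theorem IsPair.exists_orderOf [Finite G] {A : Subgroup G} (hA : IsPair A) {a : G} (ha : a ∈ A)
    (ha1 : a ≠ 1) : ∃ n : ℕ, n.Prime ∧ n ∣ Nat.card A ∧ orderOf a = n := by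
  obtain ⟨p₁, p₂, h₁, h₂, hc, hnc⟩ := hA
  refine ⟨orderOf a, ?_, orderOf_dvd_natCard A ha, rfl⟩
  have hd : orderOf a ∣ p₁ * p₂ := hc ▸ orderOf_dvd_natCard A ha
  obtain ⟨d₁, d₂, hd₁, hd₂, he⟩ := exists_dvd_and_dvd_of_dvd_mul hd
  rcases (Nat.dvd_prime h₁).mp hd₁ with rfl | rfl <;>
    rcases (Nat.dvd_prime h₂).mp hd₂ with rfl | rfl
  · exact absurd (orderOf_eq_one_iff.mp he) ha1
  · simpa [he] using h₂
  · simpa [he] using h₁
  · refine absurd ?_ hnc
    have : Nat.card A = orderOf (⟨a, ha⟩ : A) := by rw [hc, Subgroup.orderOf_mk, he]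
    exact isCyclic_of_orderOf_eq_card _ this.symm

theorem IsPair.prime_card_of_lt [Finite G] {A S : Subgroup G} (hA : IsPair A) (hS : S < A)
    (hS1 : S ≠ ⊥) : (Nat.card S).Prime := by
  obtain ⟨p₁, p₂, h₁, h₂, hc, hnc⟩ := hA
  have hd : Nat.card S ∣ p₁ * p₂ := hc ▸ card_dvd_of_le hS.le
  obtain ⟨d₁, d₂, hd₁, hd₂, he⟩ := exists_dvd_and_dvd_of_dvd_mul hd
  rcases (Nat.dvd_prime h₁).mp hd₁ with rfl | rfl <;>
    rcases (Nat.dvd_prime h₂).mp hd₂ with rfl | rfl
  · exact absurd (card_eq_one.mp he) hS1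
  · simpa [he] using h₂
  · simpa [he] using h₁
  · exact absurd (eq_of_le_of_card_ge hS.le (by rw [hc, he])) hS.ne

theorem IsPair.eq_sup [Finite G] {A B : Subgroup G} (hA : IsPair A) (hB : B ≤ A) (hB1 : B ≠ ⊥)
    {a : G} (ha : a ∈ A) (haB : a ∉ B) : B ⊔ zpowers a = A := by
  have hle : B ⊔ zpowers a ≤ A := sup_le hB (zpowers_le.mpr ha)
  refine (lt_or_eq_of_le hle).resolve_left fun hlt => haB ?_
  have hp := hA.prime_card_of_lt hlt (ne_bot_of_le_ne_bot hB1 le_sup_left)
  have hB' : B = B ⊔ zpowers a := by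
    refine eq_of_le_of_card_ge le_sup_left ?_
    rcases (Nat.dvd_prime hp).mp (card_dvd_of_le le_sup_left) with h | h
    · exact absurd (card_eq_one.mp h) hB1
    · exact h.ge
  exact hB'.ge (mem_sup_right (mem_zpowers a))

/-- Fixed points map onto fixed points under coprime action. -/
theorem map_inf_centralizer [Finite G] {H : Type*} [Group H] (f : G →* H) {X S : Subgroup G}
    (hSX : S ≤ normalizer (X : Set G)) (hcop : (Nat.card S).Coprime (Nat.card X))
    (hsol : Group.IsSolvable S ∨ Group.IsSolvable X) :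
    (X ⊓ centralizer (S : Set G)).map f = X.map f ⊓ centralizer (S.map f : Set H) := by
  refine le_antisymm ?_ ?_
  · rintro _ ⟨x, hx, rfl⟩
    refine mem_inf.mpr ⟨mem_map_of_mem f (mem_inf.mp hx).1, mem_centralizer_iff.mpr ?_⟩
    rintro _ ⟨s, hs, rfl⟩
    rw [← map_mul, ← map_mul, mem_centralizer_iff.mp (mem_inf.mp hx).2 s hs]
  · intro y hy
    obtain ⟨⟨x, hx, rfl⟩, hc⟩ := mem_inf.mp hy
    have hN : S ≤ normalizer ((X ⊓ f.ker : Subgroup G) : Set G) := by
      refine (le_inf hSX ?_).trans inf_normalizer_le_normalizer_inf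
      rw [normalizer_eq_top]
      exact le_top
    obtain ⟨c, hcc, hxc⟩ := H1.exists_fixed_mem_coset_of_le (N := X ⊓ f.ker) inf_le_left hN hcop
      hsol hx (fun s hs => mem_inf.mpr ⟨mul_mem (inv_mem hx)
        ((mem_normalizer_iff.mp (hSX hs) x).mp hx), by
          rw [MonoidHom.mem_ker, map_mul, map_mul, map_mul, map_inv, map_inv,
            mem_centralizer_iff.mp hc (f s) (mem_map_of_mem f hs), mul_inv_cancel_right,
            inv_mul_cancel]⟩)
    refine ⟨c, hcc, ?_⟩
    have := (mem_inf.mp hxc).2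
    rw [MonoidHom.mem_ker, map_mul, map_inv, inv_mul_eq_one] at this
    exact this.symm

/-- Part of the stabiliser lemma: the stabiliser of `K` has no fixed points on `C_V(K)`. -/
theorem stab_fixed_eq_bot [Finite G] {q : ℕ} [hq : Fact q.Prime] {A V Z K : Subgroup G}
    [hVc : IsMulCommutative V] [hZc : IsMulCommutative Z]
    (hAV : A ≤ normalizer (V : Set G)) (hAZ : A ≤ normalizer (Z : Set G))
    (hZV : Z ≤ normalizer (V : Set G)) (hcopA : (Nat.card A).Coprime (Nat.card V))
    (hcopZ : (Nat.card Z).Coprime (Nat.card V)) (hKZ : K ≤ Z) (hKi : K.relIndex Z = q)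
    (hVZ : V ⊓ centralizer (Z : Set G) = ⊥) (hVA : V ⊓ centralizer (A : Set G) = ⊥) :
    V ⊓ centralizer (K : Set G) ⊓
      centralizer ((A ⊓ normalizer (K : Set G) : Subgroup G) : Set G) = ⊥ := by
  classical
  open scoped IsMulCommutative in
  letI : CommGroup V := inferInstance
  have := Fintype.ofFinite A
  have := Fintype.ofFinite K
  let φ : normalizer (V : Set G) →* MulAut V := V.normalizerMonoidHom
  have hval : ∀ (x : normalizer (V : Set G)) (v : V),
      ((φ x v : V) : G) = (x : G) * v * (x : G)⁻¹ := fun _ _ => rfl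
  let ac : A → V → V := fun a v => φ ⟨a, hAV a.2⟩ v
  let kc : K → V → V := fun k v => φ ⟨k, hZV (hKZ k.2)⟩ v
  rw [eq_bot_iff]
  intro v hv
  obtain ⟨hv', hvS⟩ := mem_inf.mp hv
  obtain ⟨hvV, hvK⟩ := mem_inf.mp hv'
  set v₀ : V := ⟨v, hvV⟩
  have hw : ∏ a : A, ac a v₀ = 1 := by
    have hmem : ((∏ a : A, ac a v₀ : V) : G) ∈ V ⊓ centralizer (A : Set G) := by
      refine mem_inf.mpr ⟨Subtype.coe_prop _, mem_centralizer_iff.mpr fun b hb => ?_⟩
      have : φ ⟨b, hAV hb⟩ (∏ a : A, ac a v₀) = ∏ a : A, ac a v₀ := by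
        rw [map_prod]
        refine Fintype.prod_equiv (Equiv.mulLeft (⟨b, hb⟩ : A)) _ _ fun a => ?_
        simp only [ac, Equiv.coe_mulLeft]
        rw [← MulAut.mul_apply, ← map_mul]
        rfl
      exact mul_inv_eq_iff_eq_mul.mp (congrArg Subtype.val this)
    rw [hVA, mem_bot] at hmem
    exact Subtype.ext hmem
  have hkfix : ∀ (k : K) (u : V), (u : G) ∈ centralizer (K : Set G) → kc k u = u := by
    intro k u hu
    refine Subtype.ext ?_
    show (k : G) * u * (k : G)⁻¹ = u
    rw [mem_centralizer_iff.mp hu k k.2, mul_inv_cancel_right]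
  have hinner : ∀ a : A, ∏ k : K, kc k (ac a v₀) =
      if (a : G) ∈ normalizer (K : Set G) then v₀ ^ Nat.card K else 1 := by
    intro a
    split
    · rename_i haK
      have e : ac a v₀ = v₀ := by
        refine Subtype.ext ?_
        show (a : G) * v * (a : G)⁻¹ = v
        rw [mem_centralizer_iff.mp hvS a (mem_inf.mpr ⟨a.2, haK⟩), mul_inv_cancel_right]
      rw [e, Finset.prod_congr rfl (fun k _ => hkfix k v₀ hvK), Finset.prod_const,
        Finset.card_univ, ← Nat.card_eq_fintype_card]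
    · rename_i haK
      have hmem : ((∏ k : K, kc k (ac a v₀) : V) : G) ∈ V ⊓ centralizer (Z : Set G) := by
        set P := ∏ k : K, kc k (ac a v₀) with hP
        refine mem_inf.mpr ⟨Subtype.coe_prop _, ?_⟩
        let T : Subgroup G := Z ⊓ centralizer ({(P : G)} : Set G)
        have hKT : K ≤ T := by
          intro b hb
          refine mem_inf.mpr ⟨hKZ hb, mem_centralizer_singleton'.mpr ?_⟩
          have : φ ⟨b, hZV (hKZ hb)⟩ P = P := by
            rw [hP, map_prod]
            refine Fintype.prod_equiv (Equiv.mulLeft (⟨b, hb⟩ : K)) _ _ fun k => ?_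
            simp only [kc, Equiv.coe_mulLeft]
            rw [← MulAut.mul_apply, ← map_mul]
            rfl
          exact (mul_inv_eq_iff_eq_mul.mp (congrArg Subtype.val this)).symm
        have hK'T : ∀ b ∈ K, (a : G) * b * (a : G)⁻¹ ∈ T := by
          intro b hb
          have hbZ : (a : G) * b * (a : G)⁻¹ ∈ Z := (mem_normalizer_iff.mp (hAZ a.2) b).mp (hKZ hb)
          refine mem_inf.mpr ⟨hbZ, mem_centralizer_singleton'.mpr ?_⟩
          have hfixed : φ ⟨_, hZV hbZ⟩ (ac a v₀) = ac a v₀ := by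
            refine Subtype.ext ?_
            show (a : G) * b * (a : G)⁻¹ * ((a : G) * v * (a : G)⁻¹) *
              ((a : G) * b * (a : G)⁻¹)⁻¹ = (a : G) * v * (a : G)⁻¹
            calc _ = (a : G) * (b * v * b⁻¹) * (a : G)⁻¹ := by group
              _ = _ := by rw [mem_centralizer_iff.mp hvK b hb, mul_inv_cancel_right]
          have : φ ⟨_, hZV hbZ⟩ P = P := by
            rw [hP, map_prod]
            refine Finset.prod_congr rfl fun k _ => ?_
            simp only [kc]
            rw [← MulAut.mul_apply, ← map_mul]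
            have hc : (⟨_, hZV hbZ⟩ : normalizer (V : Set G)) * ⟨k, hZV (hKZ k.2)⟩ =
                ⟨k, hZV (hKZ k.2)⟩ * ⟨_, hZV hbZ⟩ := Subtype.ext
              (congrArg Subtype.val (hZc.is_comm.comm (⟨_, hbZ⟩ : Z) ⟨k, hKZ k.2⟩) :)
            rw [hc, map_mul, MulAut.mul_apply, hfixed]
          exact (mul_inv_eq_iff_eq_mul.mp (congrArg Subtype.val this)).symm
        have hTZ : T = Z := by
          refine le_antisymm inf_le_left ?_
          rcases (Nat.dvd_prime hq.out).mp (hKi ▸ relIndex_dvd_of_le_left Z hKT) with h | h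
          · exact relIndex_eq_one.mp h
          · exfalso
            refine haK (mem_normalizer_iff.mpr fun b => ?_)
            have h1 : K = T := by
              refine le_antisymm hKT (relIndex_eq_one.mp ?_)
              have := relIndex_mul_relIndex K T Z hKT inf_le_left
              rw [h, hKi] at this
              exact Nat.eq_of_mul_eq_mul_right hq.out.pos (this.trans (one_mul q).symm)
            have hmap : K.map (MulAut.conj (a : G)).toMonoidHom ≤ K := by
              rintro _ ⟨x, hx, rfl⟩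
              exact h1.ge (hK'T x hx)
            have heq := eq_of_le_of_card_ge hmap
              (Nat.card_congr (K.equivMapOfInjective _ (MulAut.conj (a : G)).injective).toEquiv).le
            constructor
            · exact fun hb => h1.ge (hK'T b hb)
            · intro hb
              obtain ⟨x, hx, he⟩ := heq.ge hb
              have : x = b := mul_left_cancel (mul_right_cancel (he : (a : G) * x * (a : G)⁻¹ = _))
              exact this ▸ hx
        refine mem_centralizer_iff.mpr fun z hz => ?_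
        exact (mem_centralizer_singleton'.mp (mem_inf.mp (hTZ.ge hz)).2).symm
      rw [hVZ, mem_bot] at hmem
      exact Subtype.ext hmem
  have key : v₀ ^ (Nat.card (A ⊓ normalizer (K : Set G) : Subgroup G) * Nat.card K) = 1 := by
    have h1 : ∏ a : A, ∏ k : K, kc k (ac a v₀) = 1 := by
      rw [Finset.prod_comm]
      refine Finset.prod_eq_one fun k _ => ?_
      simp only [kc, ← map_prod, hw, map_one]
    rw [Finset.prod_congr rfl (fun a _ => hinner a), ← Finset.prod_filter,
      Finset.prod_const, ← pow_mul, mul_comm] at h1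
    convert h1 using 3
    rw [← Fintype.card_subtype, ← Nat.card_eq_fintype_card]
    exact Nat.card_congr
      { toFun := fun x => ⟨⟨x, (mem_inf.mp x.2).1⟩, (mem_inf.mp x.2).2⟩
        invFun := fun x => ⟨x.1, mem_inf.mpr ⟨x.1.2, x.2⟩⟩
        left_inv := fun _ => rfl
        right_inv := fun _ => rfl }
  have hco : ((Nat.card (A ⊓ normalizer (K : Set G) : Subgroup G)) * Nat.card K).Coprime
      (Nat.card V) := Nat.Coprime.mul_left
    (hcopA.coprime_dvd_left (card_dvd_of_le inf_le_left))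
    (hcopZ.coprime_dvd_left (card_dvd_of_le hKZ))
  have := (powCoprime hco.symm).injective (a₁ := v₀) (a₂ := 1) (by simpa using key)
  exact congrArg Subtype.val this

/-- A subgroup of prime index in the abelian group `Z` is the centraliser of any non-trivial
subgroup of `C_V(K)`. -/
theorem inf_centralizer_eq_of_relIndex [Finite G] {q : ℕ} [hq : Fact q.Prime] {V W Z K : Subgroup G}
    (hKZ : K ≤ Z) (hKi : K.relIndex Z = q) (hVZ : V ⊓ centralizer (Z : Set G) = ⊥)
    (hW : W ≤ V ⊓ centralizer (K : Set G)) (hW1 : W ≠ ⊥) :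
    Z ⊓ centralizer (W : Set G) = K := by
  have hK : K ≤ Z ⊓ centralizer (W : Set G) :=
    le_inf hKZ (le_centralizer_iff.mp (hW.trans inf_le_right))
  have hd := relIndex_dvd_of_le_left Z hK
  rw [hKi] at hd
  rcases (Nat.dvd_prime hq.out).mp hd with h | h
  · refine absurd ?_ hW1
    refine le_bot_iff.mp ((le_inf (hW.trans inf_le_left) ?_).trans hVZ.le)
    exact le_centralizer_iff.mp ((relIndex_eq_one.mp h).trans inf_le_right)
  · refine (le_antisymm hK (relIndex_eq_one.mp ?_)).symm
    have := relIndex_mul_relIndex K _ Z hK inf_le_left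
    rw [h, hKi] at this
    exact Nat.eq_of_mul_eq_mul_right hq.out.pos (this.trans (one_mul q).symm)

/-- The stabiliser lemma. -/
theorem exists_stab [Finite G] {q : ℕ} [hq : Fact q.Prime] {A V Z K : Subgroup G} (hA : IsPair A)
    [hVc : IsMulCommutative V] [hZc : IsMulCommutative Z]
    (hAV : A ≤ normalizer (V : Set G)) (hAZ : A ≤ normalizer (Z : Set G))
    (hZV : Z ≤ normalizer (V : Set G)) (hcopA : (Nat.card A).Coprime (Nat.card V))
    (hcopAZ : (Nat.card A).Coprime (Nat.card Z)) (hcopZ : (Nat.card Z).Coprime (Nat.card V))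
    (hKZ : K ≤ Z) (hKi : K.relIndex Z = q) (hVK : V ⊓ centralizer (K : Set G) ≠ ⊥)
    (hVZ : V ⊓ centralizer (Z : Set G) = ⊥) (hZA : Z ⊓ centralizer (A : Set G) = ⊥)
    (hVA : V ⊓ centralizer (A : Set G) = ⊥) :
    ∃ a ∈ A, a ≠ 1 ∧ a ∈ normalizer (K : Set G) ∧ (∀ z ∈ Z, ⁅z, a⁆ ∈ K) ∧
      V ⊓ centralizer (K : Set G) ⊓ centralizer ({a} : Set G) = ⊥ := by
  set S := A ⊓ normalizer (K : Set G) with hSdef
  have hfix : V ⊓ centralizer (K : Set G) ⊓ centralizer (S : Set G) = ⊥ :=
    stab_fixed_eq_bot hAV hAZ hZV hcopA hcopZ hKZ hKi hVZ hVA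
  have hS1 : S ≠ ⊥ := by
    intro e
    rw [e] at hfix
    refine hVK ?_
    rw [← hfix]
    exact (inf_eq_left.mpr fun x _ => by simp [mem_centralizer_iff]).symm
  have hKn : ∀ x ∈ Z, x ∈ normalizer (K : Set G) := by
    intro x hx
    refine centralizer_le_normalizer _ (mem_centralizer_iff.mpr fun k hk => ?_)
    exact congrArg Subtype.val (hZc.is_comm.comm (⟨k, hKZ hk⟩ : Z) ⟨x, hx⟩)
  have hZW : Z ≤ normalizer ((V ⊓ centralizer (K : Set G) : Subgroup G) : Set G) := fun x hx =>
    inf_normalizer_le_normalizer_inf (mem_inf.mpr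
      ⟨hZV hx, mem_normalizer_centralizer (hKn x hx)⟩)
  have hAVK : ∀ s ∈ S, s ∈ normalizer ((V ⊓ centralizer (K : Set G) : Subgroup G) : Set G) :=
    fun s hs => inf_normalizer_le_normalizer_inf (mem_inf.mpr
      ⟨hAV (mem_inf.mp hs).1, mem_normalizer_centralizer (mem_inf.mp hs).2⟩)
  have frob : ∀ (W : Subgroup G) (b : G), b ∈ A → b ≠ 1 → W ≤ V ⊓ centralizer (K : Set G) →
      W ≠ ⊥ → b ∈ normalizer (W : Set G) → Z ≤ normalizer (W : Set G) →
      W ⊓ centralizer ({b} : Set G) = ⊥ → ∀ z ∈ Z, ⁅z, b⁆ ∈ K := by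
    intro W b hb hb1 hW hW1 hbW hZnW hfixW z hz
    obtain ⟨n, hn, hnA, hbn⟩ := hA.exists_orderOf hb hb1
    haveI : IsMulCommutative W := isMulCommutative_of_le hVc (hW.trans inf_le_left)
    set L := ⁅Z, zpowers b⁆ with hL
    have hbZ : zpowers b ≤ normalizer (Z : Set G) := zpowers_le.mpr (hAZ hb)
    have hLZ : L ≤ Z := H1.commutator_le_left_of_le_normalizer hbZ
    have hfixL : L ⊓ centralizer ({b} : Set G) = ⊥ := by
      have := H1.commutator_inf_centralizer_eq_bot hZc hbZ (by
        rw [Nat.card_zpowers, hbn]; exact hcopAZ.coprime_dvd_left hnA)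
      rwa [zpowers_eq_closure, centralizer_closure, ← zpowers_eq_closure] at this
    have hle : L ≤ centralizer (W : Set G) := frob_trivial W L hn (hbn ▸ pow_orderOf_eq_one b) hbW
      (H1.right_le_normalizer_commutator (mem_zpowers b)) (hLZ.trans hZnW)
      ((hcopZ.coprime_dvd_left (card_dvd_of_le hLZ)).coprime_dvd_right
        (card_dvd_of_le (hW.trans inf_le_left)))
      ((hcopAZ.coprime_dvd_left hnA).symm.coprime_dvd_left (card_dvd_of_le hLZ))
      (hfixL.le.trans bot_le) hfixW
    rw [← inf_centralizer_eq_of_relIndex hKZ hKi hVZ hW hW1]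
    have := Subgroup.commutator_mem_commutator hz (mem_zpowers b)
    exact mem_inf.mpr ⟨hLZ this, hle this⟩
  rcases lt_or_eq_of_le (inf_le_left : S ≤ A) with hlt | heq
  · haveI := Fact.mk (hA.prime_card_of_lt hlt hS1)
    obtain ⟨⟨a, haS⟩, ha1⟩ : ∃ a : S, a ≠ 1 := by
      by_contra h
      push Not at h
      exact hS1 (eq_bot_iff.mpr fun x hx => by
        have := congrArg Subtype.val (h ⟨x, hx⟩); simpa using this)
    have ha1' : a ≠ 1 := fun e => ha1 (Subtype.ext e)
    have hgen : zpowers a = S := by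
      refine eq_of_le_of_card_ge (zpowers_le.mpr haS) ?_
      rcases (Nat.dvd_prime (Fact.out : (Nat.card S).Prime)).mp
        (card_dvd_of_le (zpowers_le.mpr haS)) with h | h
      · exact absurd (by simpa using h) ha1'
      · exact h.ge
    have hfixa : V ⊓ centralizer (K : Set G) ⊓ centralizer ({a} : Set G) = ⊥ := by
      rw [show centralizer ({a} : Set G) = centralizer (S : Set G) by
        rw [← hgen, zpowers_eq_closure, centralizer_closure], hfix]
    refine ⟨a, (mem_inf.mp haS).1, ha1', (mem_inf.mp haS).2, ?_, hfixa⟩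
    exact frob _ a (mem_inf.mp haS).1 ha1' le_rfl hVK (hAVK a haS) hZW hfixa
  · have hAK : A ≤ normalizer (K : Set G) := inf_eq_left.mp heq
    -- the multiplier of `A` on `Z / K`
    obtain ⟨z₀, hz₀, hz₀K⟩ : ∃ z ∈ Z, z ∉ K := by
      by_contra h
      push Not at h
      rw [relIndex_eq_one.mpr h] at hKi
      exact hq.out.one_lt.ne' hKi.symm
    have hKnZ : (K.subgroupOf Z).Normal := normal_subgroupOf_of_le_normalizer hKn
    have hcard : Nat.card (Z ⧸ K.subgroupOf Z) = q := hKi
    have hspan : ∀ x ∈ Z, ∃ i : ℕ, (z₀ ^ i)⁻¹ * x ∈ K := by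
      intro x hx
      have hz1 : (QuotientGroup.mk ⟨z₀, hz₀⟩ : Z ⧸ K.subgroupOf Z) ≠ 1 := fun e =>
        hz₀K (mem_subgroupOf.mp ((QuotientGroup.eq_one_iff _).mp e))
      obtain ⟨i, hi⟩ := Submonoid.mem_powers_iff _ _ |>.mp
        (mem_powers_of_prime_card (g' := (QuotientGroup.mk ⟨x, hx⟩ : Z ⧸ K.subgroupOf Z))
          hcard hz1)
      rw [← QuotientGroup.mk_pow] at hi
      exact ⟨i, by simpa [mem_subgroupOf] using QuotientGroup.eq.mp hi⟩
    have huniq : ∀ i j : ℕ, (z₀ ^ i)⁻¹ * z₀ ^ j ∈ K → (i : ZMod q) = j := by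
      intro i j h
      have hq1 : orderOf (QuotientGroup.mk ⟨z₀, hz₀⟩ : Z ⧸ K.subgroupOf Z) = q := by
        refine orderOf_eq_prime (hcard ▸ pow_card_eq_one') fun e =>
          hz₀K (mem_subgroupOf.mp ((QuotientGroup.eq_one_iff _).mp e))
      rw [ZMod.natCast_eq_natCast_iff]
      refine (pow_eq_pow_iff_modEq.mp ?_ : i ≡ j [MOD orderOf
        (QuotientGroup.mk ⟨z₀, hz₀⟩ : Z ⧸ K.subgroupOf Z)]).trans (by rw [Nat.ModEq]) |>
          fun hm => hq1 ▸ hm
      rw [← QuotientGroup.mk_pow, ← QuotientGroup.mk_pow, QuotientGroup.eq]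
      simpa [mem_subgroupOf] using h
    choose k hk using fun a : A =>
      hspan ((a : G) * z₀ * (a : G)⁻¹) ((mem_normalizer_iff.mp (hAZ a.2) z₀).mp hz₀)
    let χ : A →* ZMod q :=
      { toFun := fun a => (k a : ZMod q)
        map_one' := by
          rw [← Nat.cast_one]
          refine huniq _ _ ?_
          simpa using hk 1
        map_mul' := fun a b => by
          rw [← Nat.cast_mul]
          refine huniq _ _ ?_
          -- `(a b) z₀ (a b)⁻¹` is congruent to `z₀ ^ (k a * k b)`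
          have h1 : ((a : G) * z₀ ^ k b * (a : G)⁻¹)⁻¹ * (((a * b : A) : G) * z₀ * ((a * b : A) : G)⁻¹) ∈ K := by
            have h := (mem_normalizer_iff.mp (hAK a.2) _).mp (hk b)
            simpa [mul_assoc] using h
          have h2 : (z₀ ^ (k a * k b))⁻¹ * ((a : G) * z₀ ^ k b * (a : G)⁻¹) ∈ K := by
            have hzc : Commute (z₀ ^ k a)⁻¹ ((a : G) * z₀ * (a : G)⁻¹) :=
              congrArg Subtype.val (hZc.is_comm.comm (⟨_, inv_mem (pow_mem hz₀ (k a))⟩ : Z)
                ⟨_, (mem_normalizer_iff.mp (hAZ a.2) z₀).mp hz₀⟩)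
            have h := pow_mem (hk a) (k b)
            rw [hzc.mul_pow, inv_pow, ← pow_mul, conj_pow] at h
            exact h
          have h3 := mul_mem (inv_mem (hk (a * b))) (mul_mem h2 h1)
          have e : ((z₀ ^ k (a * b))⁻¹ * (((a * b : A) : G) * z₀ * ((a * b : A) : G)⁻¹)) *
              ((z₀ ^ (k a * k b))⁻¹ * (((a * b : A) : G) * z₀ * ((a * b : A) : G)⁻¹))⁻¹ =
              (z₀ ^ k (a * b))⁻¹ * z₀ ^ (k a * k b) := by group
          rw [← e]
          refine mul_mem (hk (a * b)) (inv_mem ?_)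
          have h4 := mul_mem h2 h1
          simpa [mul_assoc] using h4 }
    have hNA : ∃ a : A, a ≠ 1 ∧ χ a = 1 := by
      by_contra h
      push Not at h
      obtain ⟨p₁, p₂, -, -, -, hnc⟩ := hA
      refine hnc (isCyclic_of_injective χ.toHomUnits ?_)
      rw [injective_iff_map_eq_one]
      intro a ha
      by_contra ha1
      exact h a ha1 (congrArg Units.val ha)
    have hkerK : ∀ a : A, χ a = 1 → ∀ z ∈ Z, ⁅z, (a : G)⁆ ∈ K := by
      intro a ha z hz
      obtain ⟨i, hi⟩ := hspan z hz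
      have ha' : (k a : ZMod q) = ((1 : ℕ) : ZMod q) := by
        rw [Nat.cast_one]; exact ha
      have hz0a : z₀ * ((a : G) * z₀⁻¹ * (a : G)⁻¹) ∈ K := by
        have hdiv : (z₀ ^ k a)⁻¹ * z₀ ∈ K := by
          have hm : k a ≡ 1 [MOD q] := (ZMod.natCast_eq_natCast_iff _ _ _).mp ha'
          have h0 : (QuotientGroup.mk (⟨z₀, hz₀⟩ ^ k a : Z) : Z ⧸ K.subgroupOf Z) =
              QuotientGroup.mk ⟨z₀, hz₀⟩ := by
            rw [QuotientGroup.mk_pow, pow_eq_pow_mod _ (hcard ▸ pow_card_eq_one'), hm,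
              ← pow_eq_pow_mod _ (hcard ▸ pow_card_eq_one'), pow_one]
          simpa [mem_subgroupOf] using QuotientGroup.eq.mp h0
        have := mul_mem (inv_mem hdiv) (hk a)
        have e : ((z₀ ^ k a)⁻¹ * z₀)⁻¹ * ((z₀ ^ k a)⁻¹ * ((a : G) * z₀ * (a : G)⁻¹)) =
            z₀⁻¹ * ((a : G) * z₀ * (a : G)⁻¹) := by group
        rw [e] at this
        have h2 := inv_mem ((mem_normalizer_iff.mp (hKn z₀ hz₀) _).mp this)
        simpa [mul_assoc] using h2
      let M : Subgroup G :=
        { carrier := {x | x ∈ Z ∧ ⁅x, (a : G)⁆ ∈ K}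
          one_mem' := ⟨one_mem _, by simp⟩
          mul_mem' := fun {x y} hx hy => ⟨mul_mem hx.1 hy.1, by
            rw [show ⁅x * y, (a : G)⁆ = x * ⁅y, (a : G)⁆ * x⁻¹ * ⁅x, (a : G)⁆ by
              simp only [commutatorElement_def]; group]
            exact mul_mem ((mem_normalizer_iff.mp (hKn x hx.1) _).mp hy.2) hx.2⟩
          inv_mem' := fun {x} hx => ⟨inv_mem hx.1, by
            have h := (mem_normalizer_iff.mp (hKn x⁻¹ (inv_mem hx.1)) _).mp (inv_mem hx.2)
            simpa [commutatorElement_def, mul_assoc] using h⟩ }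
      have hKM : ∀ x ∈ K, x ∈ M := fun x hx => ⟨hKZ hx, by
        rw [commutatorElement_def]
        have := mul_mem hx ((mem_normalizer_iff.mp (hAK a.2) _).mp (inv_mem hx))
        simpa [mul_assoc] using this⟩
      have hz₀M : z₀ ∈ M := ⟨hz₀, by simpa [commutatorElement_def, mul_assoc] using hz0a⟩
      have := mul_mem (pow_mem hz₀M i) (hKM _ hi)
      rw [mul_inv_cancel_left] at this
      exact this.2
    obtain ⟨⟨a, haA⟩, ha1, hχ⟩ := hNA
    have ha1' : a ≠ 1 := fun e => ha1 (Subtype.ext e)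
    have haK : ∀ z ∈ Z, ⁅z, a⁆ ∈ K := hkerK ⟨a, haA⟩ hχ
    refine ⟨a, haA, ha1', hAK haA, haK, ?_⟩
    by_contra hne
    set W := V ⊓ centralizer (K : Set G) ⊓ centralizer ({a} : Set G) with hW
    -- the kernel of `χ`
    obtain ⟨b, hbA, hbN⟩ : ∃ b ∈ A, ∃ hb : b ∈ A, χ ⟨b, hb⟩ ≠ 1 := by
      by_contra h
      push Not at h
      have hcomm : ⁅Z, A⁆ ≤ K := commutator_le.mpr fun z hz x hx =>
        hkerK ⟨x, hx⟩ (h x hx hx) z hz
      have hZ' := H1.commutator_sup_centralizer_eq hAZ hcopAZ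
        (Or.inr (Group.isSolvable_of_comm fun u w => hZc.is_comm.comm u w))
      rw [hZA, sup_bot_eq] at hZ'
      exact hz₀K (hcomm (hZ'.ge hz₀))
    obtain ⟨_, hb⟩ := hbN
    have hb1 : b ≠ 1 := fun e => hb (by
      have : (⟨b, hbA⟩ : A) = 1 := Subtype.ext e
      rw [this, map_one])
    have hbn : ∀ i : ℤ, a ^ i ≠ b := by
      intro i hi
      refine hb ?_
      have : (⟨b, hbA⟩ : A) = (⟨a, haA⟩ : A) ^ i := Subtype.ext (by simp [hi])
      have h2 : (⟨a, haA⟩ : A) ∈ χ.toHomUnits.ker := MonoidHom.mem_ker.mpr (Units.ext hχ)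
      have h3 := MonoidHom.mem_ker.mp (zpow_mem h2 i)
      rw [this]
      exact congrArg Units.val h3
    have hAgen : zpowers a ⊔ zpowers b = A :=
      hA.eq_sup (zpowers_le.mpr haA) (by simp [ha1']) hbA
        (fun h => by obtain ⟨i, hi⟩ := mem_zpowers_iff.mp h; exact hbn i hi)
    have hconjN : ∀ x ∈ A, x * a * x⁻¹ ∈ zpowers a := by
      intro x hx
      have hmem : (⟨x, hx⟩ * ⟨a, haA⟩ * ⟨x, hx⟩⁻¹ : A) ∈ χ.toHomUnits.ker := by
        refine (MonoidHom.normal_ker _).conj_mem _ (MonoidHom.mem_ker.mpr (Units.ext hχ)) _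
      have hlt : (χ.toHomUnits.ker.map A.subtype) < A := by
        refine lt_of_le_of_ne (map_subtype_le _) fun e => hb ?_
        obtain ⟨⟨b', hb'⟩, hb'k, hbe⟩ := e.ge hbA
        have : (⟨b, hbA⟩ : A) = ⟨b', hb'⟩ := Subtype.ext hbe.symm
        rw [this]
        exact congrArg Units.val (MonoidHom.mem_ker.mp hb'k)
      have hpa : zpowers a ≤ χ.toHomUnits.ker.map A.subtype :=
        zpowers_le.mpr ⟨⟨a, haA⟩, MonoidHom.mem_ker.mpr (Units.ext hχ), rfl⟩
      have hpr := hA.prime_card_of_lt hlt (ne_bot_of_le_ne_bot (by simp [ha1']) hpa)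
      have heq : zpowers a = χ.toHomUnits.ker.map A.subtype := by
        refine eq_of_le_of_card_ge hpa ?_
        rcases (Nat.dvd_prime hpr).mp (card_dvd_of_le hpa) with h | h
        · exact absurd (by simpa using h) ha1'
        · exact h.ge
      rw [heq]
      exact ⟨_, hmem, rfl⟩
    have hbW : b ∈ normalizer (W : Set G) := by
      refine inf_normalizer_le_normalizer_inf
        (mem_inf.mpr ⟨hAVK b (heq.ge hbA), ?_⟩)
      rw [show centralizer ({a} : Set G) = centralizer ((zpowers a : Subgroup G) : Set G) by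
        rw [zpowers_eq_closure, centralizer_closure]]
      refine mem_normalizer_centralizer (mem_normalizer_iff.mpr fun c => ?_)
      have hle : ∀ x ∈ A, ∀ c ∈ zpowers a, x * c * x⁻¹ ∈ zpowers a := by
        intro x hx c hc
        obtain ⟨i, rfl⟩ := mem_zpowers_iff.mp hc
        rw [← conj_zpow]
        exact zpow_mem (hconjN x hx) i
      refine ⟨hle b hbA c, fun hc => ?_⟩
      simpa [mul_assoc] using hle b⁻¹ (inv_mem hbA) _ hc
    have hZnW : Z ≤ normalizer (W : Set G) := by
      intro z hz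
      have hconj : ∀ z ∈ Z, ∀ w ∈ W, z * w * z⁻¹ ∈ W := by
        intro z hz w hw
        obtain ⟨hwK, hwa⟩ := mem_inf.mp hw
        refine mem_inf.mpr ⟨(mem_normalizer_iff.mp (hZW hz) w).mp hwK,
          mem_centralizer_singleton'.mpr ?_⟩
        have hk' := haK z⁻¹ (inv_mem hz)
        have e1 : a * z = z * ⁅z⁻¹, a⁆ * a := by simp only [commutatorElement_def]; group
        have e2 : ⁅z⁻¹, a⁆ * w = w * ⁅z⁻¹, a⁆ :=
          mem_centralizer_iff.mp (mem_inf.mp hwK).2 _ hk'
        have e3 := mem_centralizer_singleton'.mp hwa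
        calc a * (z * w * z⁻¹) = z * ⁅z⁻¹, a⁆ * (a * w) * z⁻¹ := by rw [← mul_assoc, ← mul_assoc, e1]; group
          _ = z * (⁅z⁻¹, a⁆ * w) * a * z⁻¹ := by rw [e3]; group
          _ = z * w * z⁻¹ * a := by rw [e2]; simp only [commutatorElement_def]; group
      refine mem_normalizer_iff.mpr fun w => ⟨hconj z hz w, fun hw => ?_⟩
      simpa [mul_assoc] using hconj z⁻¹ (inv_mem hz) _ hw
    have hfixW : W ⊓ centralizer ({b} : Set G) = ⊥ := by
      refine le_bot_iff.mp ((le_inf (inf_le_left.trans (inf_le_left.trans inf_le_left)) ?_).trans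
        hVA.le)
      rw [le_centralizer_iff, ← hAgen]
      refine sup_le ?_ ?_ <;> rw [zpowers_le, mem_centralizer_iff]
      · exact fun w hw => (mem_centralizer_singleton'.mp (mem_inf.mp (mem_inf.mp hw).1).2).symm
      · exact fun w hw => (mem_centralizer_singleton'.mp (mem_inf.mp hw).2).symm
    have hbK := frob W b hbA hb1 inf_le_left hne hbW hZnW hfixW
    refine hb ?_
    show (k ⟨b, hbA⟩ : ZMod q) = 1
    rw [← Nat.cast_one]
    refine huniq _ _ ?_
    have h1 := hbK z₀ hz₀
    have h2 := (mem_normalizer_iff.mp (hKn z₀⁻¹ (inv_mem hz₀)) _).mp (inv_mem h1)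
    have h3 := mul_mem (hk ⟨b, hbA⟩) (inv_mem h2)
    simpa [commutatorElement_def, mul_assoc, pow_one] using h3

end H1.PairFPF
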