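import Cfsg.Agent.H1.PairFPF.Config

/-!
A class two group of odd prime power order on which an element of prime order acts without fixed
points outside the derived group cannot act faithfully with that element fixed-point-free.
-/

set_option autoImplicit false
set_option linter.style.haveILetI false

namespace H1.PairFPF

open Subgroup
open scoped commutatorElement

variable {G : Type*} [Group G]

theorem classTwo_false [Finite G] {v q n : ℕ} [hv : Fact v.Prime] [hq : Fact q.Prime]
    {V Q : Subgroup G} {a : G} (hn : n.Prime) (han : orderOf a = n) (hqv : q ≠ v) (hnv : n ≠ v)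
    (hnq : n ≠ q) (hq2 : q ≠ 2) (hV : Cfsg.IsElementaryAbelian v V) (hQ : IsPGroup q Q)
    (haV : a ∈ normalizer (V : Set G)) (haQ : a ∈ normalizer (Q : Set G))
    (hQV : Q ≤ normalizer (V : Set G)) (hfaith : Q ⊓ centralizer (V : Set G) = ⊥)
    (hCV : V ⊓ centralizer ({a} : Set G) = ⊥) (hQQ : ⁅Q, Q⁆ ≤ centralizer (Q : Set G))
    (hQa : ⁅Q, Q⁆ ≤ centralizer ({a} : Set G))
    (hpow : ∀ x ∈ Q, x ^ q ∈ centralizer (Q : Set G)) (hgen : ⁅Q, zpowers a⁆ = Q)
    (hnab : ¬ IsMulCommutative Q) : False := by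
  haveI := hV.1
  set Z := ⁅Q, Q⁆ with hZdef
  have hZQ : Z ≤ Q := commutator_le_self Q
  haveI : IsMulCommutative Z := ⟨⟨fun x y => Subtype.ext
    (mem_centralizer_iff.mp (hQQ y.2) x (hZQ x.2))⟩⟩
  have hexp : ∀ x ∈ Z, x ^ q = 1 := by
    let M : Subgroup G :=
      { carrier := {z | z ∈ Z ∧ z ^ q = 1}
        one_mem' := ⟨one_mem _, one_pow _⟩
        mul_mem' := fun {x y} hx hy => ⟨mul_mem hx.1 hy.1, by
          have : Commute x y := mem_centralizer_iff.mp (hQQ hy.1) x (hZQ hx.1)
          rw [this.mul_pow, hx.2, hy.2, one_mul]⟩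
        inv_mem' := fun {x} hx => ⟨inv_mem hx.1, by rw [inv_pow, hx.2, inv_one]⟩ }
    have hle : Z ≤ M := commutator_le.mpr fun x hx y hy => by
      refine ⟨commutator_mem_commutator hx hy, ?_⟩
      have hc : ∀ i : ℕ, Commute (x ^ i) ⁅x, y⁆ := fun i =>
        mem_centralizer_iff.mp (hQQ (commutator_mem_commutator hx hy)) _ (pow_mem hx i)
      have h1 : ∀ k : ℕ, ⁅x ^ k, y⁆ = ⁅x, y⁆ ^ k := by
        intro k
        induction k with
        | zero => simp
        | succ k ih =>
          rw [show ⁅x ^ (k + 1), y⁆ = x ^ k * ⁅x, y⁆ * (x ^ k)⁻¹ * ⁅x ^ k, y⁆ by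
            simp only [commutatorElement_def, pow_succ]; group, (hc k).eq, mul_inv_cancel_right, ih,
            ← pow_succ']
      rw [← h1, commutatorElement_eq_one_iff_mul_comm]
      exact (mem_centralizer_iff.mp (hpow x hx) y hy).symm
    exact fun x hx => (hle hx).2
  obtain ⟨z, hz, hz1⟩ : ∃ z ∈ Z, z ≠ 1 := by
    by_contra hall
    push Not at hall
    refine hnab ⟨⟨fun x y => Subtype.ext ?_⟩⟩
    exact commutatorElement_eq_one_iff_mul_comm.mp
      (hall _ (commutator_mem_commutator x.2 y.2))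
  have hVp : IsPGroup v V := fun x => ⟨1, Subtype.ext (by simpa using hV.2 x x.2)⟩
  have hzc : z ∉ centralizer (V : Set G) := fun h =>
    hz1 (mem_bot.mp (hfaith.le (mem_inf.mpr ⟨hZQ hz, h⟩)))
  obtain ⟨j, hj⟩ := hVp.exists_card_eq
  obtain ⟨K, hKZ, hzK, hKi, -, hzW⟩ := exists_kernel (q := q) V Z hexp (hZQ.trans hQV)
    (hj ▸ ((Nat.coprime_primes Fact.out Fact.out).mpr hqv.symm).pow_left j) hz hzc
  set W := V ⊓ centralizer (K : Set G) with hW
  set L := Q ⊓ centralizer (W : Set G) with hL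
  set N := normalizer (L : Set G) with hN
  have hQK : Q ≤ centralizer (K : Set G) := le_centralizer_iff.mp (hKZ.trans hQQ)
  have haK : a ∈ normalizer (K : Set G) := centralizer_le_normalizer _ (mem_centralizer_iff.mpr
    fun k hk => (mem_centralizer_singleton'.mp (hQa (hKZ hk))).symm)
  have hQW : Q ≤ normalizer (W : Set G) :=
    le_normalizer_inf' hQV (le_normalizer_centralizer' (hQK.trans (centralizer_le_normalizer _)))
  have haW : a ∈ normalizer (W : Set G) :=
    inf_normalizer_le_normalizer_inf (mem_inf.mpr ⟨haV, mem_normalizer_centralizer haK⟩)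
  have hQN : Q ≤ N := le_normalizer_inf' le_normalizer (le_normalizer_centralizer' hQW)
  have haN : a ∈ N :=
    inf_normalizer_le_normalizer_inf (mem_inf.mpr ⟨haQ, mem_normalizer_centralizer haW⟩)
  have hzN : zpowers a ≤ N := zpowers_le.mpr haN
  have hWN : W ≤ N :=
    (le_centralizer_iff.mp inf_le_right).trans (centralizer_le_normalizer _)
  have hWp : IsPGroup v W := hVp.to_le inf_le_left
  have hcopW : (Nat.card Q).Coprime (Nat.card W) := coprime_of_isPGroup hqv hQ hWp
  have hzW' : zpowers a ≤ normalizer (W : Set G) := zpowers_le.mpr haW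
  have hLK : Z ⊓ L = K := by
    have hK : K ≤ Z ⊓ L :=
      le_inf hKZ (le_inf (hKZ.trans hZQ) (le_centralizer_iff.mp inf_le_right))
    have hd := relIndex_dvd_of_le_left Z hK
    rw [hKi] at hd
    rcases (Nat.dvd_prime hq.out).mp hd with h | h
    · exact absurd (mem_inf.mp (mem_inf.mp (relIndex_eq_one.mp h hz)).2).2 hzW
    · refine (le_antisymm hK (relIndex_eq_one.mp ?_)).symm
      have := relIndex_mul_relIndex K _ Z hK inf_le_left
      rw [h, hKi] at this
      exact Nat.eq_of_mul_eq_mul_right hq.out.pos (this.trans (one_mul q).symm)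
  have hcardZ : Nat.card (sect L Z) = q := by
    rw [sect, ← relIndex_ker, QuotientGroup.ker_mk', relIndex_subgroupOf (hZQ.trans hQN),
      ← inf_relIndex_right, inf_comm, hLK, hKi]
  set a' := QuotientGroup.mk' (L.subgroupOf N) ⟨a, haN⟩ with ha'
  have hza : sect L (zpowers a) = zpowers a' := sect_zpowers haN
  have hna : ∀ X : Subgroup G, (∃ p, p.Prime ∧ n ≠ p ∧ IsPGroup p X) →
      (Nat.card (zpowers a)).Coprime (Nat.card X) := by
    rintro X ⟨p, hp, hnp, hX⟩
    haveI := Fact.mk hp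
    obtain ⟨i, hi⟩ := hX.exists_card_eq
    rw [Nat.card_zpowers, han, hi]
    exact ((Nat.coprime_primes hn hp).mpr hnp).pow_right i
  have ha'1 : a' ≠ 1 := by
    intro h
    rw [ha', QuotientGroup.mk'_apply, QuotientGroup.eq_one_iff] at h
    have hd : n ∣ Nat.card Q := han ▸ orderOf_dvd_natCard Q (inf_le_left (b := centralizer (W : Set G)) h)
    have hco := hna Q ⟨q, hq.out, hnq, hQ⟩
    rw [Nat.card_zpowers, han] at hco
    exact hn.one_lt.ne' (Nat.eq_one_of_dvd_coprimes hco dvd_rfl hd)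
  have hord : orderOf a' = n := by
    haveI := Fact.mk hn
    refine orderOf_eq_prime ?_ ha'1
    rw [ha', ← map_pow, show (⟨a, haN⟩ : N) ^ n = 1 from Subtype.ext (han ▸ pow_orderOf_eq_one a),
      map_one]
  have hz' : centralizer ({a'} : Set _) = centralizer (sect L (zpowers a) : Set _) := by
    rw [hza, centralizer_zpowers']
  have hQne : sect L Q ≠ ⊥ := fun h => by
    rw [sect_eq_bot_iff hQN] at h
    have := inf_eq_left.mpr (hZQ.trans h)
    rw [hLK] at this
    exact hzK (this ▸ hz)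
  refine hq2 (commutator_extraspecial (V := sect L W) (Q := sect L Q) (Z := sect L Z) (a := a')
    hn hord hqv hnv hnq ?_ (isPGroup_sect hQ) ?_ ?_ (sect_le_normalizer hQW) ?_ ?_ hcardZ ?_
    (sect_le_centralizer hQQ) ?_ ?_ hQne ?_).1
  · refine ⟨isMulCommutative_sect hWN ?_, ?_⟩
    · refine le_trans ?_ bot_le
      rw [le_bot_iff, commutator_eq_bot_iff_le_centralizer]
      exact fun x hx => mem_centralizer_iff.mpr fun y hy => congrArg Subtype.val
        ((isMulCommutative_of_le hV.1 (inf_le_left : W ≤ V)).is_comm.comm (⟨y, hy⟩ : W) ⟨x, hx⟩)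
    · rintro _ ⟨x, hx, rfl⟩
      rw [← map_pow, show x ^ v = 1 from Subtype.ext (hV.2 _ (mem_inf.mp hx).1), map_one]
  · rw [← zpowers_le, ← hza]; exact sect_le_normalizer hzW'
  · rw [← zpowers_le, ← hza]; exact sect_le_normalizer (zpowers_le.mpr haQ)
  · refine eq_bot_iff.mpr fun y hy => ?_
    obtain ⟨⟨x, hx, rfl⟩, hc⟩ := mem_inf.mp hy
    refine mem_bot.mpr ((QuotientGroup.eq_one_iff _).mpr ?_)
    show (x : G) ∈ L
    refine mem_inf.mpr ⟨hx, mem_centralizer_iff.mpr fun w hw => ?_⟩
    have h1 : QuotientGroup.mk' (L.subgroupOf N) ⁅x, ⟨w, hWN hw⟩⁆ = 1 := by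
      rw [map_commutatorElement, commutatorElement_eq_one_iff_mul_comm]
      exact (mem_centralizer_iff.mp hc _ ⟨⟨w, hWN hw⟩, hw, rfl⟩).symm
    have h2 : ⁅(x : G), w⁆ ∈ L := mem_subgroupOf.mp ((QuotientGroup.eq_one_iff _).mp h1)
    have h3 : ⁅(x : G), w⁆ ∈ W := by
      rw [commutatorElement_def]
      exact mul_mem ((mem_normalizer_iff.mp (hQW hx) w).mp hw) (inv_mem hw)
    have h4 := Subgroup.disjoint_def.mp (Subgroup.disjoint_of_coprime_natCard
      (hcopW.symm.coprime_dvd_right (card_dvd_of_le (inf_le_left : L ≤ Q)))) h3 h2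
    exact (commutatorElement_eq_one_iff_mul_comm.mp h4).symm
  · rw [hz', ← sect_inf_centralizer hWN hzN hzW' (hna W ⟨v, hv.out, hnv, hWp⟩)
      (isSolvable_zpowers' a), centralizer_zpowers', sect_eq_bot_iff (inf_le_left.trans hWN)]
    exact ((inf_le_inf_right _ inf_le_left).trans hCV.le).trans bot_le
  · rw [← sect_commutator hQN hQN]
  · rw [hz']
    exact sect_le_centralizer (hQa.trans (centralizer_zpowers' a).ge)
  · rintro _ ⟨x, hx, rfl⟩
    rw [mem_centralizer_iff]
    rintro _ ⟨y, hy, rfl⟩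
    rw [← map_pow, ← map_mul, ← map_mul]
    exact congrArg _ (Subtype.ext (mem_centralizer_iff.mp (hpow _ hx) y hy))
  · rw [← hza, ← sect_commutator hQN hzN, hgen]
    exact hQne

end H1.PairFPF
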