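import Mathlib

/-! A commuting isometry of an irreducible isometry of order `2 ^ m + 1` in characteristic two. -/

set_option autoImplicit false

namespace H1.PairFPF

open Polynomial

variable {X C : Type*} [AddCommGroup X] [Module (ZMod 2) X] [Group C]

theorem expand_two_pow (m : ℕ) (f : (ZMod 2)[X]) :
    expand (ZMod 2) (2 ^ m) f = f ^ 2 ^ m := by
  induction m with
  | zero => simp
  | succ m ih =>
    rw [pow_succ', expand_mul, ih, map_pow, ZMod.expand_card, ← pow_mul]

/-- An isometry commuting with an isometry of order dividing `2 ^ m + 1` with a cyclic vector has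
order dividing `2 ^ m + 1`. -/
theorem pow_eq_one_of_commute_isometry (β : X → X → C)
    (hl : ∀ u u' w, β (u + u') w = β u w * β u' w) (hr : ∀ u w w', β u (w + w') = β u w * β u w')
    (hnd : ∀ w, (∀ u, β u w = 1) → w = 0) (b y : Module.End (ZMod 2) X) (m : ℕ)
    (hb : ∀ u w, β (b u) (b w) = β u w) (hy : ∀ u w, β (y u) (y w) = β u w)
    (hbn : b ^ (2 ^ m + 1) = 1) (hcomm : Commute b y) (u₀ : X)
    (hspan : ∀ x, ∃ f : (ZMod 2)[X], aeval b f u₀ = x) : y ^ (2 ^ m + 1) = 1 := by
  set c := b ^ 2 ^ m with hc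
  have hbc : b * c = 1 := by rw [hc, ← pow_succ', hbn]
  have hadj : ∀ i u w, β ((b ^ i) u) w = β u ((c ^ i) w) := by
    intro i
    induction i with
    | zero => intro u w; simp
    | succ i ih =>
      intro u w
      have h2 : w = b (c w) := by rw [← Module.End.mul_apply, hbc, Module.End.one_apply]
      conv_lhs => rw [pow_succ', Module.End.mul_apply, h2]
      rw [hb, ih, pow_succ, Module.End.mul_apply]
  have hfull : ∀ (f : (ZMod 2)[X]) u w, β (aeval b f u) w = β u (aeval c f w) := by
    intro f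
    induction f using Polynomial.induction_on' with
    | add f g hf hg =>
      intro u w
      simp only [map_add, LinearMap.add_apply, hl, hr, hf, hg]
    | monomial i a =>
      intro u w
      rcases (by decide : ∀ a : ZMod 2, a = 0 ∨ a = 1) a with rfl | rfl
      · have h0 : ∀ u w, β 0 w = 1 ∧ β u 0 = 1 := fun u w => by
          constructor
          · have := hl 0 0 w; rw [add_zero] at this; exact left_eq_mul.mp this
          · have := hr u 0 0; rw [add_zero] at this; exact left_eq_mul.mp this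
        simp [(h0 u w).1, (h0 u w).2]
      · simpa [aeval_monomial] using hadj i u w
  obtain ⟨f, hf⟩ := hspan (y u₀)
  have hyf : y = aeval b f := by
    refine LinearMap.ext fun x => ?_
    obtain ⟨g, rfl⟩ := hspan x
    have h1 : Commute y (aeval b g) := by
      induction g using Polynomial.induction_on' with
      | add g g' hg hg' => rw [map_add]; exact hg.add_right hg'
      | monomial i a =>
        rw [aeval_monomial]
        exact (show Commute y (algebraMap _ _ a) from (Algebra.commutes a y).symm).mul_right (hcomm.symm.pow_right i)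
    calc y (aeval b g u₀) = aeval b g (y u₀) := by
          rw [← Module.End.mul_apply, h1.eq, Module.End.mul_apply]
      _ = aeval b g (aeval b f u₀) := by rw [hf]
      _ = aeval b f (aeval b g u₀) := by
          rw [← Module.End.mul_apply, ← map_mul, mul_comm, map_mul, Module.End.mul_apply]
  have hcf : aeval c f = y ^ 2 ^ m := by
    rw [hc, ← expand_aeval (2 ^ m) f b, expand_two_pow, map_pow, ← hyf]
  refine LinearMap.ext fun w => ?_
  rw [Module.End.one_apply, ← sub_eq_zero]
  refine hnd _ fun u => ?_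
  have h1 : β u ((y ^ (2 ^ m + 1)) w) = β u w := by
    rw [pow_succ, Module.End.mul_apply, ← hcf, ← hfull, ← hyf, hy]
  have h2 := hr u ((y ^ (2 ^ m + 1)) w - w) w
  rw [sub_add_cancel, h1] at h2
  exact right_eq_mul.mp h2

/-- A submodule on which an endomorphism of prime order `2 ^ m + 1` acts without fixed points has
dimension at least `2 * m`. -/
theorem le_finrank_of_fpf [Finite X] {W : Submodule (ZMod 2) X} {b : Module.End (ZMod 2) X} {m : ℕ}
    (hm : m ≠ 0) (hn : (2 ^ m + 1).Prime) (hbn : b ^ (2 ^ m + 1) = 1)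
    (hW : ∀ x ∈ W, b x ∈ W) (hW0 : W ≠ ⊥) (hfix : ∀ x ∈ W, b x = x → x = 0) :
    2 * m ≤ Module.finrank (ZMod 2) W := by
  classical
  have := Fact.mk hn
  let σ : Module.End (ZMod 2) W := b.restrict hW
  have hσ : ∀ i x, ((σ ^ i) x : X) = (b ^ i) x := by
    intro i
    induction i with
    | zero => intro x; rfl
    | succ i ih =>
      intro x
      rw [pow_succ', pow_succ', Module.End.mul_apply, Module.End.mul_apply, ← ih]
      rfl
  have hσn : σ ^ (2 ^ m + 1) = 1 := LinearMap.ext fun x => Subtype.ext (by rw [hσ, hbn]; rfl)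
  let e : Equiv.Perm W :=
    { toFun := fun x => σ x
      invFun := fun x => (σ ^ 2 ^ m) x
      left_inv := fun x => by beta_reduce; rw [← Module.End.mul_apply, ← pow_succ, hσn]; rfl
      right_inv := fun x => by beta_reduce; rw [← Module.End.mul_apply, ← pow_succ', hσn]; rfl }
  have he : ∀ i x, (e ^ i) x = (σ ^ i) x := by
    intro i
    induction i with
    | zero => intro x; rfl
    | succ i ih =>
      intro x
      rw [pow_succ', pow_succ', Equiv.Perm.mul_apply, ih]
      rfl
  have hP : IsPGroup (2 ^ m + 1) (Subgroup.zpowers e) := by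
    intro g
    obtain ⟨k, hk⟩ := Subgroup.mem_zpowers_iff.mp g.2
    refine ⟨1, Subtype.ext ?_⟩
    have h1 : e ^ (2 ^ m + 1) = 1 := Equiv.ext fun x => by rw [he, hσn]; rfl
    rw [SubmonoidClass.coe_pow, pow_one, ← hk, ← zpow_natCast, ← zpow_mul, mul_comm, zpow_mul,
      zpow_natCast, h1, one_zpow]
    rfl
  have hmod := hP.card_modEq_card_fixedPoints W
  have hfp : Nat.card (MulAction.fixedPoints (Subgroup.zpowers e) W) = 1 := by
    rw [Nat.card_eq_one_iff_unique]
    refine ⟨⟨fun x y => Subtype.ext ?_⟩, ⟨⟨0, fun g => ?_⟩⟩⟩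
    · have h : ∀ x : MulAction.fixedPoints (Subgroup.zpowers e) W, (x : W) = 0 := fun x =>
        Subtype.ext (hfix _ x.1.2 (congrArg Subtype.val
          (x.2 ⟨e, Subgroup.mem_zpowers e⟩ : e (x : W) = x)))
      rw [h x, h y]
    · obtain ⟨k, hk⟩ := Subgroup.mem_zpowers_iff.mp g.2
      show (g : Equiv.Perm W) 0 = 0
      rw [← hk]
      exact (Equiv.Perm.zpow_apply_eq_self_of_apply_eq_self (map_zero σ) k)
  rw [hfp, Module.natCard_eq_pow_finrank (K := ZMod 2), Nat.card_zmod] at hmod
  set j := Module.finrank (ZMod 2) W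
  have hj0 : j ≠ 0 := fun h => hW0 (Submodule.finrank_eq_zero.mp h)
  have hdvd : 2 ^ m + 1 ∣ 2 ^ j - 1 := (Nat.modEq_iff_dvd' Nat.one_le_two_pow).mp hmod.symm
  by_contra hlt
  push Not at hlt
  rcases le_or_gt j m with h | h
  · have h1 : 2 ^ j ≤ 2 ^ m := Nat.pow_le_pow_right two_pos h
    have h2 : 2 ≤ 2 ^ j := Nat.le_self_pow hj0 2
    have := Nat.le_of_dvd (by omega) hdvd
    omega
  · obtain ⟨d, hd⟩ := Nat.exists_eq_add_of_lt h
    rw [hd] at hdvd hlt
    have h1 : 2 ^ m + 1 ∣ 2 ^ (d + 1) * (2 ^ m + 1) - (2 ^ (m + d + 1) - 1) :=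
      Nat.dvd_sub (dvd_mul_left _ _) hdvd
    have e1 : 2 ^ (d + 1) * (2 ^ m + 1) - (2 ^ (m + d + 1) - 1) = 2 ^ (d + 1) + 1 := by
      have : 2 ^ (d + 1) * (2 ^ m + 1) = 2 ^ (m + d + 1) + 2 ^ (d + 1) := by ring
      have h3 : 1 ≤ 2 ^ (m + d + 1) := Nat.one_le_two_pow
      generalize 2 ^ (d + 1) * (2 ^ m + 1) = A at this ⊢
      generalize 2 ^ (m + d + 1) = B at this h3 ⊢
      generalize 2 ^ (d + 1) = D at this ⊢
      omega
    rw [e1] at h1
    have h2 := Nat.le_of_dvd (by omega) h1
    have h3 : 2 ^ (d + 1) < 2 ^ m := Nat.pow_lt_pow_right one_lt_two (by omega)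
    omega

end H1.PairFPF
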