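import Cfsg.Agent.H1.PairFPF.Basic
import Cfsg.Agent.H1.PairFPF.Symplectic
import Cfsg.Agent.H83.CoprimeAbelian
import Cfsg.Agent.H83.FrobeniusAction
import Cfsg.Agent.H6.Basic
import Cfsg.Agent.H29.Basic
import Cfsg.Agent.S3764

/-!
A `q`-group with cyclic derived group acted on by `R` and by an element of prime order that is
fixed-point-free on a faithful module.
-/

set_option autoImplicit false
set_option linter.style.haveILetI false

namespace H1.PairFPF

open Subgroup
open scoped commutatorElement Pointwise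

variable {G : Type*} [Group G]

/-- An abelian invariant subgroup of `Q` is centralised by `a`. -/
theorem abelian_le_centralizer [Finite G] {V Q M : Subgroup G} [IsMulCommutative V] {a : G} {n : ℕ}
    (hn : n.Prime) (han : orderOf a = n) (haV : a ∈ normalizer (V : Set G))
    (hQV : Q ≤ normalizer (V : Set G)) (hcop : (Nat.card Q).Coprime (Nat.card V))
    (hnQ : (Nat.card Q).Coprime n)
    (hfaith : Q ⊓ centralizer (V : Set G) = ⊥) (hCV : V ⊓ centralizer ({a} : Set G) = ⊥)
    (hMQ : M ≤ Q) (hM : IsMulCommutative M) (haM : a ∈ normalizer (M : Set G)) :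
    M ≤ centralizer ({a} : Set G) := by
  have hz : zpowers a ≤ normalizer (M : Set G) := zpowers_le.mpr haM
  have hLM : ⁅M, zpowers a⁆ ≤ M := H1.commutator_le_left_of_le_normalizer hz
  have hfix : ⁅M, zpowers a⁆ ⊓ centralizer ({a} : Set G) = ⊥ := by
    have := H1.commutator_inf_centralizer_eq_bot hM hz (by
      rw [Nat.card_zpowers, han]; exact (hnQ.coprime_dvd_left (card_dvd_of_le hMQ)).symm)
    rwa [zpowers_eq_closure, centralizer_closure, ← zpowers_eq_closure] at this
  have h := frob_trivial V ⁅M, zpowers a⁆ hn (han ▸ pow_orderOf_eq_one a) haV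
    (H1.right_le_normalizer_commutator (mem_zpowers a)) ((hLM.trans hMQ).trans hQV)
    (hcop.coprime_dvd_left (card_dvd_of_le (hLM.trans hMQ)))
    (hnQ.coprime_dvd_left (card_dvd_of_le (hLM.trans hMQ))) (hfix.le.trans bot_le) hCV
  have h2 : ⁅M, zpowers a⁆ = ⊥ := le_bot_iff.mp ((le_inf (hLM.trans hMQ) h).trans hfaith.le)
  intro x hx
  rw [commutator_eq_bot_iff_le_centralizer] at h2
  exact mem_centralizer_singleton'.mpr (mem_centralizer_iff.mp (h2 hx) a (mem_zpowers a))

/-- An element of `Q` fixed by `a` commutes with `[Q, a]` when `Q'` is central and fixed. -/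
theorem commute_commutator {Q : Subgroup G} {a x : G} (hx : x ∈ Q) (hxa : Commute a x)
    (haQ : a ∈ normalizer (Q : Set G)) (hc : ⁅Q, Q⁆ ≤ centralizer (Q : Set G))
    (hca : ⁅Q, Q⁆ ≤ centralizer ({a} : Set G)) :
    ⁅Q, zpowers a⁆ ≤ centralizer ({x} : Set G) := by
  refine commutator_le.mpr fun y hy b hb => ?_
  obtain ⟨i, rfl⟩ := mem_zpowers_iff.mp hb
  set b := a ^ i
  have hbx : Commute b x := hxa.zpow_left i
  have hbQ : b * y⁻¹ * b⁻¹ ∈ Q :=
    (mem_normalizer_iff.mp (zpow_mem haQ i) _).mp (inv_mem hy)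
  set c := ⁅x, y⁆ with hcdef
  have hcm : c ∈ ⁅Q, Q⁆ := commutator_mem_commutator hx hy
  have hcb : Commute b c :=
    Commute.zpow_left (mem_centralizer_singleton'.mp (hca hcm)) i
  have hcy : Commute c (y * (b * y⁻¹ * b⁻¹)) :=
    (mem_centralizer_iff.mp (hc hcm) _ (mul_mem hy hbQ) : Commute _ c).symm
  refine mem_centralizer_singleton'.mpr ?_
  have e1 : x * y = c * y * x := by simp only [hcdef, commutatorElement_def]; group
  have e2 : x * y⁻¹ = y⁻¹ * c⁻¹ * x := by
    calc x * y⁻¹ = y⁻¹ * c⁻¹ * (c * y * x) * y⁻¹ := by group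
      _ = y⁻¹ * c⁻¹ * (x * y) * y⁻¹ := by rw [e1]
      _ = y⁻¹ * c⁻¹ * x := by group
  calc x * ⁅y, b⁆ = (x * y) * b * y⁻¹ * b⁻¹ := by simp only [commutatorElement_def]; group
    _ = c * y * (x * b) * y⁻¹ * b⁻¹ := by rw [e1]; group
    _ = c * y * (b * x) * y⁻¹ * b⁻¹ := by rw [hbx.eq]
    _ = c * y * b * (x * y⁻¹) * b⁻¹ := by group
    _ = c * y * b * (y⁻¹ * c⁻¹ * x) * b⁻¹ := by rw [e2]
    _ = c * y * b * y⁻¹ * c⁻¹ * (x * b⁻¹) := by group
    _ = c * y * b * y⁻¹ * c⁻¹ * (b⁻¹ * x) := by rw [(hbx.inv_left).eq]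
    _ = c * y * b * y⁻¹ * (c⁻¹ * b⁻¹) * x := by group
    _ = c * y * b * y⁻¹ * (b⁻¹ * c⁻¹) * x := by rw [(hcb.inv_left.inv_right).eq]
    _ = c * (y * (b * y⁻¹ * b⁻¹)) * c⁻¹ * x := by group
    _ = ⁅y, b⁆ * x := by
      rw [hcy.eq, mul_inv_cancel_right]; simp only [commutatorElement_def]; group

section quotient

variable (Q : Subgroup G)

/-- The action of the normaliser of `Q` on the central quotient of `Q`. -/
def centralQuotAction :
    normalizer (Q : Set G) →* MulAut (↥Q ⧸ center ↥Q) where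
  toFun g := QuotientGroup.congr _ _ (Q.normalizerMonoidHom g)
    (characteristic_iff_map_eq.mp inferInstance _)
  map_one' := by
    refine MulEquiv.ext fun u => ?_
    induction u using QuotientGroup.induction_on with
    | _ x => simp
  map_mul' g h := by
    refine MulEquiv.ext fun u => ?_
    induction u using QuotientGroup.induction_on with
    | _ x =>
      show QuotientGroup.mk (Q.normalizerMonoidHom (g * h) x) =
        (QuotientGroup.mk (Q.normalizerMonoidHom g (Q.normalizerMonoidHom h x)) : _ ⧸ center ↥Q)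
      rw [map_mul]; rfl

variable {Q}

theorem centralQuotAction_mk (g : normalizer (Q : Set G)) (x : Q) :
    centralQuotAction Q g (QuotientGroup.mk x) = QuotientGroup.mk (Q.normalizerMonoidHom g x) :=
  rfl

theorem mem_center_iff_mem_centralizer {x : Q} :
    x ∈ center ↥Q ↔ (x : G) ∈ centralizer (Q : Set G) := by
  rw [Subgroup.mem_center_iff, mem_centralizer_iff]
  exact ⟨fun h y hy => congrArg Subtype.val (h ⟨y, hy⟩), fun h y => Subtype.ext (h y y.2)⟩

theorem centralQuot_comm (h : ⁅Q, Q⁆ ≤ centralizer (Q : Set G)) (u w : ↥Q ⧸ center ↥Q) :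
    u * w = w * u := by
  induction u using QuotientGroup.induction_on with | _ u => ?_
  induction w using QuotientGroup.induction_on with | _ w => ?_
  rw [← QuotientGroup.mk_mul, ← QuotientGroup.mk_mul, QuotientGroup.eq,
    mem_center_iff_mem_centralizer]
  have := h (commutator_mem_commutator (inv_mem w.2) (inv_mem u.2))
  simpa [commutatorElement_def, mul_assoc] using this

/-- A fixed coset of the centre contains a fixed point. -/
theorem exists_fixed_rep [Finite G] {S : Subgroup G} (hSQ : S ≤ normalizer (Q : Set G))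
    (hcop : (Nat.card S).Coprime (Nat.card Q)) (hsol : Group.IsSolvable S)
    {u : ↥Q ⧸ center ↥Q} (h : ∀ (s : G) (hs : s ∈ S), centralQuotAction Q ⟨s, hSQ hs⟩ u = u) :
    ∃ c : Q, (c : G) ∈ centralizer (S : Set G) ∧ QuotientGroup.mk c = u := by
  induction u using QuotientGroup.induction_on with | _ x => ?_
  have hN : S ≤ normalizer ((Q ⊓ centralizer (Q : Set G) : Subgroup G) : Set G) := fun s hs =>
    inf_normalizer_le_normalizer_inf (mem_inf.mpr ⟨hSQ hs, mem_normalizer_centralizer (hSQ hs)⟩)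
  obtain ⟨c, hc, hxc⟩ := H1.exists_fixed_mem_coset_of_le (K := Q)
    (N := Q ⊓ centralizer (Q : Set G)) inf_le_left hN hcop (Or.inl hsol) x.2 (fun s hs => by
      refine mem_inf.mpr ⟨mul_mem (inv_mem x.2) ((mem_normalizer_iff.mp (hSQ hs) _).mp x.2), ?_⟩
      have := (h s hs).symm
      rw [centralQuotAction_mk, QuotientGroup.eq, mem_center_iff_mem_centralizer] at this
      exact this)
  exact ⟨⟨c, (mem_inf.mp hc).1⟩, (mem_inf.mp hc).2, (QuotientGroup.eq.mpr
    (mem_center_iff_mem_centralizer.mpr (mem_inf.mp hxc).2)).symm⟩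

theorem commutator_mem_of_fixed {g : normalizer (Q : Set G)} {x : Q}
    (h : centralQuotAction Q g (QuotientGroup.mk x) = QuotientGroup.mk x) :
    ⁅(x : G), (g : G)⁆ ∈ centralizer (Q : Set G) := by
  rw [centralQuotAction_mk, QuotientGroup.eq, mem_center_iff_mem_centralizer] at h
  change ((g : G) * x * (g : G)⁻¹)⁻¹ * x ∈ centralizer (Q : Set G) at h
  have h3 : (x : G) * (((g : G) * x * (g : G)⁻¹)⁻¹ * x) * (x : G)⁻¹ =
      ((g : G) * x * (g : G)⁻¹)⁻¹ * x := by
    rw [mem_centralizer_iff.mp h x x.2, mul_inv_cancel_right]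
  rw [← h3] at h
  simpa [commutatorElement_def, mul_assoc] using h

end quotient

/-- The case where `R` centralises `a` and `Q = [Q, a]` is extraspecial. -/
theorem bcase_false [Finite G] {m : ℕ} {Q R : Subgroup G} {a : G} (hm : m ≠ 0)
    (hn : (2 ^ m + 1).Prime) (han : orderOf a = 2 ^ m + 1) (hnR : ¬ (2 ^ m + 1) ∣ Nat.card R)
    (haQ : a ∈ normalizer (Q : Set G)) (hRQ : R ≤ normalizer (Q : Set G))
    (hcent : ⁅Q, Q⁆ ≤ centralizer (Q : Set G))
    (hcenta : ⁅Q, Q⁆ ≤ centralizer ({a} : Set G)) (hcentR : ⁅Q, Q⁆ ≤ centralizer (R : Set G))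
    (hfix : Q ⊓ centralizer ({a} : Set G) ≤ centralizer (Q : Set G))
    (hcard : Nat.card (↥Q ⧸ center ↥Q) = 2 ^ (2 * m))
    (hexp : ∀ x ∈ Q, x ^ 2 ∈ centralizer (Q : Set G)) (hcopQ : (Nat.card Q).Coprime (2 ^ m + 1))
    (hRa : R ≤ centralizer ({a} : Set G)) : ⁅Q, R⁆ ≤ centralizer (Q : Set G) := by
  classical
  letI : CommGroup (↥Q ⧸ center ↥Q) :=
    { (inferInstance : Group (↥Q ⧸ center ↥Q)) with mul_comm := centralQuot_comm hcent }
  have hexp' : ∀ u : ↥Q ⧸ center ↥Q, u ^ 2 = 1 := fun u => by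
    induction u using QuotientGroup.induction_on with | _ x => ?_
    rw [← QuotientGroup.mk_pow, QuotientGroup.eq_one_iff, mem_center_iff_mem_centralizer]
    exact hexp x x.2
  letI : Module (ZMod 2) (Additive (↥Q ⧸ center ↥Q)) :=
    AddCommGroup.zmodModule (n := 2) fun u => hexp' (Additive.toMul u)
  let ρ := H83.zmodRep 2 (centralQuotAction Q)
  set b := ρ ⟨a, haQ⟩ with hb
  have hbn : b ^ (2 ^ m + 1) = 1 := by
    rw [hb, ← map_pow, show (⟨a, haQ⟩ : normalizer (Q : Set G)) ^ (2 ^ m + 1) = 1 from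
      Subtype.ext (han ▸ pow_orderOf_eq_one a), map_one]
  have hbfix : ∀ u, b u = u → u = 0 := by
    intro u hu
    have hz : zpowers a ≤ normalizer (Q : Set G) := zpowers_le.mpr haQ
    have hfixu : ∀ (s : G) (hs : s ∈ zpowers a),
        centralQuotAction Q ⟨s, hz hs⟩ (Additive.toMul u) = Additive.toMul u := by
      intro s hs
      obtain ⟨i, rfl⟩ := mem_zpowers_iff.mp hs
      have h1 : centralQuotAction Q ⟨a, haQ⟩ ∈ MulAction.stabilizer
          (MulAut (↥Q ⧸ center ↥Q)) (Additive.toMul u) := congrArg Additive.toMul hu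
      have h2 := zpow_mem h1 i
      rw [← map_zpow] at h2
      exact h2
    obtain ⟨c, hc, hcu⟩ := exists_fixed_rep hz
      (by rw [Nat.card_zpowers, han]; exact hcopQ.symm)
      (Group.isSolvable_of_comm fun x y =>
        (IsCyclic.commGroup (α := zpowers a)).mul_comm x y) hfixu
    rw [zpowers_eq_closure, centralizer_closure] at hc
    have : (QuotientGroup.mk c : ↥Q ⧸ center ↥Q) = 1 :=
      (QuotientGroup.eq_one_iff _).mpr (mem_center_iff_mem_centralizer.mpr
        (hfix (mem_inf.mpr ⟨c.2, hc⟩)))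
    rw [hcu] at this
    exact congrArg Additive.ofMul this
  have hfr : Module.finrank (ZMod 2) (Additive (↥Q ⧸ center ↥Q)) = 2 * m := by
    have := Module.natCard_eq_pow_finrank (K := ZMod 2) (V := Additive (↥Q ⧸ center ↥Q))
    rw [Nat.card_congr Additive.toMul, hcard, Nat.card_zmod] at this
    exact (Nat.pow_right_injective le_rfl this).symm
  obtain ⟨u₀, hu₀⟩ : ∃ u : Additive (↥Q ⧸ center ↥Q), u ≠ 0 := by
    by_contra h
    push Not at h
    haveI : Subsingleton (Additive (↥Q ⧸ center ↥Q)) := ⟨fun x y => by rw [h x, h y]⟩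
    rw [Module.finrank_zero_of_subsingleton] at hfr
    omega
  let ev := (LinearMap.applyₗ u₀).comp (Polynomial.aeval (R := ZMod 2) b).toLinearMap
  have hW : LinearMap.range ev = ⊤ := by
    refine Submodule.eq_top_of_finrank_eq (le_antisymm (Submodule.finrank_le _) (hfr ▸ ?_))
    refine le_finrank_of_fpf hm hn hbn ?_ ?_ fun x _ => hbfix x
    · rintro _ ⟨f, rfl⟩
      refine ⟨Polynomial.X * f, ?_⟩
      show Polynomial.aeval b (Polynomial.X * f) u₀ = b (Polynomial.aeval b f u₀)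
      rw [map_mul, Polynomial.aeval_X, Module.End.mul_apply]
    · intro h
      have : ev 1 ∈ LinearMap.range ev := ⟨1, rfl⟩
      rw [h, Submodule.mem_bot] at this
      exact hu₀ (by simpa [ev] using this)
  -- the commutator pairing
  have hmem : ∀ x y : Q, ⁅x, y⁆ ∈ center ↥Q := fun x y => by
    rw [mem_center_iff_mem_centralizer]
    exact hcent (commutator_mem_commutator x.2 y.2)
  let β : Additive (↥Q ⧸ center ↥Q) → Additive (↥Q ⧸ center ↥Q) → center ↥Q := fun u w =>
    ⟨⁅(Additive.toMul u).out, (Additive.toMul w).out⁆, hmem _ _⟩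
  have hβ : ∀ x y : Q, (β (Additive.ofMul (QuotientGroup.mk x))
      (Additive.ofMul (QuotientGroup.mk y)) : ↥Q) = ⁅x, y⁆ := by
    intro x y
    obtain ⟨z, hz⟩ := QuotientGroup.mk_out_eq_mul (center ↥Q) x
    obtain ⟨t, ht⟩ := QuotientGroup.mk_out_eq_mul (center ↥Q) y
    show ⁅(QuotientGroup.mk x : ↥Q ⧸ center ↥Q).out, (QuotientGroup.mk y : ↥Q ⧸ center ↥Q).out⁆ = _
    rw [hz, ht]
    have hz' := Subgroup.mem_center_iff.mp z.2
    have ht' := Subgroup.mem_center_iff.mp t.2
    simp only [commutatorElement_def, mul_inv_rev]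
    calc x * (z : Q) * (y * (t : Q)) * ((z : Q)⁻¹ * x⁻¹) * ((t : Q)⁻¹ * y⁻¹)
        = x * ((z : Q) * (y * (t : Q))) * (z : Q)⁻¹ * x⁻¹ * (t : Q)⁻¹ * y⁻¹ := by group
      _ = x * (y * (t : Q) * (z : Q)) * (z : Q)⁻¹ * x⁻¹ * (t : Q)⁻¹ * y⁻¹ := by rw [← hz']
      _ = x * y * ((t : Q) * x⁻¹) * (t : Q)⁻¹ * y⁻¹ := by group
      _ = x * y * (x⁻¹ * (t : Q)) * (t : Q)⁻¹ * y⁻¹ := by rw [← ht']
      _ = x * y * x⁻¹ * y⁻¹ := by group
  have hsurj : ∀ u : Additive (↥Q ⧸ center ↥Q), ∃ x : Q, Additive.ofMul (QuotientGroup.mk x) = u :=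
    fun u => ⟨(Additive.toMul u).out, congrArg Additive.ofMul (QuotientGroup.out_eq' _)⟩
  have hl : ∀ u u' w, β (u + u') w = β u w * β u' w := by
    intro u u' w
    obtain ⟨x, rfl⟩ := hsurj u
    obtain ⟨x', rfl⟩ := hsurj u'
    obtain ⟨y, rfl⟩ := hsurj w
    refine Subtype.ext ?_
    rw [← ofMul_mul, ← QuotientGroup.mk_mul, Subgroup.coe_mul, hβ, hβ, hβ,
      (Subgroup.mem_center_iff.mp (hmem x' y) ⁅x, y⁆)]
    calc ⁅x * x', y⁆ = x * ⁅x', y⁆ * x⁻¹ * ⁅x, y⁆ := by simp only [commutatorElement_def]; group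
      _ = ⁅x', y⁆ * ⁅x, y⁆ := by rw [Subgroup.mem_center_iff.mp (hmem x' y) x, mul_inv_cancel_right]
  have hr : ∀ u w w', β u (w + w') = β u w * β u w' := by
    intro u w w'
    obtain ⟨x, rfl⟩ := hsurj u
    obtain ⟨y, rfl⟩ := hsurj w
    obtain ⟨y', rfl⟩ := hsurj w'
    refine Subtype.ext ?_
    rw [← ofMul_mul, ← QuotientGroup.mk_mul, Subgroup.coe_mul, hβ, hβ, hβ]
    calc ⁅x, y * y'⁆ = ⁅x, y⁆ * (y * ⁅x, y'⁆ * y⁻¹) := by simp only [commutatorElement_def]; group
      _ = ⁅x, y⁆ * ⁅x, y'⁆ := by rw [Subgroup.mem_center_iff.mp (hmem x y') y, mul_inv_cancel_right]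
  have hnd : ∀ w, (∀ u, β u w = 1) → w = 0 := by
    intro w hw
    obtain ⟨y, rfl⟩ := hsurj w
    refine congrArg Additive.ofMul ((QuotientGroup.eq_one_iff _).mpr ?_)
    refine Subgroup.mem_center_iff.mpr fun x => ?_
    have := congrArg Subtype.val (hw (Additive.ofMul (QuotientGroup.mk x)))
    rw [hβ, OneMemClass.coe_one] at this
    exact commutatorElement_eq_one_iff_mul_comm.mp this
  have hiso : ∀ (g : normalizer (Q : Set G)),
      (∀ z ∈ ⁅Q, Q⁆, (g : G) * z = z * g) → ∀ u w, β (ρ g u) (ρ g w) = β u w := by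
    intro g hg u w
    obtain ⟨x, rfl⟩ := hsurj u
    obtain ⟨y, rfl⟩ := hsurj w
    refine Subtype.ext ?_
    show (β (Additive.ofMul (centralQuotAction Q g _)) (Additive.ofMul (centralQuotAction Q g _)) :
      ↥Q) = _
    rw [toMul_ofMul, toMul_ofMul, centralQuotAction_mk, centralQuotAction_mk, hβ, hβ,
      ← map_commutatorElement]
    refine Subtype.ext ?_
    show (g : G) * ⁅(x : G), (y : G)⁆ * (g : G)⁻¹ = ⁅(x : G), (y : G)⁆
    rw [hg _ (commutator_mem_commutator x.2 y.2), mul_inv_cancel_right]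
  refine commutator_le.mpr fun x hx g hg => ?_
  have hba : b = ρ ⟨a, haQ⟩ := hb
  have hcomm : Commute b (ρ ⟨g, hRQ hg⟩) := by
    rw [hba]
    exact Commute.map (Subtype.ext (mem_centralizer_singleton'.mp (hRa hg)) :
      Commute (⟨a, haQ⟩ : normalizer (Q : Set G)) ⟨g, hRQ hg⟩) ρ
  have hy := pow_eq_one_of_commute_isometry β hl hr hnd b (ρ ⟨g, hRQ hg⟩) m
    (fun u w => by
      rw [hba]
      exact hiso _ (fun z hz => mem_centralizer_singleton'.mp (hcenta hz)) u w)
    (hiso _ fun z hz => mem_centralizer_iff.mp (hcentR hz) g hg) hbn hcomm u₀ (fun x => by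
      have : x ∈ LinearMap.range ev := hW ▸ Submodule.mem_top
      exact this)
  have hy1 : ρ ⟨g, hRQ hg⟩ = 1 := by
    refine orderOf_eq_one_iff.mp (Nat.eq_one_of_dvd_coprimes
      ((Nat.Prime.coprime_iff_not_dvd hn).mpr hnR) (orderOf_dvd_of_pow_eq_one hy) ?_)
    refine (orderOf_map_dvd ρ _).trans ?_
    rw [← orderOf_injective (normalizer (Q : Set G)).subtype Subtype.coe_injective]
    exact orderOf_dvd_natCard R hg
  have h2 := congrArg Additive.toMul
    (LinearMap.congr_fun hy1 (Additive.ofMul (QuotientGroup.mk ⟨x, hx⟩ : ↥Q ⧸ center ↥Q)))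
  change centralQuotAction Q ⟨g, hRQ hg⟩ (QuotientGroup.mk ⟨x, hx⟩) = QuotientGroup.mk ⟨x, hx⟩ at h2
  exact commutator_mem_of_fixed h2

/-- The case where `a` is fixed-point-free on the action of `R`. -/
theorem fcase_false [Finite G] {m : ℕ} {Q R E : Subgroup G} {a : G} (hm : m ≠ 0)
    (hn : (2 ^ m + 1).Prime) (han : orderOf a = 2 ^ m + 1)
    (haQ : a ∈ normalizer (Q : Set G)) (haR : a ∈ normalizer (R : Set G))
    (hRQ : R ≤ normalizer (Q : Set G)) (hcopR : (Nat.card R).Coprime (Nat.card Q))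
    (hnR : ¬ (2 ^ m + 1) ∣ Nat.card R)
    (hcopQ : (Nat.card Q).Coprime (2 ^ m + 1)) (hRsol : Group.IsSolvable R) (hQ : IsPGroup 2 Q)
    (hcent : ⁅Q, Q⁆ ≤ centralizer (Q : Set G)) (hexp : ∀ x ∈ Q, x ^ 2 ∈ centralizer (Q : Set G))
    (hQR : Q ⊓ centralizer (R : Set G) ≤ centralizer (Q : Set G))
    (hRa : R ⊓ centralizer ({a} : Set G) ≤ centralizer (Q : Set G))
    (hE : E = ⁅Q, zpowers a⁆) (hEc : ¬ E ≤ centralizer (Q : Set G))
    (hcardE : Nat.card E = 2 ^ (2 * m + 1))
    (hEC : Nat.card (E ⊓ centralizer ({a} : Set G) : Subgroup G) = 2)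
    (hM : Q ⊓ centralizer (Q : Set G) ≤ centralizer ({a} : Set G))
    (hcomm : ∀ x ∈ Q, Commute a x → E ≤ centralizer ({x} : Set G)) : False := by
  classical
  letI : CommGroup (↥Q ⧸ center ↥Q) :=
    { (inferInstance : Group (↥Q ⧸ center ↥Q)) with mul_comm := centralQuot_comm hcent }
  have hexp' : ∀ u : ↥Q ⧸ center ↥Q, u ^ 2 = 1 := fun u => by
    induction u using QuotientGroup.induction_on with | _ x => ?_
    rw [← QuotientGroup.mk_pow, QuotientGroup.eq_one_iff, mem_center_iff_mem_centralizer]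
    exact hexp x x.2
  set σ := centralQuotAction Q
  set g : normalizer (Q : Set G) := ⟨a, haQ⟩
  set g' : MulAut (↥Q ⧸ center ↥Q) := σ g with hg'
  let K : Subgroup (MulAut (↥Q ⧸ center ↥Q)) := (R.subgroupOf (normalizer (Q : Set G))).map σ
  haveI := Fact.mk Nat.prime_two
  have hgn : g ^ (2 ^ m + 1) = 1 := Subtype.ext (han ▸ pow_orderOf_eq_one a)
  have hz : zpowers a ≤ normalizer (Q : Set G) := zpowers_le.mpr haQ
  have hzsol : Group.IsSolvable (zpowers a) :=
    Group.isSolvable_of_comm fun x y => (IsCyclic.commGroup (α := zpowers a)).mul_comm x y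
  have hEQ : E ≤ Q := hE ▸ H1.commutator_le_left_of_le_normalizer hz
  have hg1 : g' ≠ 1 := by
    intro h
    refine hEc (hE ▸ commutator_le.mpr fun x hx s hs => ?_)
    obtain ⟨i, rfl⟩ := mem_zpowers_iff.mp hs
    have h1 : σ (g ^ i) (QuotientGroup.mk ⟨x, hx⟩) = QuotientGroup.mk ⟨x, hx⟩ := by
      rw [map_zpow, ← hg', h, one_zpow]; rfl
    simpa using commutator_mem_of_fixed h1
  have hg'n : g' ^ (2 ^ m + 1) = 1 := by rw [hg', ← map_pow, hgn, map_one]
  haveI := Fact.mk hn
  have hord : Nat.card (zpowers g') = 2 ^ m + 1 := by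
    rw [Nat.card_zpowers, orderOf_eq_prime hg'n hg1]
  have hmemK : ∀ k ∈ R, ∀ hk : k ∈ normalizer (Q : Set G), σ ⟨k, hk⟩ ∈ K := fun k hk hk' =>
    ⟨⟨k, hk'⟩, hk, rfl⟩
  have hgK : ∀ k ∈ K, g' * k * g'⁻¹ ∈ K := by
    rintro _ ⟨k, hk, rfl⟩
    exact ⟨g * k * g⁻¹, (mem_normalizer_iff.mp haR (k : G)).mp hk, by simp [hg']⟩
  have hgK' : ∀ k ∈ K, g'⁻¹ * k * g' ∈ K := by
    rintro _ ⟨k, hk, rfl⟩
    refine ⟨g⁻¹ * k * g, ?_, by simp [hg']⟩
    have := (mem_normalizer_iff.mp (inv_mem haR) (k : G)).mp hk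
    rwa [inv_inv] at this
  have hRK : zpowers g' ≤ normalizer (K : Set _) := by
    refine zpowers_le.mpr (mem_normalizer_iff.mpr fun k => ⟨hgK k, fun hk => ?_⟩)
    simpa [mul_assoc] using hgK' _ hk
  have hfpf : ∀ r ∈ zpowers g', r ≠ 1 → ∀ k ∈ K, r * k * r⁻¹ = k → k = 1 := by
    intro r hr hr1 k hk hrk
    have h1 : Commute r k := mul_inv_eq_iff_eq_mul.mp hrk
    have hgr : g' ∈ zpowers r := mem_zpowers_of_prime hn hg'n hr hr1
    obtain ⟨i, hi⟩ := mem_zpowers_iff.mp hgr
    have h2 : Commute g' k := hi ▸ h1.zpow_left i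
    -- lift to a fixed point of `R`
    have hmap := map_inf_centralizer σ (X := R.subgroupOf (normalizer (Q : Set G)))
      (S := zpowers g) (zpowers_le.mpr (mem_normalizer_iff.mpr fun x =>
        (mem_normalizer_iff.mp haR (x : G))))
      (by
        rw [Nat.card_congr (subgroupOfEquivOfLe hRQ).toEquiv, Nat.card_zpowers,
          ← orderOf_injective (normalizer (Q : Set G)).subtype Subtype.coe_injective g]
        show (orderOf a).Coprime _
        rw [han]
        exact (Nat.Prime.coprime_iff_not_dvd hn).mpr hnR)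
      (Or.inl (Group.isSolvable_of_comm fun x y =>
        (IsCyclic.commGroup (α := zpowers g)).mul_comm x y))
    have hkmem : k ∈ K ⊓ centralizer ((zpowers g).map σ : Set _) := by
      refine mem_inf.mpr ⟨hk, mem_centralizer_iff.mpr ?_⟩
      rintro _ ⟨s, hs, rfl⟩
      obtain ⟨j, rfl⟩ := mem_zpowers_iff.mp hs
      rw [map_zpow]
      exact (h2.zpow_left j).eq
    rw [← hmap] at hkmem
    obtain ⟨c, hc, rfl⟩ := hkmem
    obtain ⟨hcR, hcg⟩ := mem_inf.mp hc
    have hca : (c : G) ∈ centralizer ({a} : Set G) := mem_centralizer_singleton'.mpr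
      (congrArg Subtype.val (mem_centralizer_iff.mp hcg g (mem_zpowers g)) :)
    have hcQ := hRa (mem_inf.mpr ⟨hcR, hca⟩)
    refine MulEquiv.ext fun u => ?_
    induction u using QuotientGroup.induction_on with | _ x => ?_
    rw [MulAut.one_apply, centralQuotAction_mk]
    congr 1
    refine Subtype.ext ?_
    show (c : G) * x * (c : G)⁻¹ = x
    exact mul_inv_eq_iff_eq_mul.mpr (mem_centralizer_iff.mp hcQ x x.2).symm
  have hfK : H83.fixedOf (MonoidHom.id (MulAut (↥Q ⧸ center ↥Q))) K = ⊥ := by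
    rw [eq_bot_iff]
    intro u hu
    obtain ⟨c, hc, rfl⟩ := exists_fixed_rep hRQ hcopR hRsol
      (fun s hs => hu _ (hmemK s hs (hRQ hs)))
    rw [mem_bot, QuotientGroup.eq_one_iff, mem_center_iff_mem_centralizer]
    exact hQR (mem_inf.mpr ⟨c.2, hc⟩)
  have hK2 : ¬ 2 ∣ Nat.card K := by
    intro h
    have hd : Nat.card K ∣ Nat.card R := by
      rw [← Nat.card_congr (subgroupOfEquivOfLe hRQ).toEquiv]
      exact card_map_dvd _ _
    obtain ⟨k, hk⟩ := hQ.exists_card_eq
    rcases k with _ | k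
    · refine hEc fun x hx => ?_
      have hQ1 : Q = ⊥ := card_eq_one.mp (by rw [hk, pow_zero])
      rw [hQ1] at hEQ
      rw [mem_bot.mp (hEQ hx)]
      exact one_mem _
    · exact Nat.prime_two.not_dvd_one (hcopR.symm ▸ Nat.dvd_gcd (hk ▸ dvd_pow_self 2 k.succ_ne_zero)
        (h.trans hd) : _)
  have h2n : ¬ 2 ∣ Nat.card (zpowers g') := by
    rw [hord]
    have : 2 ∣ 2 ^ m := dvd_pow_self 2 hm
    omega
  have hKsol : Group.IsSolvable K := by
    haveI := hRsol
    haveI : Group.IsSolvable (R.subgroupOf (normalizer (Q : Set G))) :=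
      Group.isSolvable_of_isSolvable_injective
        (f := (subgroupOfEquivOfLe hRQ).toMonoidHom) (subgroupOfEquivOfLe hRQ).injective
    exact Group.isSolvable_of_surjective (f := (σ.subgroupMap _)) (σ.subgroupMap_surjective _)
  have hcount := (H83.frobenius_card_elemAb (ℓ := 2) hexp' (MonoidHom.id _) hRK hfpf hKsol hK2 h2n
    hfK).1
  rw [hord] at hcount
  set F := H83.fixedOf (MonoidHom.id (MulAut (↥Q ⧸ center ↥Q))) (zpowers g') with hF
  set C := Q ⊓ centralizer ({a} : Set G) with hC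
  set M := Q ⊓ centralizer (Q : Set G) with hMdef
  -- `C` maps onto the fixed points
  have hFC : F = (C.subgroupOf Q).map (QuotientGroup.mk' (center ↥Q)) := by
    refine le_antisymm (fun u hu => ?_) ?_
    · obtain ⟨c, hc, rfl⟩ := exists_fixed_rep hz
        (by rw [Nat.card_zpowers, han]; exact hcopQ.symm) hzsol (u := u) (fun s hs => by
          obtain ⟨i, rfl⟩ := mem_zpowers_iff.mp hs
          exact hu _ (mem_zpowers_iff.mpr ⟨i, by rw [hg', ← map_zpow]; rfl⟩))
      rw [zpowers_eq_closure, centralizer_closure] at hc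
      exact ⟨c, mem_inf.mpr ⟨c.2, hc⟩, rfl⟩
    · rintro _ ⟨x, hx, rfl⟩ s hs
      obtain ⟨i, rfl⟩ := mem_zpowers_iff.mp hs
      rw [hg', ← map_zpow]
      show σ (g ^ i) (QuotientGroup.mk x) = QuotientGroup.mk x
      rw [centralQuotAction_mk]
      congr 1
      refine Subtype.ext ?_
      show ((g ^ i : normalizer (Q : Set G)) : G) * x * ((g ^ i : normalizer (Q : Set G)) : G)⁻¹ = x
      have : Commute (a ^ i) (x : G) :=
        Commute.zpow_left (mem_centralizer_singleton'.mp (mem_inf.mp hx).2) i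
      simp only [SubgroupClass.coe_zpow, g]
      rw [this.eq, mul_inv_cancel_right]
  have hMC : M ≤ C := le_inf inf_le_left hM
  have hcenter : center ↥Q = M.subgroupOf Q := by
    ext x
    rw [mem_center_iff_mem_centralizer, mem_subgroupOf, hMdef, mem_inf]
    exact ⟨fun h => ⟨x.2, h⟩, fun h => h.2⟩
  have hXM : Nat.card (↥Q ⧸ center ↥Q) * Nat.card M = Nat.card Q := by
    rw [← index_eq_card, hcenter, ← Nat.card_congr (subgroupOfEquivOfLe
      (inf_le_left : M ≤ Q)).toEquiv, mul_comm, card_mul_index]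
  have hFM : Nat.card F * Nat.card M = Nat.card C := by
    have h1 : (center ↥Q).relIndex (C.subgroupOf Q) = Nat.card F := by
      rw [hFC, ← relIndex_ker, QuotientGroup.ker_mk']
    have h2 : (center ↥Q).relIndex (C.subgroupOf Q) = M.relIndex C := by
      rw [hcenter, relIndex_subgroupOf (inf_le_left : C ≤ Q)]
    rw [← h1, h2, mul_comm, relIndex, ← Nat.card_congr (subgroupOfEquivOfLe hMC).toEquiv,
      card_mul_index]
  -- `Q` is the product of `E` and `C`
  have hsup : E ⊔ C = Q := by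
    have := H1.commutator_sup_centralizer_eq hz (by
      rw [Nat.card_zpowers, han]; exact hcopQ.symm) (Or.inl hzsol)
    rwa [zpowers_eq_closure, centralizer_closure, ← zpowers_eq_closure, ← hE] at this
  have hCn : C ≤ normalizer (E : Set G) := fun x hx => by
    rw [hE]
    exact H1.left_le_normalizer_commutator (mem_inf.mp hx).1
  have hQcard : Nat.card Q * 2 = Nat.card C * Nat.card E := by
    have h := Cfsg.Agent.H29.card_prod_mul_card_inf C E
    have hset : ((C : Set G) * (E : Set G)) = (Q : Set G) := by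
      rw [← hsup, sup_comm]
      exact (coe_mul_of_left_le_normalizer_right C E hCn).symm
    have hinf : C ⊓ E = E ⊓ centralizer ({a} : Set G) := by
      rw [hC, inf_assoc, inf_comm (centralizer _), ← inf_assoc, inf_eq_right.mpr hEQ]
    rw [hset, hinf, hEC] at h
    exact h
  have hXF : Nat.card (↥Q ⧸ center ↥Q) = Nat.card F * 2 ^ (2 * m) := by
    have h1 : Nat.card (↥Q ⧸ center ↥Q) * 2 * Nat.card M =
        Nat.card F * 2 ^ (2 * m + 1) * Nat.card M := by
      calc _ = Nat.card Q * 2 := by rw [← hXM]; ring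
        _ = Nat.card C * Nat.card E := hQcard
        _ = _ := by rw [← hFM, hcardE]; ring
    have h2 := Nat.eq_of_mul_eq_mul_right Nat.card_pos h1
    rw [pow_succ, ← mul_assoc] at h2
    exact Nat.eq_of_mul_eq_mul_right two_pos h2
  rw [hXF, pow_succ', mul_comm (Nat.card F)] at hcount
  have h3 : Nat.card F ^ 2 ^ m = 2 ^ (2 * m) :=
    (Nat.eq_of_mul_eq_mul_left Nat.card_pos ((mul_comm _ _).trans hcount)).symm
  obtain ⟨k, -, hk⟩ := (Nat.dvd_prime_pow Nat.prime_two).mp
    (show Nat.card F ∣ 2 ^ (2 * m) from h3 ▸ dvd_pow_self _ (pow_ne_zero m two_ne_zero))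
  rw [hk, ← pow_mul] at h3
  have hkm := Nat.pow_right_injective le_rfl h3
  have hk1 : k ≤ 1 := by
    by_contra h
    push Not at h
    have h4 : 2 * 2 ^ m ≤ 2 * m := hkm ▸ Nat.mul_le_mul_right _ h
    have := Nat.lt_two_pow_self (n := m)
    omega
  have hk0 : k ≠ 0 := fun h => by rw [h, zero_mul] at hkm; omega
  have hF2 : Nat.card F = 2 := by rw [hk, show k = 1 by omega, pow_one]
  -- `C` is abelian
  have hCab : ∀ x ∈ C, ∀ y ∈ C, x * y = y * x := by
    intro x hx y hy
    by_cases hxM : x ∈ M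
    · exact (mem_centralizer_iff.mp (mem_inf.mp hxM).2 y (mem_inf.mp hy).1).symm
    by_cases hyM : y ∈ M
    · exact mem_centralizer_iff.mp (mem_inf.mp hyM).2 x (mem_inf.mp hx).1
    have hx' : (QuotientGroup.mk ⟨x, (mem_inf.mp hx).1⟩ : ↥Q ⧸ center ↥Q) ∈ F :=
      hFC ▸ ⟨⟨x, (mem_inf.mp hx).1⟩, hx, rfl⟩
    have hy' : (QuotientGroup.mk ⟨y, (mem_inf.mp hy).1⟩ : ↥Q ⧸ center ↥Q) ∈ F :=
      hFC ▸ ⟨⟨y, (mem_inf.mp hy).1⟩, hy, rfl⟩
    have hne : ∀ (z : G) (hz : z ∈ Q) (hz' : (QuotientGroup.mk ⟨z, hz⟩ : ↥Q ⧸ center ↥Q) ∈ F),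
        z ∉ M → (⟨_, hz'⟩ : F) ≠ 1 := by
      intro z hz hz' hzM e
      refine hzM (mem_inf.mpr ⟨hz, ?_⟩)
      exact mem_center_iff_mem_centralizer.mp ((QuotientGroup.eq_one_iff _).mp
        (congrArg Subtype.val e))
    obtain ⟨w, -, hw⟩ := (Nat.card_eq_two_iff' (1 : F)).mp hF2
    have hexy : (⟨_, hx'⟩ : F) = ⟨_, hy'⟩ :=
      (hw _ (hne x _ hx' hxM)).trans (hw _ (hne y _ hy' hyM)).symm
    have := QuotientGroup.eq.mp (congrArg Subtype.val hexy)
    rw [mem_center_iff_mem_centralizer] at this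
    have h5 := mem_centralizer_iff.mp this x (mem_inf.mp hx).1
    change x * (x⁻¹ * y) = x⁻¹ * y * x at h5
    rw [mul_inv_cancel_left] at h5
    calc x * y = x * (x⁻¹ * y * x) := by rw [← h5]
      _ = y * x := by group
  have hCM : C ≤ centralizer (Q : Set G) := by
    intro x hx
    rw [mem_centralizer_iff]
    intro y hy
    rw [SetLike.mem_coe, ← hsup] at hy
    obtain ⟨e, he, c, hc, rfl⟩ := H1.exists_mul_of_mem_sup hCn hy
    have h1 : x * e = e * x := mem_centralizer_singleton'.mp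
      (hcomm x (mem_inf.mp hx).1 (mem_centralizer_singleton'.mp (mem_inf.mp hx).2) he)
    rw [mul_assoc, hCab c hc x hx, ← mul_assoc, ← h1, mul_assoc]
  have hCeqM : C = M := le_antisymm (le_inf inf_le_left hCM) hMC
  have hC_eq : Nat.card C = Nat.card M := by rw [hCeqM]
  rw [← hFM, hF2] at hC_eq
  have : 0 < Nat.card M := Nat.card_pos
  omega

/-- When `a` acts non-trivially on `Q`, the subgroup `[Q, a]` is extraspecial. -/
theorem commutator_extraspecial [Finite G] {v q n : ℕ} [hv : Fact v.Prime] [hq : Fact q.Prime]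
    {V Q Z : Subgroup G} {a : G} (hn : n.Prime) (han : orderOf a = n) (hqv : q ≠ v)
    (hnv : n ≠ v) (hnq : n ≠ q) (hV : Cfsg.IsElementaryAbelian v V) (hQ : IsPGroup q Q)
    (haV : a ∈ normalizer (V : Set G)) (haQ : a ∈ normalizer (Q : Set G))
    (hQV : Q ≤ normalizer (V : Set G))
    (hfaith : Q ⊓ centralizer (V : Set G) = ⊥) (hCV : V ⊓ centralizer ({a} : Set G) = ⊥)
    (hZ : Nat.card Z = q) (hQQ : ⁅Q, Q⁆ ≤ Z) (hZc : Z ≤ centralizer (Q : Set G))
    (hZa : Z ≤ centralizer ({a} : Set G))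
    (hpow : ∀ x ∈ Q, x ^ q ∈ centralizer (Q : Set G)) (hQne : Q ≠ ⊥)
    (hEne : ⁅Q, zpowers a⁆ ≠ ⊥) :
    q = 2 ∧ ∃ m : ℕ, n = 2 ^ m + 1 ∧ Nat.card (⁅Q, zpowers a⁆ : Subgroup G) = 2 ^ (2 * m + 1) ∧
      ⁅Q, zpowers a⁆ ⊓ centralizer ({a} : Set G) = Z ∧ Z ≤ ⁅Q, zpowers a⁆ ∧
      center (⁅Q, zpowers a⁆ : Subgroup G) = Z.subgroupOf ⁅Q, zpowers a⁆ ∧
      Q ⊓ centralizer (Q : Set G) ≤ centralizer ({a} : Set G) ∧
      ¬ ⁅Q, zpowers a⁆ ≤ centralizer (Q : Set G) := by
  classical
  haveI := hV.1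
  haveI := Fact.mk hn
  obtain ⟨jQ, hjQ⟩ := hQ.exists_card_eq
  have hnQ : (Nat.card Q).Coprime n := by
    rw [hjQ]
    exact ((Nat.coprime_primes hq.out hn).mpr hnq.symm).pow_left jQ
  have hVp : IsPGroup v V := fun x => ⟨1, Subtype.ext (by simpa using hV.2 x x.2)⟩
  have hcop : (Nat.card Q).Coprime (Nat.card V) := coprime_of_isPGroup hqv hQ hVp
  have hz : zpowers a ≤ normalizer (Q : Set G) := zpowers_le.mpr haQ
  have hzsol : Group.IsSolvable (zpowers a) :=
    Group.isSolvable_of_comm fun x y => (IsCyclic.commGroup (α := zpowers a)).mul_comm x y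
  have hzcop : (Nat.card (zpowers a)).Coprime (Nat.card Q) := by
    rw [Nat.card_zpowers, han]; exact hnQ.symm
  have hza : centralizer ((zpowers a : Subgroup G) : Set G) = centralizer ({a} : Set G) := by
    rw [zpowers_eq_closure, centralizer_closure]
  set E := ⁅Q, zpowers a⁆ with hE
  have hEQ : E ≤ Q := H1.commutator_le_left_of_le_normalizer hz
  have haE : a ∈ normalizer (E : Set G) := H1.right_le_normalizer_commutator (mem_zpowers a)
  have hEa : ⁅E, zpowers a⁆ = E := H1.commutator_commutator_eq hz hzcop (Or.inl hzsol)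
  have hQQc : ⁅Q, Q⁆ ≤ centralizer (Q : Set G) := hQQ.trans hZc
  have hcomm : ∀ x ∈ Q, Commute a x → E ≤ centralizer ({x} : Set G) := fun x hx hxa =>
    commute_commutator hx hxa haQ hQQc (hQQ.trans hZa)
  have habel : ∀ M : Subgroup G, M ≤ Q → IsMulCommutative M → a ∈ normalizer (M : Set G) →
      M ≤ centralizer ({a} : Set G) := fun M =>
    abelian_le_centralizer hn han haV hQV hcop hnQ hfaith hCV
  have hEnab : ¬ E ≤ centralizer (E : Set G) := by
    intro h
    have hEc : IsMulCommutative E := ⟨⟨fun x y =>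
      Subtype.ext (mem_centralizer_iff.mp (h y.2) x x.2)⟩⟩
    have h2 := habel E hEQ hEc haE
    refine hEne ?_
    rw [← hEa, commutator_eq_bot_iff_le_centralizer, hza]
    exact h2
  have hEc : ¬ E ≤ centralizer (Q : Set G) := fun h =>
    hEnab (h.trans (centralizer_le (SetLike.coe_subset_coe.mpr hEQ)))
  have hEE : ⁅E, E⁆ = Z := by
    refine eq_of_le_of_card_ge ((commutator_mono hEQ hEQ).trans hQQ) ?_
    have hd := card_dvd_of_le ((commutator_mono hEQ hEQ).trans hQQ)
    rw [hZ] at hd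
    rcases (Nat.dvd_prime hq.out).mp hd with h | h
    · exact absurd (commutator_eq_bot_iff_le_centralizer.mp (card_eq_one.mp h)) hEnab
    · rw [hZ, h]
  have hZE : Z ≤ E := hEE ▸ commutator_le_self E
  have hMc : E ⊓ centralizer ({a} : Set G) ≤ centralizer (E : Set G) := by
    intro x hx
    refine mem_centralizer_iff.mpr fun e he => ?_
    exact (mem_centralizer_singleton'.mp (hcomm x (hEQ (mem_inf.mp hx).1)
      (mem_centralizer_singleton'.mp (mem_inf.mp hx).2) he)).symm
  have hfix : E ⊓ centralizer ({a} : Set G) = Z := by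
    refine le_antisymm (fun x hx => ?_) (le_inf hZE hZa)
    obtain ⟨hxE, hxa⟩ := mem_inf.mp hx
    refine H83.fixed_mem_of_commutator (A := zpowers a) (R := E) (M := Z) (zpowers_le.mpr haE)
      ?_ ?_ hZE hEE.le (hzcop.coprime_dvd_right (card_dvd_of_le hEQ)) ?_ ?_
    · exact fun y hy => centralizer_le_normalizer _ (mem_centralizer_iff.mpr fun z hz' =>
        (mem_centralizer_iff.mp (hZc hz') y (hEQ hy)).symm)
    · rw [zpowers_le]
      exact centralizer_le_normalizer _ (mem_centralizer_iff.mpr fun z hz' =>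
        (mem_centralizer_singleton'.mp (hZa hz')).symm)
    · rw [hEa]; exact mem_sup_left hxE
    · intro b hb
      rw [← hza] at hxa
      rw [mem_centralizer_iff.mp hxa b hb, mul_inv_cancel_right, mul_inv_cancel]
      exact one_mem _
  have hZEc : E ⊓ centralizer (E : Set G) = Z := by
    refine le_antisymm ((le_inf inf_le_left ?_).trans hfix.le) (le_inf hZE (hZc.trans
      (centralizer_le (SetLike.coe_subset_coe.mpr hEQ))))
    refine habel _ (inf_le_left.trans hEQ) ⟨⟨fun x y => Subtype.ext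
      (mem_centralizer_iff.mp (mem_inf.mp y.2).2 x (mem_inf.mp x.2).1)⟩⟩ ?_
    exact inf_normalizer_le_normalizer_inf (mem_inf.mpr ⟨haE, mem_normalizer_centralizer haE⟩)
  -- `E` is extraspecial
  have hcenterE : center ↥E = Z.subgroupOf E := by
    ext x
    rw [mem_center_iff_mem_centralizer, mem_subgroupOf]
    exact ⟨fun h => hZEc.le (mem_inf.mpr ⟨x.2, h⟩), fun h => (mem_inf.mp (hZEc.ge h)).2⟩
  have hcommE : commutator ↥E = center ↥E := by
    rw [hcenterE]
    refine map_injective E.subtype_injective ?_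
    rw [Subgroup.map_subtype_commutator, subgroupOf_map_subtype, inf_eq_left.mpr hZE, hEE]
  have hEp : IsPGroup q E := hQ.to_le hEQ
  have hM : Q ⊓ centralizer (Q : Set G) ≤ centralizer ({a} : Set G) := by
    refine habel _ inf_le_left ⟨⟨fun x y => Subtype.ext
      (mem_centralizer_iff.mp (mem_inf.mp y.2).2 x (mem_inf.mp x.2).1)⟩⟩ ?_
    exact inf_normalizer_le_normalizer_inf (mem_inf.mpr ⟨haQ, mem_normalizer_centralizer haQ⟩)
  have hX : Cfsg.IsExtraspecial q ↥E := by
    refine ⟨⟨hEp, le_antisymm ?_ (hcommE ▸ H6.commutator_le_frattini hEp), hcommE⟩, ?_⟩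
    · refine H6.frattini_le_of_quotient (p := q) _ hcommE.le fun x => ?_
      rw [hcenterE, mem_subgroupOf, SubgroupClass.coe_pow, ← hfix]
      refine mem_inf.mpr ⟨pow_mem x.2 q, hM (mem_inf.mpr ⟨pow_mem (hEQ x.2) q, ?_⟩)⟩
      exact hpow x (hEQ x.2)
    · rw [hcenterE, Nat.card_congr (subgroupOfEquivOfLe hZE).toEquiv, hZ]
  have hVne : V ≠ ⊥ := by
    rintro rfl
    refine hQne (hfaith ▸ (inf_eq_left.mpr ?_).symm)
    intro x _
    simp [mem_centralizer_iff]
  have hfaithX : (zpowers a ⊔ E) ⊓ centralizer (V : Set G) = ⊥ := by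
    refine eq_bot_iff.mpr fun y hy => ?_
    obtain ⟨hy1, hy2⟩ := mem_inf.mp hy
    rw [sup_comm] at hy1
    obtain ⟨e, he, b, hb, rfl⟩ := H1.exists_mul_of_mem_sup (zpowers_le.mpr haE) hy1
    let φ : normalizer (V : Set G) →* MulAut V := V.normalizerMonoidHom
    let e' : normalizer (V : Set G) := ⟨e, hQV (hEQ he)⟩
    let b' : normalizer (V : Set G) := ⟨b, zpowers_le.mpr haV hb⟩
    have hφ : φ e' * φ b' = 1 := by
      rw [← map_mul]
      refine MulEquiv.ext fun u => Subtype.ext ?_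
      show e * b * u * (e * b)⁻¹ = u
      rw [← mem_centralizer_iff.mp hy2 u u.2, mul_inv_cancel_right]
    have hde : orderOf (φ e') ∣ Nat.card Q := (orderOf_map_dvd φ e').trans (by
      rw [← orderOf_injective (normalizer (V : Set G)).subtype Subtype.coe_injective]
      exact orderOf_dvd_natCard Q (hEQ he))
    have hdb : orderOf (φ b') ∣ n := (orderOf_map_dvd φ b').trans (by
      rw [← orderOf_injective (normalizer (V : Set G)).subtype Subtype.coe_injective]
      have := orderOf_dvd_natCard (zpowers a) hb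
      rwa [Nat.card_zpowers, han] at this)
    have hb1 : φ b' = 1 := by
      refine orderOf_eq_one_iff.mp (Nat.eq_one_of_dvd_coprimes hnQ ?_ hdb)
      rw [← orderOf_inv, ← eq_inv_of_mul_eq_one_left hφ]
      exact hde
    have hb0 : b = 1 := by
      by_contra hb0
      refine hVne (le_bot_iff.mp ((le_inf le_rfl ?_).trans hCV.le))
      intro u hu
      have hab : a ∈ zpowers b :=
        mem_zpowers_of_prime hn (han ▸ pow_orderOf_eq_one a) hb hb0
      have h1 : Commute b u := by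
        have := congrArg Subtype.val (DFunLike.congr_fun hb1 ⟨u, hu⟩)
        exact mul_inv_eq_iff_eq_mul.mp this
      obtain ⟨i, hi⟩ := mem_zpowers_iff.mp hab
      exact mem_centralizer_singleton'.mpr (hi ▸ h1.zpow_left i).eq
    subst hb0
    rw [mul_one] at hy2 ⊢
    exact mem_bot.mpr (mem_bot.mp (hfaith ▸ mem_inf.mpr ⟨hEQ he, hy2⟩))
  obtain ⟨hq2, m, hnm, hcardE⟩ := Cfsg.Agent.S3764.result hv.out hq.out hn hqv.symm hnv.symm hnq.symm
    (zpowers a) E V (by rw [Nat.card_zpowers, han]) hX (zpowers_le.mpr haE)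
    (by rw [hza, hfix, hcenterE, subgroupOf_map_subtype, inf_eq_left.mpr hZE])
    hV (zpowers_le.mpr haV) (hEQ.trans hQV) hfaithX (by rw [hza, hCV])
  exact ⟨hq2, m, hnm, hcardE, hfix, hZE, hcenterE, hM, hEc⟩

/-- A `q`-group `Q = [Q, R]` with derived group `Z` of order `q` fixed by the element `a` of prime
order, faithful on a module where `a` is fixed-point-free, cannot occur when `R` either centralises
`a` with `Q = [Q, a]` or is fixed-point-free modulo `C(Q)` under `a`. -/
theorem exceptional_false [Finite G] {v q n : ℕ} [hv : Fact v.Prime] [hq : Fact q.Prime]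
    {V Q R Z : Subgroup G} {a : G} (hn : n.Prime) (han : orderOf a = n) (hqv : q ≠ v)
    (hnv : n ≠ v) (hnq : n ≠ q) (hnR : ¬ n ∣ Nat.card R)
    (hcopR : (Nat.card R).Coprime (Nat.card Q)) (hRsol : Group.IsSolvable R)
    (hV : Cfsg.IsElementaryAbelian v V) (hQ : IsPGroup q Q) (haV : a ∈ normalizer (V : Set G))
    (haQ : a ∈ normalizer (Q : Set G)) (haR : a ∈ normalizer (R : Set G))
    (hQV : Q ≤ normalizer (V : Set G)) (hRQ : R ≤ normalizer (Q : Set G))
    (hfaith : Q ⊓ centralizer (V : Set G) = ⊥) (hCV : V ⊓ centralizer ({a} : Set G) = ⊥)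
    (hZ : Nat.card Z = q) (hQQ : ⁅Q, Q⁆ ≤ Z) (hZQ : Z ≤ Q)
    (hZc : Z ≤ centralizer (Q : Set G)) (hZa : Z ≤ centralizer ({a} : Set G))
    (hZR : Z ≤ centralizer (R : Set G))
    (hpow : ∀ x ∈ Q, x ^ q ∈ centralizer (Q : Set G))
    (hQR : ⁅Q, R⁆ = Q) (hQne : Q ≠ ⊥) (hQc : Q ⊓ centralizer (R : Set G) ≤ centralizer (Q : Set G))
    (hcase : (R ≤ centralizer ({a} : Set G) ∧ ⁅Q, zpowers a⁆ = Q) ∨
      R ⊓ centralizer ({a} : Set G) ≤ centralizer (Q : Set G)) : False := by
  classical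
  haveI := hV.1
  haveI := Fact.mk hn
  obtain ⟨jQ, hjQ⟩ := hQ.exists_card_eq
  have hnQ : (Nat.card Q).Coprime n := by
    rw [hjQ]
    exact ((Nat.coprime_primes hq.out hn).mpr hnq.symm).pow_left jQ
  have hVp : IsPGroup v V := fun x => ⟨1, Subtype.ext (by simpa using hV.2 x x.2)⟩
  have hcop : (Nat.card Q).Coprime (Nat.card V) := coprime_of_isPGroup hqv hQ hVp
  have hz : zpowers a ≤ normalizer (Q : Set G) := zpowers_le.mpr haQ
  have hzsol : Group.IsSolvable (zpowers a) :=
    Group.isSolvable_of_comm fun x y => (IsCyclic.commGroup (α := zpowers a)).mul_comm x y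
  have hzcop : (Nat.card (zpowers a)).Coprime (Nat.card Q) := by
    rw [Nat.card_zpowers, han]; exact hnQ.symm
  have hza : centralizer ((zpowers a : Subgroup G) : Set G) = centralizer ({a} : Set G) := by
    rw [zpowers_eq_closure, centralizer_closure]
  set E := ⁅Q, zpowers a⁆ with hE
  have hEQ : E ≤ Q := H1.commutator_le_left_of_le_normalizer hz
  have haE : a ∈ normalizer (E : Set G) := H1.right_le_normalizer_commutator (mem_zpowers a)
  have hEa : ⁅E, zpowers a⁆ = E := H1.commutator_commutator_eq hz hzcop (Or.inl hzsol)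
  have hQQc : ⁅Q, Q⁆ ≤ centralizer (Q : Set G) := hQQ.trans hZc
  have hcomm : ∀ x ∈ Q, Commute a x → E ≤ centralizer ({x} : Set G) := fun x hx hxa =>
    commute_commutator hx hxa haQ hQQc (hQQ.trans hZa)
  have habel : ∀ M : Subgroup G, M ≤ Q → IsMulCommutative M → a ∈ normalizer (M : Set G) →
      M ≤ centralizer ({a} : Set G) := fun M =>
    abelian_le_centralizer hn han haV hQV hcop hnQ hfaith hCV
  have hEne : E ≠ ⊥ := by
    intro h
    rcases hcase with ⟨-, h2⟩ | hR
    · exact hQne (h2.symm.trans (hE.symm.trans h))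
    · rw [hE] at h
      have hQa : Q ≤ centralizer ((zpowers a : Subgroup G) : Set G) :=
        (commutator_eq_bot_iff_le_centralizer).mp h
      have hRa : zpowers a ≤ normalizer (R : Set G) := zpowers_le.mpr haR
      have h1 : ⁅⁅R, zpowers a⁆, Q⁆ = ⊥ := by
        refine commutator_commutator_eq_bot_of_rotate ?_ ?_
        · rw [show ⁅zpowers a, Q⁆ = ⊥ by rw [commutator_comm]; exact h, commutator_bot_left]
        · rw [hQR]; exact h
      have hR' := H1.commutator_sup_centralizer_eq hRa (by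
        rw [Nat.card_zpowers, han]
        exact (Nat.Prime.coprime_iff_not_dvd hn).mpr hnR) (Or.inl hzsol)
      have hle : R ≤ centralizer (Q : Set G) := by
        rw [← hR', hza]
        exact sup_le (commutator_eq_bot_iff_le_centralizer.mp h1) hR
      refine hQne (hQR.symm.trans ?_)
      rw [commutator_comm]
      exact commutator_eq_bot_iff_le_centralizer.mpr hle
  obtain ⟨hq2, m, hnm, hcardE, hfix, -, hcenterE, hM, hEc⟩ := commutator_extraspecial hn han hqv
    hnv hnq hV hQ haV haQ hQV hfaith hCV hZ hQQ hZc hZa hpow hQne hEne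
  rw [← hE] at hcardE hfix hcenterE hEc
  subst hq2
  subst hnm
  have hm : m ≠ 0 := by
    rintro rfl
    exact hnq rfl
  rcases hcase with ⟨hRa, hQa⟩ | hRa
  · have hEQ' : E = Q := hQa
    have hfixQ : Q ⊓ centralizer ({a} : Set G) = Z := hEQ' ▸ hfix
    have hcenterQ : center ↥Q = Z.subgroupOf Q := hEQ' ▸ hcenterE
    have hcardX : Nat.card (↥Q ⧸ center ↥Q) = 2 ^ (2 * m) := by
      have h := (center ↥Q).card_eq_card_quotient_mul_card_subgroup
      rw [hcenterQ, Nat.card_congr (subgroupOfEquivOfLe hZQ).toEquiv, hZ] at h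
      rw [hEQ'] at hcardE
      rw [hcardE, pow_succ] at h
      rw [hcenterQ]
      exact (Nat.eq_of_mul_eq_mul_right two_pos h).symm
    have hle := bcase_false (Q := Q) hm hn han hnR haQ hRQ hQQc (hQQ.trans hZa) (hQQ.trans hZR)
      (hfixQ.le.trans hZc) hcardX hpow hnQ hRa
    rw [hQR] at hle
    exact hEc (hEQ.trans hle)
  · exact fcase_false hm hn han haQ haR hRQ hcopR hnR hnQ hRsol hQ hQQc hpow hQc hRa hE hEc hcardE
      (by rw [hfix, hZ]) hM hcomm

end H1.PairFPF
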