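import Cfsg.Agent.H1.PairFPF.Sect
import Cfsg.Agent.H1.PairFPF.Exceptional
import Cfsg.Agent.H1.CoprimeAction2

/-!
No `q`-group on a faithful module admits a non-trivial action of an `r`-group compatible with a
fixed-point-free non-cyclic group of order a product of two primes.
-/

set_option autoImplicit false
set_option linter.style.haveILetI false

namespace H1.PairFPF

open Subgroup
open scoped commutatorElement Pointwise

variable {G : Type*} [Group G]

/-- The configuration to be excluded. -/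
structure Config (A V Q R : Subgroup G) (v q r : ℕ) : Prop where
  hv : v.Prime
  hq : q.Prime
  hr : r.Prime
  hqv : q ≠ v
  hrq : r ≠ q
  pair : IsPair A
  hV : Cfsg.IsElementaryAbelian v V
  hQ : IsPGroup q Q
  hR : IsPGroup r R
  AV : A ≤ normalizer (V : Set G)
  AQ : A ≤ normalizer (Q : Set G)
  AR : A ≤ normalizer (R : Set G)
  QV : Q ≤ normalizer (V : Set G)
  RV : R ≤ normalizer (V : Set G)
  RQ : R ≤ normalizer (Q : Set G)
  copV : (Nat.card A).Coprime (Nat.card V)
  copQ : (Nat.card A).Coprime (Nat.card Q)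
  copR : (Nat.card A).Coprime (Nat.card R)
  fixV : V ⊓ centralizer (A : Set G) = ⊥
  fixQ : Q ⊓ centralizer (A : Set G) = ⊥
  fixR : R ⊓ centralizer (A : Set G) = ⊥
  commQR : ∀ b ∈ A, b ≠ 1 → A ≤ normalizer ((zpowers b : Subgroup G) : Set G) →
    ∀ x ∈ Q ⊓ centralizer ({b} : Set G), ∀ y ∈ R ⊓ centralizer ({b} : Set G), x * y = y * x
  commVQ : ∀ b ∈ A, b ≠ 1 → A ≤ normalizer ((zpowers b : Subgroup G) : Set G) →
    ∀ x ∈ V ⊓ centralizer ({b} : Set G), ∀ y ∈ Q ⊓ centralizer ({b} : Set G), x * y = y * x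
  faith : Q ⊓ centralizer (V : Set G) = ⊥
  ne : ⁅Q, R⁆ ≠ ⊥

theorem normalizer_conj_mem {X : Subgroup G} {g : G}
    (h : ∀ x ∈ X, g * x * g⁻¹ ∈ X) [Finite G] : g ∈ normalizer (X : Set G) := by
  rw [mem_normalizer_iff_map_conj_eq]
  refine eq_of_le_of_card_ge ?_
    (Nat.card_congr (X.equivMapOfInjective _ (MulAut.conj g).injective).toEquiv).le
  rintro _ ⟨x, hx, rfl⟩
  exact h x hx

theorem le_normalizer_commutator'' {S X Y : Subgroup G} (hX : S ≤ normalizer (X : Set G))
    (hY : S ≤ normalizer (Y : Set G)) : S ≤ normalizer ((⁅X, Y⁆ : Subgroup G) : Set G) :=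
  fun _ hs => normalizer_inf_le_normalizer_commutator' (hX hs) (hY hs)

theorem le_normalizer_inf' {S X Y : Subgroup G} (hX : S ≤ normalizer (X : Set G))
    (hY : S ≤ normalizer (Y : Set G)) : S ≤ normalizer ((X ⊓ Y : Subgroup G) : Set G) :=
  (le_inf hX hY).trans inf_normalizer_le_normalizer_inf

theorem le_normalizer_centralizer' {S X : Subgroup G} (hX : S ≤ normalizer (X : Set G)) :
    S ≤ normalizer ((centralizer (X : Set G) : Subgroup G) : Set G) :=
  fun _ hs => mem_normalizer_centralizer (hX hs)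

theorem centralizer_zpowers' (a : G) :
    centralizer ((zpowers a : Subgroup G) : Set G) = centralizer ({a} : Set G) := by
  rw [zpowers_eq_closure, centralizer_closure]

theorem isSolvable_zpowers' (a : G) : Group.IsSolvable (zpowers a) :=
  Group.isSolvable_of_comm fun x y => (IsCyclic.commGroup (α := zpowers a)).mul_comm x y

theorem isSolvable_of_isPGroup [Finite G] {p : ℕ} [Fact p.Prime] {P : Subgroup G}
    (h : IsPGroup p P) : Group.IsSolvable P :=
  haveI : Group.IsNilpotent P := h.isNilpotent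
  inferInstance

/-- The passage to a faithful quotient and the exceptional configuration. -/
theorem quotient_false [Finite G] {v q r : ℕ} [Fact v.Prime] [Fact q.Prime] [Fact r.Prime]
    {V Q R Z K : Subgroup G} {a : G} {n : ℕ} (hn : n.Prime) (han : orderOf a = n)
    (hqv : q ≠ v) (hnv : n ≠ v) (hnq : n ≠ q) (hrn : r ≠ n) (hrq : r ≠ q)
    (hV : Cfsg.IsElementaryAbelian v V) (hQ : IsPGroup q Q) (hR : IsPGroup r R)
    (haV : a ∈ normalizer (V : Set G)) (haQ : a ∈ normalizer (Q : Set G))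
    (haR : a ∈ normalizer (R : Set G)) (haK : a ∈ normalizer (K : Set G))
    (hQV : Q ≤ normalizer (V : Set G)) (hRV : R ≤ normalizer (V : Set G))
    (hRQ : R ≤ normalizer (Q : Set G))
    (hQQ : ⁅Q, Q⁆ = Z) (hKZ : K ≤ Z) (hKi : K.relIndex Z = q)
    (hVZ : V ⊓ centralizer (Z : Set G) = ⊥) (hVK : V ⊓ centralizer (K : Set G) ≠ ⊥)
    (hZc : Z ≤ centralizer (Q : Set G)) (hZR : Z ≤ centralizer (R : Set G))
    (hZa : ∀ z ∈ Z, ⁅z, a⁆ ∈ K)
    (hfixV : V ⊓ centralizer (K : Set G) ⊓ centralizer ({a} : Set G) = ⊥)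
    (hpow : ∀ x ∈ Q, x ^ q ∈ centralizer (Q : Set G))
    (hQR : ⁅Q, R⁆ = Q) (hQc : Q ⊓ centralizer (R : Set G) ≤ centralizer (Q : Set G))
    (hcase : (R ≤ centralizer ({a} : Set G) ∧ ⁅Q, zpowers a⁆ = Q) ∨
      R ⊓ centralizer ({a} : Set G) ≤ centralizer (Q : Set G)) : False := by
  classical
  set W := V ⊓ centralizer (K : Set G) with hW
  set L := Q ⊓ centralizer (W : Set G) with hL
  set N := normalizer (L : Set G) with hN
  haveI := hV.1
  have hZQ : Z ≤ Q := hQQ ▸ commutator_le_self Q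
  have hQK : Q ≤ centralizer (K : Set G) := le_centralizer_iff.mp ((hKZ.trans hZc))
  have hRK : R ≤ centralizer (K : Set G) := le_centralizer_iff.mp ((hKZ.trans hZR))
  have hQW : Q ≤ normalizer (W : Set G) :=
    le_normalizer_inf' hQV (le_normalizer_centralizer' (hQK.trans (centralizer_le_normalizer _)))
  have hRW : R ≤ normalizer (W : Set G) :=
    le_normalizer_inf' hRV (le_normalizer_centralizer' (hRK.trans (centralizer_le_normalizer _)))
  have haW : a ∈ normalizer (W : Set G) :=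
    inf_normalizer_le_normalizer_inf (mem_inf.mpr ⟨haV, mem_normalizer_centralizer haK⟩)
  have hQN : Q ≤ N := le_normalizer_inf' le_normalizer (le_normalizer_centralizer' hQW)
  have hRN : R ≤ N := le_normalizer_inf' hRQ (le_normalizer_centralizer' hRW)
  have haN : a ∈ N :=
    inf_normalizer_le_normalizer_inf (mem_inf.mpr ⟨haQ, mem_normalizer_centralizer haW⟩)
  have hzN : zpowers a ≤ N := zpowers_le.mpr haN
  have hWN : W ≤ N := (le_centralizer_iff.mp inf_le_right).trans (centralizer_le_normalizer _)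
  have hVp : IsPGroup v W := fun x =>
    ⟨1, Subtype.ext (by simpa using hV.2 x (mem_inf.mp x.2).1)⟩
  have hLK : Z ⊓ L = K := by
    rw [hL, ← inf_assoc, inf_eq_left.mpr hZQ]
    exact inf_centralizer_eq_of_relIndex hKZ hKi hVZ le_rfl hVK
  have hcopW : (Nat.card Q).Coprime (Nat.card W) := coprime_of_isPGroup hqv hQ hVp
  obtain ⟨jR, hjR⟩ := hR.exists_card_eq
  obtain ⟨jQ, hjQ⟩ := hQ.exists_card_eq
  obtain ⟨jW, hjW⟩ := hVp.exists_card_eq
  have hcopR : (Nat.card R).Coprime (Nat.card Q) := by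
    rw [hjR, hjQ]
    exact (((Nat.coprime_primes Fact.out Fact.out).mpr hrq).pow_left jR).pow_right jQ
  have hnR : ¬ n ∣ Nat.card R := by
    rw [hjR]
    intro h
    exact hrn ((Nat.prime_dvd_prime_iff_eq hn Fact.out).mp (hn.dvd_of_dvd_pow h)).symm
  have hcopa : ∀ X : Subgroup G, (¬ n ∣ Nat.card X) →
      (Nat.card (zpowers a)).Coprime (Nat.card X) := fun X hX => by
    rw [Nat.card_zpowers, han]
    exact (Nat.Prime.coprime_iff_not_dvd hn).mpr hX
  have hnQ : ¬ n ∣ Nat.card Q := by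
    rw [hjQ]
    intro h
    exact hnq ((Nat.prime_dvd_prime_iff_eq hn Fact.out).mp (hn.dvd_of_dvd_pow h))
  have hnW : ¬ n ∣ Nat.card W := by
    rw [hjW]
    intro h
    exact hnv ((Nat.prime_dvd_prime_iff_eq hn Fact.out).mp (hn.dvd_of_dvd_pow h))
  have hzW : zpowers a ≤ normalizer (W : Set G) := zpowers_le.mpr haW
  have hzQ : zpowers a ≤ normalizer (Q : Set G) := zpowers_le.mpr haQ
  have hzR : zpowers a ≤ normalizer (R : Set G) := zpowers_le.mpr haR
  have hLQ : L ≤ Q := inf_le_left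
  set a' := QuotientGroup.mk' (L.subgroupOf N) ⟨a, haN⟩ with ha'
  have hza : sect L (zpowers a) = zpowers a' := sect_zpowers haN
  have hZne : ¬ Z ≤ L := fun h => by
    have := inf_eq_left.mpr h
    rw [hLK] at this
    rw [← this, relIndex_self] at hKi
    exact (Fact.out : q.Prime).one_lt.ne hKi
  have hcardZ : Nat.card (sect L Z) = q := by
    rw [sect, ← relIndex_ker, QuotientGroup.ker_mk', relIndex_subgroupOf (hZQ.trans hQN),
      ← inf_relIndex_right, inf_comm, hLK, hKi]
  have hzcomm : sect L Z ≤ centralizer ({a'} : Set _) := by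
    rintro _ ⟨z, hz, rfl⟩
    refine mem_centralizer_singleton'.mpr ?_
    have h1 : QuotientGroup.mk' (L.subgroupOf N) ⁅z, ⟨a, haN⟩⁆ = 1 := by
      refine (QuotientGroup.eq_one_iff _).mpr ?_
      show ⁅(z : G), a⁆ ∈ L
      exact (inf_le_right : Z ⊓ L ≤ L) (hLK.ge (hZa z hz))
    rw [map_commutatorElement, commutatorElement_eq_one_iff_mul_comm] at h1
    exact h1.symm
  have ha'1 : a' ≠ 1 := by
    intro h
    rw [ha', QuotientGroup.mk'_apply, QuotientGroup.eq_one_iff] at h
    refine hnQ ?_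
    rw [← han]
    exact orderOf_dvd_natCard Q (hLQ h)
  have hord : orderOf a' = n := by
    haveI := Fact.mk hn
    refine orderOf_eq_prime ?_ ha'1
    rw [ha', ← map_pow, show (⟨a, haN⟩ : N) ^ n = 1 from Subtype.ext (han ▸ pow_orderOf_eq_one a),
      map_one]
  have hWL : W ⊓ L = ⊥ := disjoint_iff.mp (Subgroup.disjoint_of_coprime_natCard
    (hcopW.symm.coprime_dvd_right (card_dvd_of_le hLQ)))
  have hz' : centralizer ({a'} : Set _) = centralizer (sect L (zpowers a) : Set _) := by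
    rw [hza, centralizer_zpowers']
  refine exceptional_false (V := sect L W) (Q := sect L Q) (R := sect L R) (Z := sect L Z) (a := a')
    hn hord hqv hnv hnq ?_ ?_ ?_ ?_ (isPGroup_sect hQ) ?_ ?_ ?_ (sect_le_normalizer hQW)
    (sect_le_normalizer hRQ) ?_ ?_ hcardZ ?_ (sect_mono hZQ) (sect_le_centralizer hZc) hzcomm
    (sect_le_centralizer hZR) ?_ ?_ ?_ ?_ ?_
  · exact fun h => hnR (h.trans (card_sect_dvd hRN))
  · exact (hcopR.coprime_dvd_left (card_sect_dvd hRN)).coprime_dvd_right (card_sect_dvd hQN)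
  · exact isSolvable_of_isPGroup (isPGroup_sect hR)
  · refine ⟨isMulCommutative_sect hWN ?_, ?_⟩
    · have hWc : IsMulCommutative W := isMulCommutative_of_le hV.1 inf_le_left
      refine le_trans ?_ bot_le
      rw [le_bot_iff, commutator_eq_bot_iff_le_centralizer]
      exact fun x hx => mem_centralizer_iff.mpr fun y hy =>
        congrArg Subtype.val (hWc.is_comm.comm (⟨y, hy⟩ : W) ⟨x, hx⟩)
    · rintro _ ⟨x, hx, rfl⟩
      rw [← map_pow, show x ^ v = 1 from Subtype.ext (hV.2 _ (mem_inf.mp hx).1), map_one]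
  · rw [← zpowers_le, ← hza]; exact sect_le_normalizer hzW
  · rw [← zpowers_le, ← hza]; exact sect_le_normalizer hzQ
  · rw [← zpowers_le, ← hza]; exact sect_le_normalizer hzR
  · refine eq_bot_iff.mpr fun y hy => ?_
    obtain ⟨⟨x, hx, rfl⟩, hc⟩ := mem_inf.mp hy
    refine mem_bot.mpr ((QuotientGroup.eq_one_iff _).mpr ?_)
    show (x : G) ∈ L
    refine mem_inf.mpr ⟨hx, mem_centralizer_iff.mpr fun w hw => ?_⟩
    have h1 : QuotientGroup.mk' (L.subgroupOf N) ⁅x, ⟨w, hWN hw⟩⁆ = 1 := by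
      rw [map_commutatorElement, commutatorElement_eq_one_iff_mul_comm]
      exact (mem_centralizer_iff.mp hc _ ⟨⟨w, hWN hw⟩, hw, rfl⟩).symm
    have h2 : ⁅(x : G), w⁆ ∈ L := mem_subgroupOf.mp ((QuotientGroup.eq_one_iff _).mp h1)
    have h3 : ⁅(x : G), w⁆ ∈ W := by
      rw [commutatorElement_def]
      exact mul_mem ((mem_normalizer_iff.mp (hQW hx) w).mp hw) (inv_mem hw)
    have h4 := hWL.le (mem_inf.mpr ⟨h3, h2⟩)
    rw [mem_bot, commutatorElement_eq_one_iff_mul_comm] at h4
    exact h4.symm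
  · rw [hz', ← sect_inf_centralizer hWN hzN hzW (hcopa W hnW) (isSolvable_zpowers' a),
      centralizer_zpowers', hfixV, sect_eq_bot_iff bot_le]
    exact bot_le
  · rw [← sect_commutator hQN hQN]
    exact sect_mono hQQ.le
  · rintro _ ⟨x, hx, rfl⟩
    rw [mem_centralizer_iff]
    rintro _ ⟨y, hy, rfl⟩
    rw [← map_pow, ← map_mul, ← map_mul]
    exact congrArg _ (Subtype.ext (mem_centralizer_iff.mp (hpow _ hx) y hy))
  · rw [← sect_commutator hQN hRN, hQR]
  · rw [Ne, sect_eq_bot_iff hQN]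
    exact fun h => hZne (hZQ.trans h)
  · rw [← sect_inf_centralizer hQN hRN hRQ hcopR (isSolvable_of_isPGroup hR)]
    exact sect_le_centralizer hQc
  · rcases hcase with ⟨h1, h2⟩ | h1
    · left
      refine ⟨?_, ?_⟩
      · rw [hz']
        exact sect_le_centralizer (h1.trans (centralizer_zpowers' a).ge)
      · rw [← hza, ← sect_commutator hQN hzN, h2]
    · right
      rw [hz', ← sect_inf_centralizer hRN hzN hzR (hcopa R hnR) (isSolvable_zpowers' a),
        centralizer_zpowers']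
      exact sect_le_centralizer h1

/-- A configuration minimal in both groups. -/
structure MinConfig (A V Q R : Subgroup G) (v q r : ℕ) : Prop where
  conf : Config A V Q R v q r
  subQ : ∀ Q' : Subgroup G, Q' < Q → A ≤ normalizer (Q' : Set G) → R ≤ normalizer (Q' : Set G) →
    ⁅Q', R⁆ = ⊥
  subR : ∀ R' : Subgroup G, R' < R → A ≤ normalizer (R' : Set G) → ⁅Q, R'⁆ = ⊥

theorem commute_pow_commutator {x y : G} (hc : ∀ i : ℕ, Commute (x ^ i) ⁅x, y⁆) (k : ℕ) :
    ⁅x ^ k, y⁆ = ⁅x, y⁆ ^ k := by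
  induction k with
  | zero => simp
  | succ k ih =>
    rw [show ⁅x ^ (k + 1), y⁆ = x ^ k * ⁅x, y⁆ * (x ^ k)⁻¹ * ⁅x ^ k, y⁆ by
      simp only [commutatorElement_def, pow_succ]; group, (hc k).eq, mul_inv_cancel_right, ih,
      ← pow_succ']

namespace MinConfig

variable {A V Q R : Subgroup G} {v q r : ℕ}

theorem copRQ [Finite G] (h : MinConfig A V Q R v q r) :
    (Nat.card R).Coprime (Nat.card Q) := by
  haveI := Fact.mk h.conf.hq
  haveI := Fact.mk h.conf.hr
  exact coprime_of_isPGroup h.conf.hrq h.conf.hR h.conf.hQ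

theorem solR [Finite G] (h : MinConfig A V Q R v q r) : Group.IsSolvable R :=
  haveI := Fact.mk h.conf.hr
  isSolvable_of_isPGroup h.conf.hR

theorem commutator_eq [Finite G] (h : MinConfig A V Q R v q r) : ⁅Q, R⁆ = Q := by
  have hle : ⁅Q, R⁆ ≤ Q := H1.commutator_le_left_of_le_normalizer h.conf.RQ
  refine (lt_or_eq_of_le hle).resolve_left fun hlt => h.conf.ne ?_
  rw [← H1.commutator_commutator_eq h.conf.RQ h.copRQ (Or.inl h.solR)]
  exact h.subQ _ hlt (le_normalizer_commutator'' h.conf.AQ h.conf.AR)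
    H1.right_le_normalizer_commutator

theorem Q_ne_bot [Finite G] (h : MinConfig A V Q R v q r) : Q ≠ ⊥ := fun e =>
  h.conf.ne (by rw [e, commutator_bot_left])

theorem not_le_centralizer [Finite G] (h : MinConfig A V Q R v q r) :
    ¬ R ≤ centralizer (Q : Set G) := fun e => h.conf.ne (by
  rw [commutator_comm, commutator_eq_bot_iff_le_centralizer]; exact e)

/-- Proper invariant subgroups of `Q` are centralised by `R`. -/
theorem le_centralizer_R [Finite G] (h : MinConfig A V Q R v q r) {M : Subgroup G} (hM : M < Q)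
    (hA : A ≤ normalizer (M : Set G)) (hR : R ≤ normalizer (M : Set G)) :
    M ≤ centralizer (R : Set G) :=
  commutator_eq_bot_iff_le_centralizer.mp (h.subQ M hM hA hR)

theorem derived_lt [Finite G] (h : MinConfig A V Q R v q r) : ⁅Q, Q⁆ < Q := by
  haveI := Fact.mk h.conf.hq
  refine lt_of_le_of_ne (commutator_le_self Q) fun e => ?_
  haveI : Nontrivial Q := (nontrivial_iff_ne_bot Q).mpr h.Q_ne_bot
  haveI : Group.IsSolvable Q := isSolvable_of_isPGroup h.conf.hQ
  refine (Group.IsSolvable.commutator_lt_top_of_nontrivial Q).ne (map_injective Q.subtype_injective ?_)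
  rw [Subgroup.map_subtype_commutator, ← MonoidHom.range_eq_map, Subgroup.range_subtype, e]

theorem derived_le_centralizer_R [Finite G] (h : MinConfig A V Q R v q r) :
    ⁅Q, Q⁆ ≤ centralizer (R : Set G) :=
  h.le_centralizer_R h.derived_lt (le_normalizer_commutator'' h.conf.AQ h.conf.AQ)
    (le_normalizer_commutator'' h.conf.RQ h.conf.RQ)

/-- The fixed points of `R` are central in `Q`. -/
theorem fixed_le_center [Finite G] (h : MinConfig A V Q R v q r) {M : Subgroup G} (hMQ : M ≤ Q)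
    (hM : M ≤ centralizer (R : Set G)) : M ≤ centralizer (Q : Set G) := by
  have h1 : ⁅⁅R, Q⁆, M⁆ = ⊥ := by
    refine commutator_commutator_eq_bot_of_rotate ?_ ?_
    · rw [commutator_eq_bot_iff_le_centralizer]
      exact (commutator_mono le_rfl hMQ).trans h.derived_le_centralizer_R
    · rw [show ⁅M, R⁆ = ⊥ from commutator_eq_bot_iff_le_centralizer.mpr hM, commutator_bot_left]
  rw [commutator_comm, commutator_eq_bot_iff_le_centralizer] at h1
  rw [commutator_comm R Q, h.commutator_eq] at h1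
  exact h1

theorem derived_le_center [Finite G] (h : MinConfig A V Q R v q r) :
    ⁅Q, Q⁆ ≤ centralizer (Q : Set G) :=
  h.fixed_le_center (commutator_le_self Q) h.derived_le_centralizer_R

theorem pow_mem_fixed [Finite G] (h : MinConfig A V Q R v q r) {x : G} (hx : x ∈ Q) :
    x ^ q ∈ Q ⊓ centralizer (R : Set G) := by
  haveI := Fact.mk h.conf.hq
  have hlt : (frattini Q).map Q.subtype < Q := by
    refine lt_of_le_of_ne (map_subtype_le _) fun e => h.Q_ne_bot ?_
    have h1 : frattini Q = ⊤ := map_injective Q.subtype_injective (by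
      rw [e, ← MonoidHom.range_eq_map, Subgroup.range_subtype])
    have h2 : (⊥ : Subgroup Q) = ⊤ := frattini_nongenerating (by rw [bot_sup_eq, h1])
    have h3 := congrArg (Subgroup.map Q.subtype) h2
    rw [Subgroup.map_bot, ← MonoidHom.range_eq_map, Subgroup.range_subtype] at h3
    exact h3.symm
  have hc := h.le_centralizer_R hlt
    (H1.le_normalizer_map_subtype_of_characteristic h.conf.AQ (frattini Q))
    (H1.le_normalizer_map_subtype_of_characteristic h.conf.RQ (frattini Q))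
  exact mem_inf.mpr ⟨pow_mem hx q,
    hc ⟨_, H6.pow_prime_mem_frattini h.conf.hQ ⟨x, hx⟩, by simp⟩⟩

theorem pow_mem_center [Finite G] (h : MinConfig A V Q R v q r) {x : G} (hx : x ∈ Q) :
    x ^ q ∈ centralizer (Q : Set G) :=
  h.fixed_le_center inf_le_left inf_le_right (h.pow_mem_fixed hx)

/-- The derived group of `Q` has exponent `q`. -/
theorem derived_pow [Finite G] (h : MinConfig A V Q R v q r) : ∀ x ∈ ⁅Q, Q⁆, x ^ q = 1 := by
  let M : Subgroup G :=
    { carrier := {z | z ∈ ⁅Q, Q⁆ ∧ z ^ q = 1}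
      one_mem' := ⟨one_mem _, one_pow _⟩
      mul_mem' := fun {a b} ha hb => ⟨mul_mem ha.1 hb.1, by
        have : Commute a b :=
          (mem_centralizer_iff.mp (h.derived_le_center hb.1) a (commutator_le_self Q ha.1))
        rw [this.mul_pow, ha.2, hb.2, one_mul]⟩
      inv_mem' := fun {a} ha => ⟨inv_mem ha.1, by rw [inv_pow, ha.2, inv_one]⟩ }
  have hle : ⁅Q, Q⁆ ≤ M := commutator_le.mpr fun x hx y hy => by
    refine ⟨commutator_mem_commutator hx hy, ?_⟩
    rw [← commute_pow_commutator (fun i => mem_centralizer_iff.mp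
      (h.derived_le_center (commutator_mem_commutator hx hy)) _ (pow_mem hx i)),
      commutatorElement_eq_one_iff_mul_comm]
    exact (mem_centralizer_iff.mp (h.pow_mem_center hx) y hy).symm
  exact fun x hx => (hle hx).2

theorem abelian_fixed_eq_bot [Finite G] (h : MinConfig A V Q R v q r) (hab : IsMulCommutative Q) :
    Q ⊓ centralizer (R : Set G) = ⊥ := by
  have := H1.commutator_inf_centralizer_eq_bot hab h.conf.RQ h.copRQ
  rwa [h.commutator_eq] at this

theorem abelian_exp [Finite G] (h : MinConfig A V Q R v q r) (hab : IsMulCommutative Q) :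
    ∀ x ∈ Q, x ^ q = 1 := fun x hx =>
  mem_bot.mp ((h.abelian_fixed_eq_bot hab).le (h.pow_mem_fixed hx))

/-- A normal subgroup of prime order of `A` centralises `R` or is fixed-point-free modulo
`C(Q)`. -/
theorem dichotomy [Finite G] (h : MinConfig A V Q R v q r) {b : G} (hb : b ∈ A)
    (hbn : A ≤ normalizer ((zpowers b : Subgroup G) : Set G)) :
    R ≤ centralizer ({b} : Set G) ∨
      (⁅R, zpowers b⁆ = R ∧ R ⊓ centralizer ({b} : Set G) ≤ centralizer (Q : Set G)) := by
  rw [← centralizer_zpowers']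
  set C := R ⊓ centralizer ((zpowers b : Subgroup G) : Set G)
  rcases lt_or_eq_of_le (inf_le_left : C ≤ R) with hlt | heq
  · right
    have hC : C ≤ centralizer (Q : Set G) := by
      have := h.subR C hlt (le_normalizer_inf' h.conf.AR (le_normalizer_centralizer' hbn))
      rw [commutator_comm] at this
      exact commutator_eq_bot_iff_le_centralizer.mp this
    refine ⟨?_, hC⟩
    have hbR : zpowers b ≤ normalizer (R : Set G) := (zpowers_le.mpr hb).trans h.conf.AR
    have hle : ⁅R, zpowers b⁆ ≤ R := H1.commutator_le_left_of_le_normalizer hbR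
    refine (lt_or_eq_of_le hle).resolve_left fun hlt2 => h.not_le_centralizer ?_
    have h2 := h.subR _ hlt2 (le_normalizer_commutator'' h.conf.AR hbn)
    rw [commutator_comm] at h2
    rw [← H1.commutator_sup_centralizer_eq hbR (h.conf.copR.coprime_dvd_left
      (card_dvd_of_le (zpowers_le.mpr hb))) (Or.inl (isSolvable_zpowers' b))]
    exact sup_le (commutator_eq_bot_iff_le_centralizer.mp h2) hC
  · exact Or.inl (inf_eq_left.mp heq)

theorem derived_ne [Finite G] (hab : ¬ IsMulCommutative Q) : ⁅Q, Q⁆ ≠ ⊥ := fun e => hab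
  ⟨⟨fun x y => Subtype.ext
    (mem_centralizer_iff.mp (commutator_eq_bot_iff_le_centralizer.mp e y.2) x x.2)⟩⟩

/-- For a non-abelian `Q`: the module `[V, Q']` and a kernel in `Q'`. -/
theorem exists_kernel_derived [Finite G] (h : MinConfig A V Q R v q r)
    (hab : ¬ IsMulCommutative Q) :
    ∃ V1 K : Subgroup G, V1 ≤ V ∧ K ≤ ⁅Q, Q⁆ ∧ K.relIndex ⁅Q, Q⁆ = q ∧
      A ≤ normalizer (V1 : Set G) ∧ Q ≤ normalizer (V1 : Set G) ∧ R ≤ normalizer (V1 : Set G) ∧
      V1 ⊓ centralizer (⁅Q, Q⁆ : Subgroup G) = ⊥ ∧ V1 ⊓ centralizer (K : Set G) ≠ ⊥ := by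
  haveI := Fact.mk h.conf.hq
  haveI := Fact.mk h.conf.hv
  set Z := ⁅Q, Q⁆ with hZ
  haveI := h.conf.hV.1
  haveI hZc : IsMulCommutative Z := ⟨⟨fun x y => Subtype.ext
    (mem_centralizer_iff.mp (h.derived_le_center y.2) x (commutator_le_self Q x.2))⟩⟩
  have hAZ : A ≤ normalizer (Z : Set G) := le_normalizer_commutator'' h.conf.AQ h.conf.AQ
  have hZQ : Z ≤ Q := commutator_le_self Q
  have hcop : (Nat.card Z).Coprime (Nat.card V) :=
    coprime_of_isPGroup h.conf.hqv (h.conf.hQ.to_le hZQ)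
      (fun x => ⟨1, Subtype.ext (by simpa using h.conf.hV.2 x x.2)⟩ : IsPGroup v V)
  have hZV : Z ≤ normalizer (V : Set G) := hZQ.trans h.conf.QV
  set V1 := ⁅V, Z⁆ with hV1
  have hle : V1 ≤ V := H1.commutator_le_left_of_le_normalizer hZV
  haveI : IsMulCommutative V1 := isMulCommutative_of_le h.conf.hV.1 hle
  obtain ⟨z, hz, hz1⟩ : ∃ z ∈ Z, z ≠ 1 := by
    by_contra hall
    push Not at hall
    exact MinConfig.derived_ne hab (eq_bot_iff.mpr fun x hx => mem_bot.mpr (hall x hx))
  have hzc : z ∉ centralizer (V1 : Set G) := by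
    intro hzc
    refine hz1 (mem_bot.mp (h.conf.faith.le (mem_inf.mpr ⟨hZQ hz, ?_⟩)))
    rw [mem_centralizer_iff]
    intro u hu
    have hu' : u ∈ ⁅V, Z⁆ ⊔ (V ⊓ centralizer (Z : Set G)) := by
      rwa [H1.commutator_sup_centralizer_eq hZV hcop
        (Or.inr (Group.isSolvable_of_comm fun x y => h.conf.hV.1.is_comm.comm x y))]
    have hle2 : ⁅V, Z⁆ ⊔ (V ⊓ centralizer (Z : Set G)) ≤ centralizer ({z} : Set G) :=
      sup_le (fun w hw => mem_centralizer_singleton'.mpr (mem_centralizer_iff.mp hzc w hw).symm)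
        (fun w hw => mem_centralizer_singleton'.mpr (mem_centralizer_iff.mp (mem_inf.mp hw).2 z hz))
    exact (mem_centralizer_singleton'.mp (hle2 hu')).symm
  obtain ⟨j, hj⟩ : ∃ j, Nat.card V1 = v ^ j := (IsPGroup.to_le
    (fun x => ⟨1, Subtype.ext (by simpa using h.conf.hV.2 x x.2)⟩ : IsPGroup v V) hle).exists_card_eq
  obtain ⟨K, hKZ, -, hKi, hne, -⟩ := exists_kernel (q := q) V1 Z h.derived_pow
    H1.right_le_normalizer_commutator
    (hj ▸ ((Nat.coprime_primes Fact.out Fact.out).mpr h.conf.hqv.symm).pow_left j) hz hzc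
  exact ⟨V1, K, hle, hKZ, hKi, le_normalizer_commutator'' h.conf.AV hAZ,
    le_normalizer_commutator'' h.conf.QV
      ((le_centralizer_iff.mp h.derived_le_center).trans (centralizer_le_normalizer _)),
    le_normalizer_commutator'' h.conf.RV
      ((le_centralizer_iff.mp h.derived_le_centralizer_R).trans (centralizer_le_normalizer _)),
    H1.commutator_inf_centralizer_eq_bot h.conf.hV.1 hZV hcop, hne⟩

/-- The final step for non-abelian `Q`. -/
theorem nonabelian_false [Finite G] (h : MinConfig A V Q R v q r) {V1 K : Subgroup G}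
    (hV1 : V1 ≤ V) (hKZ : K ≤ ⁅Q, Q⁆) (hKi : K.relIndex ⁅Q, Q⁆ = q)
    (hA1 : A ≤ normalizer (V1 : Set G)) (hQ1 : Q ≤ normalizer (V1 : Set G))
    (hR1 : R ≤ normalizer (V1 : Set G)) (hVZ : V1 ⊓ centralizer (⁅Q, Q⁆ : Subgroup G) = ⊥)
    (hVK : V1 ⊓ centralizer (K : Set G) ≠ ⊥) {a : G} (ha : a ∈ A) (ha1 : a ≠ 1)
    (haK : a ∈ normalizer (K : Set G)) (hZa : ∀ z ∈ ⁅Q, Q⁆, ⁅z, a⁆ ∈ K)
    (hfix : V1 ⊓ centralizer (K : Set G) ⊓ centralizer ({a} : Set G) = ⊥)
    (hcase : (R ≤ centralizer ({a} : Set G) ∧ ⁅Q, zpowers a⁆ = Q) ∨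
      R ⊓ centralizer ({a} : Set G) ≤ centralizer (Q : Set G)) : False := by
  haveI := Fact.mk h.conf.hq
  haveI := Fact.mk h.conf.hv
  haveI := Fact.mk h.conf.hr
  obtain ⟨n, hn, hnA, han⟩ := h.conf.pair.exists_orderOf ha ha1
  have hne : ∀ {p : ℕ} {X : Subgroup G}, p.Prime → IsPGroup p X → X ≠ ⊥ →
      (Nat.card A).Coprime (Nat.card X) → n ≠ p := by
    intro p X hp hX hX1 hcop e
    haveI := Fact.mk hp
    obtain ⟨k, hk⟩ := hX.exists_card_eq
    rcases k with _ | k
    · exact hX1 (card_eq_one.mp (by rw [hk, pow_zero]))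
    · exact hp.not_dvd_one (hcop ▸ Nat.dvd_gcd (e ▸ hnA) (hk ▸ dvd_pow_self p k.succ_ne_zero) : _)
  refine quotient_false (V := V1) hn han h.conf.hqv ?_ ?_ ?_ h.conf.hrq
    ⟨isMulCommutative_of_le h.conf.hV.1 hV1, fun x hx => h.conf.hV.2 x (hV1 hx)⟩ h.conf.hQ h.conf.hR
    (hA1 ha) (h.conf.AQ ha) (h.conf.AR ha) haK hQ1 hR1 h.conf.RQ rfl hKZ hKi hVZ hVK
    h.derived_le_center h.derived_le_centralizer_R hZa hfix (fun x hx => h.pow_mem_center hx)
    h.commutator_eq (h.fixed_le_center inf_le_left inf_le_right) hcase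
  · refine hne h.conf.hv (fun x => ⟨1, Subtype.ext (by simpa using h.conf.hV.2 x x.2)⟩) ?_
      h.conf.copV
    exact ne_bot_of_le_ne_bot (ne_bot_of_le_ne_bot hVK inf_le_left) hV1
  · exact hne h.conf.hq h.conf.hQ h.Q_ne_bot h.conf.copQ
  · exact (hne h.conf.hr h.conf.hR (fun e => h.conf.ne (by rw [e, commutator_bot_right]))
      h.conf.copR).symm

/-- The kernels for abelian `Q`. -/
theorem exists_kernel_abelian [Finite G] (h : MinConfig A V Q R v q r)
    (hab : IsMulCommutative Q) :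
    ∃ V1 : Subgroup G, V1 ≤ V ∧ A ≤ normalizer (V1 : Set G) ∧ Q ≤ normalizer (V1 : Set G) ∧
      R ≤ normalizer (V1 : Set G) ∧ V1 ⊓ centralizer (Q : Set G) = ⊥ ∧
      ∀ z ∈ Q, z ≠ 1 → ∃ K : Subgroup G, z ∉ K ∧ K ≤ Q ∧ K.relIndex Q = q ∧
        V1 ⊓ centralizer (K : Set G) ≠ ⊥ := by
  haveI := Fact.mk h.conf.hq
  haveI := Fact.mk h.conf.hv
  haveI := h.conf.hV.1
  have hVp : IsPGroup v V := fun x => ⟨1, Subtype.ext (by simpa using h.conf.hV.2 x x.2)⟩
  have hcop : (Nat.card Q).Coprime (Nat.card V) := coprime_of_isPGroup h.conf.hqv h.conf.hQ hVp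
  set V1 := ⁅V, Q⁆ with hV1
  have hle : V1 ≤ V := H1.commutator_le_left_of_le_normalizer h.conf.QV
  haveI : IsMulCommutative V1 := isMulCommutative_of_le h.conf.hV.1 hle
  refine ⟨V1, hle, le_normalizer_commutator'' h.conf.AV h.conf.AQ,
    H1.right_le_normalizer_commutator, le_normalizer_commutator'' h.conf.RV h.conf.RQ,
    H1.commutator_inf_centralizer_eq_bot h.conf.hV.1 h.conf.QV hcop, fun z hz hz1 => ?_⟩
  have hzc : z ∉ centralizer (V1 : Set G) := by
    intro hzc
    refine hz1 (mem_bot.mp (h.conf.faith.le (mem_inf.mpr ⟨hz, ?_⟩)))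
    rw [mem_centralizer_iff]
    intro u hu
    have hu' : u ∈ ⁅V, Q⁆ ⊔ (V ⊓ centralizer (Q : Set G)) := by
      rwa [H1.commutator_sup_centralizer_eq h.conf.QV hcop
        (Or.inr (Group.isSolvable_of_comm fun x y => h.conf.hV.1.is_comm.comm x y))]
    have hle2 : ⁅V, Q⁆ ⊔ (V ⊓ centralizer (Q : Set G)) ≤ centralizer ({z} : Set G) :=
      sup_le (fun w hw => mem_centralizer_singleton'.mpr (mem_centralizer_iff.mp hzc w hw).symm)
        (fun w hw => mem_centralizer_singleton'.mpr (mem_centralizer_iff.mp (mem_inf.mp hw).2 z hz))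
    exact (mem_centralizer_singleton'.mp (hle2 hu')).symm
  obtain ⟨j, hj⟩ := (hVp.to_le hle).exists_card_eq
  haveI := hab
  obtain ⟨K, hKQ, hzK, hKi, hne, -⟩ := exists_kernel (q := q) V1 Q (h.abelian_exp hab)
    H1.right_le_normalizer_commutator
    (hj ▸ ((Nat.coprime_primes Fact.out Fact.out).mpr h.conf.hqv.symm).pow_left j) hz hzc
  exact ⟨K, hzK, hKQ, hKi, hne⟩

end MinConfig

/-- Conjugation preserves the family of kernels. -/
theorem kernel_conj [Finite G] {V Q K : Subgroup G} {q : ℕ} {g : G}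
    (hgV : g ∈ normalizer (V : Set G)) (hgQ : g ∈ normalizer (Q : Set G))
    (hK : K ≤ Q ∧ K.relIndex Q = q ∧ V ⊓ centralizer (K : Set G) ≠ ⊥) :
    MulAut.conj g • K ≤ Q ∧ (MulAut.conj g • K).relIndex Q = q ∧
      V ⊓ centralizer ((MulAut.conj g • K : Subgroup G) : Set G) ≠ ⊥ := by
  have hV : MulAut.conj g • V = V := mem_normalizer_iff_map_conj_eq.mp hgV
  have hQ : MulAut.conj g • Q = Q := mem_normalizer_iff_map_conj_eq.mp hgQ
  refine ⟨?_, ?_, ?_⟩
  · rw [← hQ]; exact map_mono hK.1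
  · conv_lhs => rw [← hQ]
    exact (relIndex_map_map_of_injective K Q (MulAut.conj g).injective).trans hK.2.1
  · intro e
    refine hK.2.2 (eq_bot_iff.mpr fun x hx => ?_)
    obtain ⟨hxV, hxK⟩ := mem_inf.mp hx
    have : g * x * g⁻¹ ∈ V ⊓ centralizer ((MulAut.conj g • K : Subgroup G) : Set G) := by
      refine mem_inf.mpr ⟨(mem_normalizer_iff.mp hgV x).mp hxV, mem_centralizer_iff.mpr ?_⟩
      intro k hk
      obtain ⟨k', hk', rfl⟩ := (show k ∈ (K.map (MulAut.conj g).toMonoidHom) from hk)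
      show g * k' * g⁻¹ * (g * x * g⁻¹) = g * x * g⁻¹ * (g * k' * g⁻¹)
      calc _ = g * (k' * x) * g⁻¹ := by group
        _ = g * (x * k') * g⁻¹ := by rw [mem_centralizer_iff.mp hxK k' hk']
        _ = _ := by group
    rw [e, mem_bot, conj_eq_one_iff] at this
    exact mem_bot.mpr this

/-- Case I: some normal subgroup of prime order of `A` centralises `R`. -/
theorem MinConfig.caseI_false [Finite G] {A V Q R : Subgroup G} {v q r : ℕ}
    (h : MinConfig A V Q R v q r) {b : G} (hb : b ∈ A) (hb1 : b ≠ 1)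
    (hbn : A ≤ normalizer ((zpowers b : Subgroup G) : Set G))
    (hRb : R ≤ centralizer ({b} : Set G)) : False := by
  haveI := Fact.mk h.conf.hq
  haveI := Fact.mk h.conf.hv
  have hbA : zpowers b ≤ A := zpowers_le.mpr hb
  have hbQ : zpowers b ≤ normalizer (Q : Set G) := hbA.trans h.conf.AQ
  have hRzb : R ≤ normalizer ((zpowers b : Subgroup G) : Set G) :=
    (hRb.trans (centralizer_zpowers' b).ge).trans (centralizer_le_normalizer _)
  have hQb : ⁅Q, zpowers b⁆ = Q := by
    have hle : ⁅Q, zpowers b⁆ ≤ Q := H1.commutator_le_left_of_le_normalizer hbQ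
    refine (lt_or_eq_of_le hle).resolve_left fun hlt => h.conf.ne ?_
    have h1 := h.le_centralizer_R hlt (le_normalizer_commutator'' h.conf.AQ hbn)
      (le_normalizer_commutator'' h.conf.RQ hRzb)
    rw [commutator_eq_bot_iff_le_centralizer]
    rw [← H1.commutator_sup_centralizer_eq hbQ (h.conf.copQ.coprime_dvd_left (card_dvd_of_le hbA))
      (Or.inl (isSolvable_zpowers' b))]
    refine sup_le h1 fun x hx => mem_centralizer_iff.mpr fun y hy => ?_
    rw [centralizer_zpowers'] at hx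
    exact (h.conf.commQR b hb hb1 hbn x hx y (mem_inf.mpr ⟨hy, hRb hy⟩)).symm
  have hfpf : ∀ a ∈ A, a ∉ zpowers b → R ⊓ centralizer ({a} : Set G) = ⊥ := by
    intro a ha hab'
    refine le_bot_iff.mp ((le_inf inf_le_left ?_).trans h.conf.fixR.le)
    rw [le_centralizer_iff, ← h.conf.pair.eq_sup hbA (by simp [hb1]) ha hab', sup_le_iff, zpowers_le,
      zpowers_le, mem_centralizer_iff, mem_centralizer_iff]
    exact ⟨fun x hx => (mem_centralizer_singleton'.mp (hRb (mem_inf.mp hx).1)).symm,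
      fun x hx => (mem_centralizer_singleton'.mp (mem_inf.mp hx).2).symm⟩
  by_cases hab : IsMulCommutative Q
  · obtain ⟨V1, hV1, hA1, hQ1, hR1, hVQ, hker⟩ := h.exists_kernel_abelian hab
    haveI := hab
    haveI : IsMulCommutative V1 := isMulCommutative_of_le h.conf.hV.1 hV1
    let P : Subgroup G → Prop := fun K =>
      K ≤ Q ∧ K.relIndex Q = q ∧ V1 ⊓ centralizer (K : Set G) ≠ ⊥
    have hVp : IsPGroup v V1 := fun x =>
      ⟨1, Subtype.ext (by simpa using h.conf.hV.2 x (hV1 x.2))⟩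
    have hstab : ∀ K, P K → ∃ a ∈ A, a ∉ zpowers b ∧ a ∈ normalizer (K : Set G) ∧
        ∀ x ∈ Q, ⁅x, a⁆ ∈ K := by
      intro K hK
      obtain ⟨a, ha, ha1, haK, hQa, -⟩ := exists_stab (q := q) h.conf.pair hA1 h.conf.AQ hQ1
        (h.conf.copV.coprime_dvd_right (card_dvd_of_le hV1)) h.conf.copQ
        (coprime_of_isPGroup h.conf.hqv h.conf.hQ hVp) hK.1 hK.2.1 hK.2.2 hVQ h.conf.fixQ
        (le_bot_iff.mp ((inf_le_inf_right _ hV1).trans h.conf.fixV.le))
      refine ⟨a, ha, fun hab' => ?_, haK, hQa⟩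
      obtain ⟨n, hn, -, hbn'⟩ := h.conf.pair.exists_orderOf hb hb1
      have hba : b ∈ zpowers a :=
        mem_zpowers_of_prime hn (hbn' ▸ pow_orderOf_eq_one b) hab' ha1
      have hle : ⁅Q, zpowers b⁆ ≤ K := by
        refine commutator_le.mpr fun x hx s hs => ?_
        have hs' : s ∈ zpowers a := zpowers_le.mpr hba hs
        have hfix : ∀ j : ℕ, ∀ x ∈ Q, ⁅x, a ^ j⁆ ∈ K := by
          intro j
          induction j with
          | zero => intro x _; simp
          | succ j ih =>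
            intro x hx
            rw [show ⁅x, a ^ (j + 1)⁆ = ⁅x, a ^ j⁆ * (a ^ j * ⁅x, a⁆ * (a ^ j)⁻¹) by
              simp only [commutatorElement_def, pow_succ]; group]
            exact mul_mem (ih x hx) ((mem_normalizer_iff.mp (pow_mem haK j) _).mp (hQa x hx))
        obtain ⟨j, rfl⟩ := (mem_powers_iff_mem_zpowers.mpr hs' : s ∈ Submonoid.powers a)
        exact hfix j x hx
      rw [hQb] at hle
      exact h.conf.hq.one_lt.ne ((relIndex_eq_one.mpr hle).symm.trans hK.2.1)
    have horb : ∀ K, P K → ∀ s ∈ A,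
        ∃ c ∈ zpowers b, MulAut.conj s • K = MulAut.conj c • K := by
      intro K hK s hs
      obtain ⟨a, ha, hab', haK, -⟩ := hstab K hK
      rw [← h.conf.pair.eq_sup hbA (by simp [hb1]) ha hab'] at hs
      obtain ⟨c, hc, d, hd, rfl⟩ :=
        H1.exists_mul_of_mem_sup ((zpowers_le.mpr ha).trans hbn) hs
      refine ⟨c, hc, ?_⟩
      rw [map_mul, mul_smul]
      congr 1
      exact mem_normalizer_iff_map_conj_eq.mp (zpowers_le.mpr haK hd)
    have hcomm : ∀ g ∈ R, ∀ c ∈ zpowers b, g * c = c * g := fun g hg c hc =>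
      (mem_centralizer_iff.mp ((hRb.trans (centralizer_zpowers' b).ge) hg) c hc).symm
    have hPg : ∀ g ∈ R ⊔ A, ∀ K, P K → P (MulAut.conj g • K) := fun g hg K hK =>
      kernel_conj ((sup_le hR1 hA1) hg) ((sup_le h.conf.RQ h.conf.AQ) hg) hK
    -- the elements of `R` fixing every `B`-orbit
    let M : Subgroup G :=
      { carrier := {g | g ∈ R ∧ ∀ K, P K → ∃ c ∈ zpowers b,
          MulAut.conj g • K = MulAut.conj c • K}
        one_mem' := ⟨one_mem _, fun K _ => ⟨1, one_mem _, rfl⟩⟩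
        mul_mem' := fun {x y} hx hy => ⟨mul_mem hx.1 hy.1, fun K hK => by
          obtain ⟨c, hc, he⟩ := hy.2 K hK
          obtain ⟨d, hd, he'⟩ := hx.2 K hK
          refine ⟨c * d, mul_mem hc hd, ?_⟩
          rw [map_mul, mul_smul, he, ← mul_smul, ← map_mul, hcomm x hx.1 c hc, map_mul, mul_smul,
            he', ← mul_smul, ← map_mul]⟩
        inv_mem' := fun {x} hx => ⟨inv_mem hx.1, fun K hK => by
          obtain ⟨c, hc, he⟩ := hx.2 K hK
          refine ⟨c⁻¹, inv_mem hc, ?_⟩
          rw [map_inv, inv_smul_eq_iff, ← mul_smul, ← map_mul, hcomm x hx.1 c⁻¹ (inv_mem hc),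
            map_mul, mul_smul, he, ← mul_smul, ← map_mul, inv_mul_cancel, map_one, one_smul]⟩ }
    have hRM : R ≤ M := by
      have hR' := H1.commutator_sup_centralizer_eq h.conf.AR h.conf.copR (Or.inr h.solR)
      rw [h.conf.fixR, sup_bot_eq] at hR'
      calc R = ⁅R, A⁆ := hR'.symm
        _ ≤ M := commutator_le.mpr fun g hg s hs => ⟨
          H1.commutator_le_left_of_le_normalizer h.conf.AR (commutator_mem_commutator hg hs),
          fun K hK => by
            obtain ⟨c, hc, he⟩ := horb K hK s⁻¹ (inv_mem hs)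
            have hgc : g⁻¹ * c ∈ R ⊔ A :=
              mul_mem (mem_sup_left (inv_mem hg)) (mem_sup_right (hbA hc))
            obtain ⟨d, hd, he'⟩ := horb _ (hPg _ hgc K hK) s hs
            refine ⟨d * c, mul_mem hd hc, ?_⟩
            have e1 : g * (d * (g⁻¹ * c)) = d * c := by
              rw [← mul_assoc, hcomm g hg d hd, mul_assoc, mul_inv_cancel_left]
            calc MulAut.conj ⁅g, s⁆ • K
                = MulAut.conj (g * s * g⁻¹) • (MulAut.conj s⁻¹ • K) := by
                  rw [← mul_smul, ← map_mul]; simp only [commutatorElement_def]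
              _ = MulAut.conj g • (MulAut.conj s • (MulAut.conj (g⁻¹ * c) • K)) := by
                  rw [he, ← mul_smul, ← map_mul, ← mul_smul, ← map_mul, ← mul_smul, ← map_mul]
                  congr 2; group
              _ = MulAut.conj (d * c) • K := by
                  rw [he', ← mul_smul, ← map_mul, ← mul_smul, ← map_mul, ← e1]
                  congr 2; group⟩
    have hRK : ∀ K, P K → ∀ g ∈ R, g ∈ normalizer (K : Set G) := by
      intro K hK g hg
      obtain ⟨c, hc, he⟩ := (hRM hg).2 K hK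
      have hpow : ∀ j : ℕ, MulAut.conj (g ^ j) • K = MulAut.conj (c ^ j) • K := by
        intro j
        induction j with
        | zero => simp
        | succ j ih =>
          rw [pow_succ, map_mul, mul_smul, he, ← mul_smul, ← map_mul,
            hcomm _ (pow_mem hg j) c hc, map_mul, mul_smul, ih, ← mul_smul, ← map_mul, ← pow_succ']
      have h1 := hpow (Nat.card R)
      rw [show g ^ Nat.card R = 1 from congrArg Subtype.val (pow_card_eq_one' (x := (⟨g, hg⟩ : R))),
        map_one, one_smul] at h1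
      have h2 : c ^ Nat.card R ∈ normalizer (K : Set G) :=
        mem_normalizer_iff_map_conj_eq.mpr h1.symm
      obtain ⟨e, hec⟩ := exists_pow_eq_self_of_coprime ((h.conf.copR.coprime_dvd_left
        (orderOf_dvd_natCard A (hbA hc))).symm)
      have h3 : c ∈ normalizer (K : Set G) := hec ▸ pow_mem h2 e
      rw [mem_normalizer_iff_map_conj_eq] at h3 ⊢
      exact he.trans h3
    obtain ⟨z, hz, hz1⟩ : ∃ z ∈ Q, z ≠ 1 := by
      by_contra hall
      push Not at hall
      exact h.Q_ne_bot (eq_bot_iff.mpr fun x hx => mem_bot.mpr (hall x hx))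
    obtain ⟨K, hzK, hK⟩ := hker z hz hz1
    obtain ⟨a, ha, hab', haK, hQa⟩ := hstab K hK
    let S : Subgroup G :=
      { carrier := {g | g ∈ normalizer (Q : Set G) ∧ g ∈ normalizer (K : Set G) ∧
          ∀ x ∈ Q, ⁅x, g⁆ ∈ K}
        one_mem' := ⟨one_mem _, one_mem _, fun x _ => by simp⟩
        mul_mem' := fun {x y} hx hy => ⟨mul_mem hx.1 hy.1, mul_mem hx.2.1 hy.2.1, fun u hu => by
          rw [show ⁅u, x * y⁆ = ⁅u, x⁆ * (x * ⁅u, y⁆ * x⁻¹) by
            simp only [commutatorElement_def]; group]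
          exact mul_mem (hx.2.2 u hu) ((mem_normalizer_iff.mp hx.2.1 _).mp (hy.2.2 u hu))⟩
        inv_mem' := fun {x} hx => ⟨inv_mem hx.1, inv_mem hx.2.1, fun u hu => by
          have := (mem_normalizer_iff.mp (inv_mem hx.2.1) _).mp (inv_mem (hx.2.2 u hu))
          simpa [commutatorElement_def, mul_assoc] using this⟩ }
    have haS : a ∈ S := ⟨h.conf.AQ ha, haK, hQa⟩
    have hconj : ∀ g ∈ R, ∀ x ∈ S, g * x * g⁻¹ ∈ S := by
      intro g hg x hx
      refine ⟨mul_mem (mul_mem (h.conf.RQ hg) hx.1) (inv_mem (h.conf.RQ hg)),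
        mul_mem (mul_mem (hRK K hK g hg) hx.2.1) (inv_mem (hRK K hK g hg)), fun u hu => ?_⟩
      have hu' : g⁻¹ * u * g ∈ Q := by
        have := (mem_normalizer_iff.mp (inv_mem (h.conf.RQ hg)) u).mp hu
        rwa [inv_inv] at this
      rw [show ⁅u, g * x * g⁻¹⁆ = g * ⁅g⁻¹ * u * g, x⁆ * g⁻¹ by
        simp only [commutatorElement_def]; group]
      exact (mem_normalizer_iff.mp (hRK K hK g hg) _).mp (hx.2.2 _ hu')
    have hzR : zpowers a ≤ normalizer (R : Set G) := zpowers_le.mpr (h.conf.AR ha)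
    have hR2 := H1.commutator_sup_centralizer_eq hzR
      (h.conf.copR.coprime_dvd_left (card_dvd_of_le (zpowers_le.mpr ha))) (Or.inr h.solR)
    rw [centralizer_zpowers', hfpf a ha hab', sup_bot_eq] at hR2
    have hRS : R ≤ S := hR2 ▸ commutator_le.mpr fun g hg s hs => by
      have hsS : s ∈ S := zpowers_le.mpr haS hs
      rw [commutatorElement_def]
      exact mul_mem (hconj g hg s hsS) (inv_mem hsS)
    have hQK : Q ≤ K := h.commutator_eq ▸ commutator_le.mpr fun x hx g hg => (hRS hg).2.2 x hx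
    exact hzK (hQK hz)
  · obtain ⟨V1, K, hV1, hKZ, hKi, hA1, hQ1, hR1, hVZ, hVK⟩ := h.exists_kernel_derived hab
    haveI : IsMulCommutative V1 := isMulCommutative_of_le h.conf.hV.1 hV1
    haveI : IsMulCommutative (⁅Q, Q⁆ : Subgroup G) := ⟨⟨fun x y => Subtype.ext
      (mem_centralizer_iff.mp (h.derived_le_center y.2) x (commutator_le_self Q x.2))⟩⟩
    have hVp : IsPGroup v V1 := fun x =>
      ⟨1, Subtype.ext (by simpa using h.conf.hV.2 x (hV1 x.2))⟩
    obtain ⟨a, ha, ha1, haK, hZa, hfix⟩ := exists_stab (q := q) h.conf.pair hA1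
      (le_normalizer_commutator'' h.conf.AQ h.conf.AQ) ((commutator_le_self Q).trans hQ1)
      (h.conf.copV.coprime_dvd_right (card_dvd_of_le hV1))
      (h.conf.copQ.coprime_dvd_right (card_dvd_of_le (commutator_le_self Q)))
      (coprime_of_isPGroup h.conf.hqv (h.conf.hQ.to_le (commutator_le_self Q)) hVp) hKZ hKi hVK hVZ
      (le_bot_iff.mp ((inf_le_inf_right _ (commutator_le_self Q)).trans h.conf.fixQ.le))
      (le_bot_iff.mp ((inf_le_inf_right _ hV1).trans h.conf.fixV.le))
    refine h.nonabelian_false hV1 hKZ hKi hA1 hQ1 hR1 hVZ hVK ha ha1 haK hZa hfix ?_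
    by_cases hab' : a ∈ zpowers b
    · left
      obtain ⟨n, hn, -, hbn'⟩ := h.conf.pair.exists_orderOf hb hb1
      have e : zpowers a = zpowers b := le_antisymm (zpowers_le.mpr hab')
        (zpowers_le.mpr (mem_zpowers_of_prime hn (hbn' ▸ pow_orderOf_eq_one b) hab' ha1))
      rw [← centralizer_zpowers' a, e, centralizer_zpowers', hQb]
      exact ⟨hRb, rfl⟩
    · exact Or.inr ((hfpf a ha hab').le.trans bot_le)

end H1.PairFPF
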