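import Cfsg.Agent.H1.PairFPF.Config
import Cfsg.Agent.H1.ThompsonTools
import Cfsg.Agent.H81.Fitting

/-! The minimal non-nilpotent situation under a coprime operator group. -/

set_option autoImplicit false
set_option linter.style.haveILetI false

namespace H1.PairFPF

open Subgroup
open scoped commutatorElement Pointwise

variable {G : Type*} [Group G]

/-- A subgroup containing every Sylow subgroup is everything. -/
theorem eq_top_of_sylow_le [Finite G] {X : Subgroup G}
    (h : ∀ p : ℕ, p.Prime → ∃ P : Sylow p G, (P : Subgroup G) ≤ X) : X = ⊤ := by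
  refine eq_top_of_card_eq X (Nat.dvd_antisymm (card_subgroup_dvd_card X) ?_)
  rw [← Nat.factorization_prime_le_iff_dvd Nat.card_pos.ne' Nat.card_pos.ne']
  intro p hp
  haveI := Fact.mk hp
  obtain ⟨P, hP⟩ := h p hp
  have hd := card_dvd_of_le hP
  rw [P.card_eq_multiplicity] at hd
  exact (hp.pow_dvd_iff_le_factorization Nat.card_pos.ne').mp hd

/-- In a nilpotent image, a `p`-element comes from a Sylow `p`-subgroup. -/
theorem exists_sylow_map_eq [Finite G] {H : Type*} [Group H] [Finite H] (f : G →* H)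
    (hf : Function.Surjective f) [Group.IsNilpotent H] {p : ℕ} [Fact p.Prime] (P : Sylow p G)
    {y : G} {k : ℕ} (hy : y ^ p ^ k = 1) : ∃ s ∈ P, f s = f y := by
  set S := P.mapSurjective hf with hS
  haveI : (S : Subgroup H).Normal := inferInstance
  have hz : IsPGroup p (zpowers (f y)) := by
    intro x
    obtain ⟨i, hi⟩ := mem_zpowers_iff.mp x.2
    refine ⟨k, Subtype.ext ?_⟩
    rw [SubmonoidClass.coe_pow, ← hi, ← zpow_natCast, ← zpow_mul, mul_comm, zpow_mul, zpow_natCast,
      ← map_pow, hy, map_one, one_zpow]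
    rfl
  obtain ⟨T, hT⟩ := hz.exists_le_sylow
  haveI := Sylow.unique_of_normal S inferInstance
  have hTS : T = S := Subsingleton.elim _ _
  have hmem : f y ∈ (S : Subgroup H) := hTS ▸ hT (mem_zpowers (f y))
  rw [hS, Sylow.coe_mapSurjective] at hmem
  exact hmem

/-- The projection of `P` onto its image in a section. -/
def sectHom {L P : Subgroup G} (hP : P ≤ normalizer (L : Set G)) : P →* sect L P :=
  ((QuotientGroup.mk' _).subgroupMap (P.subgroupOf (normalizer (L : Set G)))).comp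
    (subgroupOfEquivOfLe hP).symm.toMonoidHom

theorem sectHom_surjective {L P : Subgroup G} (hP : P ≤ normalizer (L : Set G)) :
    Function.Surjective (sectHom hP) :=
  (MonoidHom.subgroupMap_surjective _ _).comp (subgroupOfEquivOfLe hP).symm.surjective

theorem sectHom_eq_one {L P : Subgroup G} (hP : P ≤ normalizer (L : Set G)) {x : P} :
    sectHom hP x = 1 ↔ (x : G) ∈ L := by
  rw [Subtype.ext_iff]
  exact (QuotientGroup.eq_one_iff _).trans mem_subgroupOf

theorem sectHom_eq_iff {L P : Subgroup G} (hP : P ≤ normalizer (L : Set G)) {x y : P} :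
    sectHom hP x = sectHom hP y ↔ (x : G)⁻¹ * y ∈ L := by
  rw [← inv_mul_eq_one, ← map_inv, ← map_mul, sectHom_eq_one]
  simp

/-- Two disjoint sections both nilpotent. -/
theorem isNilpotent_of_two_sects [Finite G] {V S P : Subgroup G} (hVS : V ⊓ S = ⊥)
    (hV : P ≤ normalizer (V : Set G)) (hS : P ≤ normalizer (S : Set G))
    (h1 : Group.IsNilpotent (sect V P)) (h2 : Group.IsNilpotent (sect S P)) :
    Group.IsNilpotent P := by
  haveI := h1
  haveI := h2
  refine Subgroup.isNilpotent_of_ker_le_center ((sectHom hV).prod (sectHom hS)) ?_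
  intro x hx
  rw [MonoidHom.mem_ker, MonoidHom.prod_apply, Prod.mk_eq_one, sectHom_eq_one, sectHom_eq_one] at hx
  have : (x : G) = 1 := mem_bot.mp (hVS.le (mem_inf.mpr hx))
  rw [show x = 1 from Subtype.ext this]
  exact one_mem _

/-- Every invariant Sylow subgroup for primes other than `v` centralising the normal `v`-subgroup
`V` forces nilpotency. -/
theorem isNilpotent_of_centralizes [Finite G] {V P : Subgroup G} {v : ℕ} [Fact v.Prime]
    (hVP : V ≤ P) (hV : P ≤ normalizer (V : Set G)) (hVp : IsPGroup v V)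
    (hq : Group.IsNilpotent (sect V P))
    (hc : ∀ p : ℕ, p.Prime → p ≠ v → ∀ S : Sylow p P,
      (S : Subgroup P).map P.subtype ≤ centralizer (V : Set G)) :
    Group.IsNilpotent P := by
  haveI := hq
  refine ((Group.isNilpotent_of_finite_tfae (G := P)).out 0 3 rfl rfl).mpr ?_
  intro p _ S
  refine ⟨fun x hx g => ?_⟩
  obtain ⟨k, hk⟩ := S.isPGroup' ⟨x, hx⟩
  have hk' : x ^ p ^ k = 1 := congrArg Subtype.val hk
  have hy : (g * x * g⁻¹) ^ p ^ k = 1 := by rw [conj_pow, hk', mul_one, mul_inv_cancel]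
  obtain ⟨s, hs, hsy⟩ := exists_sylow_map_eq (sectHom hV) (sectHom_surjective hV) S hy
  have hw := (sectHom_eq_iff hV).mp hsy
  set w := (s : G)⁻¹ * ((g * x * g⁻¹ : P) : G) with hwdef
  by_cases hpv : p = v
  · subst hpv
    have hVS : V.subgroupOf P ≤ (S : Subgroup P) := by
      haveI : (V.subgroupOf P).Normal := normal_subgroupOf_of_le_normalizer hV
      obtain ⟨T, hT⟩ := (hVp.of_equiv (subgroupOfEquivOfLe hVP).symm).exists_le_sylow
      obtain ⟨c, hc⟩ := MulAction.exists_smul_eq P T S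
      intro y hy
      rw [← hc, Sylow.coe_subgroup_smul]
      refine H1.mem_conj_smul_iff.mpr (hT ?_)
      simpa using Normal.conj_mem inferInstance y hy c⁻¹
    have : g * x * g⁻¹ = s * ⟨w, hVP hw⟩ := Subtype.ext (by simp [hwdef])
    rw [this]
    exact mul_mem hs (hVS hw)
  · have hsV : (s : G) ∈ centralizer (V : Set G) :=
      hc p Fact.out hpv S (mem_map_of_mem _ hs)
    have hcomm : Commute (s : G) w := (mem_centralizer_iff.mp hsV w hw).symm
    obtain ⟨i, hi⟩ := S.isPGroup' ⟨s, hs⟩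
    obtain ⟨j, hj⟩ := hVp ⟨w, hw⟩
    have hi' : (s : G) ^ p ^ i = 1 := congrArg (fun z : S => ((z : P) : G)) hi
    have hj' : w ^ v ^ j = 1 := congrArg Subtype.val hj
    have hsw : (s : G) * w = ((g * x * g⁻¹ : P) : G) := by rw [hwdef, mul_inv_cancel_left]
    have hwk : w ^ p ^ (i + k) = 1 := by
      have h1 : ((s : G) * w) ^ p ^ (i + k) = 1 := by
        rw [hsw, pow_add, mul_comm (p ^ i), pow_mul, ← SubmonoidClass.coe_pow, hy]
        simp
      rw [hcomm.mul_pow, pow_add, pow_mul, hi', one_pow, one_mul, ← pow_add] at h1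
      exact h1
    have hw1 : w = 1 := orderOf_eq_one_iff.mp (Nat.eq_one_of_dvd_coprimes
      (((Nat.coprime_primes Fact.out Fact.out).mpr hpv).pow (i + k) j)
      (orderOf_dvd_of_pow_eq_one hwk) (orderOf_dvd_of_pow_eq_one hj'))
    rw [hw1, mul_one] at hsw
    rw [← Subtype.ext hsw]
    exact hs

/-- A member of least order of a non-empty family of subgroups. -/
theorem exists_min_card (P : Subgroup G → Prop) (h : ∃ W, P W) :
    ∃ W, P W ∧ ∀ W', P W' → Nat.card W ≤ Nat.card W' := by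
  classical
  have hex : ∃ m, ∃ W, P W ∧ Nat.card W = m := h.elim fun W hW => ⟨_, W, hW, rfl⟩
  obtain ⟨W, hW, hc⟩ := Nat.find_spec hex
  exact ⟨W, hW, fun W' hW' => hc ▸ Nat.find_min' hex ⟨W', hW', rfl⟩⟩

/-- Subgroups normalised by `H` and by `A`. -/
def IsInv (H A X : Subgroup G) : Prop :=
  X ≤ H ∧ H ≤ normalizer (X : Set G) ∧ A ≤ normalizer (X : Set G)

/-- A non-trivial invariant subgroup of a solvable group contains a minimal one, which is
elementary abelian. -/
theorem exists_minimal_inv [Finite G] {H A P : Subgroup G} (hH : Group.IsSolvable H)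
    (hP : IsInv H A P) (hP1 : P ≠ ⊥) :
    ∃ V v, Nat.Prime v ∧ IsInv H A V ∧ V ≤ P ∧ V ≠ ⊥ ∧ Cfsg.IsElementaryAbelian v V ∧
      ∀ S, IsInv H A S → S ≤ V → S = ⊥ ∨ S = V := by
  obtain ⟨V, ⟨hV, hVP, hV1⟩, hmin⟩ := exists_min_card
    (fun X : Subgroup G => IsInv H A X ∧ X ≤ P ∧ X ≠ ⊥) ⟨P, hP, le_rfl, hP1⟩
  have hmin' : ∀ S, IsInv H A S → S ≤ V → S = ⊥ ∨ S = V := fun S hS hSV =>
    (em (S = ⊥)).imp id fun h =>
      eq_of_le_of_card_ge hSV (hmin S ⟨hS, hSV.trans hVP, h⟩)
  have hD : ⁅V, V⁆ = ⊥ := by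
    refine (hmin' _ ⟨(commutator_le_self V).trans hV.1, le_normalizer_commutator'' hV.2.1 hV.2.1,
      le_normalizer_commutator'' hV.2.2 hV.2.2⟩ (commutator_le_self V)).resolve_right fun e => ?_
    haveI := (nontrivial_iff_ne_bot V).mpr hV1
    haveI : Group.IsSolvable V := H1.isSolvable_mono hH hV.1
    refine (Group.IsSolvable.commutator_lt_top_of_nontrivial V).ne
      (map_injective V.subtype_injective ?_)
    rw [Subgroup.map_subtype_commutator, ← MonoidHom.range_eq_map, Subgroup.range_subtype, e]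
  have hcomm : ∀ x ∈ V, ∀ y ∈ V, Commute x y := fun x hx y hy =>
    mem_centralizer_iff.mp (commutator_eq_bot_iff_le_centralizer.mp hD hy) x hx
  obtain ⟨v, hv, hvd⟩ := Nat.exists_prime_and_dvd (n := Nat.card V)
    (fun e => hV1 (card_eq_one.mp e))
  let W : Subgroup G :=
    { carrier := {x | x ∈ V ∧ x ^ v = 1}
      one_mem' := ⟨one_mem _, one_pow _⟩
      mul_mem' := fun {x y} hx hy => ⟨mul_mem hx.1 hy.1, by
        rw [(hcomm x hx.1 y hy.1).mul_pow, hx.2, hy.2, one_mul]⟩
      inv_mem' := fun {x} hx => ⟨inv_mem hx.1, by rw [inv_pow, hx.2, inv_one]⟩ }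
  have hWn : ∀ T : Subgroup G, T ≤ normalizer (V : Set G) → T ≤ normalizer (W : Set G) :=
    fun T hT t ht => normalizer_conj_mem fun x hx =>
      ⟨(mem_normalizer_iff.mp (hT ht) x).mp hx.1, by rw [conj_pow, hx.2, mul_one, mul_inv_cancel]⟩
  have hWV : W = V := by
    refine (hmin' W ⟨fun x hx => hV.1 hx.1, hWn _ hV.2.1, hWn _ hV.2.2⟩
      fun x hx => hx.1).resolve_left fun e => ?_
    haveI := Fact.mk hv
    obtain ⟨x, hx⟩ := exists_prime_orderOf_dvd_card' (G := V) v hvd
    have hxW : (x : G) ∈ W := ⟨x.2, by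
      rw [← SubmonoidClass.coe_pow, ← hx, pow_orderOf_eq_one]; rfl⟩
    rw [e, mem_bot] at hxW
    rw [show x = 1 from Subtype.ext hxW, orderOf_one] at hx
    exact hv.one_lt.ne hx
  exact ⟨V, v, hv, hV, hVP, hV1,
    ⟨⟨⟨fun x y => Subtype.ext (hcomm x x.2 y y.2)⟩⟩, fun x hx => (hWV.ge hx).2⟩, hmin'⟩

/-- The structure of a minimal counterexample to nilpotency of `P`. -/
theorem exists_reduced [Finite G] {A H P : Subgroup G} (hAH : A ≤ normalizer (H : Set G))
    (hcop : (Nat.card A).Coprime (Nat.card H)) (hH : Group.IsSolvable H) (hP : IsInv H A P)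
    (hPn : ¬ Group.IsNilpotent P)
    (hIH : ∀ V, IsInv H A V → V ≠ ⊥ → Group.IsNilpotent (sect V P)) :
    ∃ V N : Subgroup G, ∃ v : ℕ, v.Prime ∧ Cfsg.IsElementaryAbelian v V ∧ IsInv H A V ∧ V ≤ P ∧
      V ≠ ⊥ ∧ N ≤ H ∧ A ≤ normalizer (N : Set G) ∧ V ⊔ N = H ∧ V ⊓ N = ⊥ ∧
      N ⊓ centralizer (V : Set G) = ⊥ ∧ Group.IsNilpotent (P ⊓ N : Subgroup G) ∧
      ∀ S, S ≤ N → N ≤ normalizer (S : Set G) → A ≤ normalizer (S : Set G) → IsPGroup v S →
        S = ⊥ := by
  classical
  have hP1 : P ≠ ⊥ := fun e => hPn (by subst e; infer_instance)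
  obtain ⟨V, v, hv, hV, hVP, hV1, hVe, hmin⟩ := exists_minimal_inv hH hP hP1
  haveI := Fact.mk hv
  haveI := hVe.1
  have hVp : IsPGroup v V := fun x => ⟨1, Subtype.ext (by simpa using hVe.2 x x.2)⟩
  have hPV : P ≤ normalizer (V : Set G) := hP.1.trans hV.2.1
  have huniq : ∀ S, IsInv H A S → V ⊓ S = ⊥ → S = ⊥ := fun S hS hVS =>
    by_contra fun hS1 => hPn (isNilpotent_of_two_sects hVS hPV (hP.1.trans hS.2.1) (hIH V hV hV1)
      (hIH S hS hS1))
  obtain ⟨p, hp, hpv, S, hS⟩ : ∃ p : ℕ, p.Prime ∧ p ≠ v ∧ ∃ S : Sylow p P,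
      ¬ (S : Subgroup P).map P.subtype ≤ centralizer (V : Set G) := by
    by_contra h
    push Not at h
    exact hPn (isNilpotent_of_centralizes hVP hPV hVp (hIH V hV hV1) h)
  haveI := Fact.mk hp
  have hAP : A ≤ normalizer (P : Set G) := hP.2.2
  have hsolP : Group.IsSolvable P := H1.isSolvable_mono hH hP.1
  obtain ⟨T, hT⟩ := H1.exists_invariant_sylow hAP (hcop.coprime_dvd_right (card_dvd_of_le hP.1))
    (Or.inr hsolP) p
  set Q := (T : Subgroup P).map P.subtype with hQdef
  have hQP : Q ≤ P := map_subtype_le _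
  have hQp : IsPGroup p Q := T.isPGroup'.map _
  have hQc : ¬ Q ≤ centralizer (V : Set G) := by
    intro hle
    obtain ⟨c, hc⟩ := MulAction.exists_smul_eq P T S
    refine hS ?_
    rw [← hc, Sylow.coe_subgroup_smul, H1.map_subtype_conj_smul]
    intro x hx
    rw [H1.mem_conj_smul_iff] at hx
    have := (mem_normalizer_iff.mp (mem_normalizer_centralizer (hPV c.2)) _).mp (hle hx)
    simpa [mul_assoc] using this
  have hcopQV : (Nat.card Q).Coprime (Nat.card V) := coprime_of_isPGroup hpv hQp hVp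
  haveI := hIH V hV hV1
  -- conjugates of `Q` lie in `V ⊔ Q`
  have hconj : ∀ g ∈ H, MulAut.conj g • Q ≤ V ⊔ Q := by
    intro g hg x hx
    rw [H1.mem_conj_smul_iff] at hx
    obtain ⟨⟨y, hyP⟩, hy, hyx⟩ := hx
    obtain ⟨k, hk⟩ := T.isPGroup' ⟨⟨y, hyP⟩, hy⟩
    have hk' : y ^ p ^ k = 1 := congrArg (fun z : T => ((z : P) : G)) hk
    have hxe : x = g * y * g⁻¹ := by
      have : y = g⁻¹ * x * g := hyx
      rw [this]; group
    have hxP : x ∈ P := hxe ▸ (mem_normalizer_iff.mp (hP.2.1 hg) y).mp hyP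
    have hxk : (⟨x, hxP⟩ : P) ^ p ^ k = 1 := Subtype.ext (show x ^ p ^ k = 1 by
      rw [hxe, conj_pow, hk', mul_one, mul_inv_cancel])
    obtain ⟨s, hs, hsx⟩ := exists_sylow_map_eq (sectHom hPV) (sectHom_surjective hPV) T hxk
    have hw := (sectHom_eq_iff hPV).mp hsx
    have : x = (s : G) * ((s : G)⁻¹ * x) := by group
    rw [this]
    exact mul_mem (mem_sup_right (mem_map_of_mem _ hs)) (mem_sup_left hw)
  have hQV : Q ≤ normalizer (V : Set G) := hQP.trans hPV
  set N := H ⊓ normalizer (Q : Set G) with hN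
  have hNH : N ≤ H := inf_le_left
  have hAN : A ≤ normalizer (N : Set G) :=
    le_normalizer_inf' hAH (hT.trans le_normalizer)
  have hVN : V ⊔ N = H := by
    refine le_antisymm (sup_le hV.1 hNH) fun g hg => ?_
    obtain ⟨w, hw, he⟩ := H1.exists_conj_eq_of_coprime hQV hcopQV.symm
      (Or.inl (Group.isSolvable_of_comm fun x y => hVe.1.is_comm.comm x y)) (hconj g hg)
      (H1.card_conj_smul _ _)
    have hmem : w⁻¹ * g ∈ normalizer (Q : Set G) := by
      rw [mem_normalizer_iff_map_conj_eq]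
      show MulAut.conj (w⁻¹ * g) • Q = Q
      rw [map_mul, mul_smul, ← he, ← mul_smul, ← map_mul, inv_mul_cancel, map_one, one_smul]
    have hwg : w⁻¹ * g ∈ N := mem_inf.mpr ⟨mul_mem (inv_mem (hV.1 hw)) hg, hmem⟩
    simpa using mul_mem (mem_sup_left hw : w ∈ V ⊔ N) (mem_sup_right hwg)
  have hVC : V ≤ centralizer (V : Set G) := fun x hx => mem_centralizer_iff.mpr fun y hy =>
    congrArg Subtype.val (hVe.1.is_comm.comm (⟨y, hy⟩ : V) ⟨x, hx⟩)
  have hNV : N ≤ normalizer (V : Set G) := hNH.trans hV.2.1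
  have hfix : ∀ X : Subgroup G, N ≤ normalizer (X : Set G) → A ≤ normalizer (X : Set G) →
      V ⊓ centralizer (X : Set G) = ⊥ ∨ V ⊓ centralizer (X : Set G) = V := by
    intro X hNX hAX
    refine hmin _ ⟨inf_le_left.trans hV.1, ?_,
      le_normalizer_inf' hV.2.2 (le_normalizer_centralizer' hAX)⟩ inf_le_left
    rw [← hVN]
    refine sup_le (fun x hx => centralizer_le_normalizer _ ?_)
      (le_normalizer_inf' hNV (le_normalizer_centralizer' hNX))
    exact centralizer_le (SetLike.coe_subset_coe.mpr inf_le_left) (hVC hx)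
  have hVQ : V ⊓ centralizer (Q : Set G) = ⊥ := by
    refine (hfix Q inf_le_right hT).resolve_right fun e => hQc ?_
    exact le_centralizer_iff.mp (inf_eq_left.mp e)
  have hVN0 : V ⊓ N = ⊥ := by
    refine le_bot_iff.mp (le_trans ?_ hVQ.le)
    intro w hw
    obtain ⟨hwV, hwN⟩ := mem_inf.mp hw
    refine mem_inf.mpr ⟨hwV, mem_centralizer_iff.mpr fun x hx => ?_⟩
    have h1 : ⁅w, x⁆ ∈ V := by
      rw [show ⁅w, x⁆ = w * (x * w⁻¹ * x⁻¹) by simp only [commutatorElement_def]; group]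
      exact mul_mem hwV ((mem_normalizer_iff.mp (hQV hx) _).mp (inv_mem hwV))
    have h2 : ⁅w, x⁆ ∈ Q := by
      rw [commutatorElement_def]
      exact mul_mem ((mem_normalizer_iff.mp (mem_inf.mp hwN).2 x).mp hx) (inv_mem hx)
    have := Subgroup.disjoint_def.mp (Subgroup.disjoint_of_coprime_natCard hcopQV.symm) h1 h2
    exact (commutatorElement_eq_one_iff_mul_comm.mp this).symm
  have hfaith : N ⊓ centralizer (V : Set G) = ⊥ := by
    refine huniq _ ⟨inf_le_left.trans hNH, ?_,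
      le_normalizer_inf' hAN (le_normalizer_centralizer' hV.2.2)⟩ ?_
    · rw [← hVN]
      refine sup_le (fun x hx => centralizer_le_normalizer _ ?_)
        (le_normalizer_inf' le_normalizer (le_normalizer_centralizer' hNV))
      exact mem_centralizer_iff.mpr fun y hy =>
        (mem_centralizer_iff.mp (mem_inf.mp hy).2 x hx).symm
    · exact le_bot_iff.mp ((inf_le_inf_left _ inf_le_left).trans hVN0.le)
  refine ⟨V, N, v, hv, hVe, hV, hVP, hV1, hNH, hAN, hVN, hVN0, hfaith, ?_, fun X hXN hNX hAX hXv => ?_⟩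
  · have hle : P ⊓ N ≤ P := inf_le_left
    refine Subgroup.isNilpotent_of_ker_le_center ((sectHom hPV).comp (inclusion hle)) fun x hx => ?_
    rw [MonoidHom.mem_ker, MonoidHom.comp_apply, sectHom_eq_one] at hx
    have : (x : G) = 1 := mem_bot.mp (hVN0.le (mem_inf.mpr ⟨hx, (mem_inf.mp x.2).2⟩))
    rw [show x = 1 from Subtype.ext this]
    exact one_mem _
  · have hXV : X ≤ normalizer (V : Set G) := hXN.trans hNV
    rcases hfix X hNX hAX with h | h
    · exfalso
      obtain ⟨W, ⟨hWV, hXW, hW1⟩, hWmin⟩ := exists_min_card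
        (fun W : Subgroup G => W ≤ V ∧ X ≤ normalizer (W : Set G) ∧ W ≠ ⊥) ⟨V, le_rfl, hXV, hV1⟩
      have hlt := H1.commutator_lt_of_isPGroup hXv (hVp.to_le hWV) hXW hW1
      have hW0 : ⁅W, X⁆ = ⊥ := by
        by_contra hne
        have := hWmin _ ⟨hlt.le.trans hWV, H1.right_le_normalizer_commutator, hne⟩
        exact hlt.ne (eq_of_le_of_card_ge hlt.le this)
      exact hW1 (le_bot_iff.mp ((le_inf hWV
        (commutator_eq_bot_iff_le_centralizer.mp hW0)).trans h.le))
    · exact le_bot_iff.mp ((le_inf hXN (le_centralizer_iff.mp (inf_eq_left.mp h))).trans hfaith.le)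

end H1.PairFPF
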