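import Cfsg.Agent.H1.PairFPF.ClassTwo
import Cfsg.Agent.H1.PairFPF.Reduction

/-!
An `r`-group acted on faithfully with a fixed-point-free non-cyclic group of order six is abelian.
-/

set_option autoImplicit false
set_option linter.style.haveILetI false

namespace H1.PairFPF

open Subgroup
open scoped commutatorElement

variable {G : Type*} [Group G]

/-- The structure of a non-cyclic group of order six. -/
theorem exists_three_generator [Finite G] {A : Subgroup G} (h6 : Nat.card A = 6)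
    (hnc : ¬ IsCyclic A) :
    ∃ f ∈ A, orderOf f = 3 ∧ A ≤ normalizer ((zpowers f : Subgroup G) : Set G) ∧
      ∀ a ∈ A, a ∉ zpowers f → orderOf a = 2 ∧ a * f * a⁻¹ = f⁻¹ := by
  haveI : Fact (Nat.Prime 3) := ⟨Nat.prime_three⟩
  obtain ⟨⟨f, hfA⟩, hf⟩ := exists_prime_orderOf_dvd_card' (G := A) 3 (by rw [h6]; norm_num)
  rw [Subgroup.orderOf_mk] at hf
  set B := (zpowers f).subgroupOf A
  have hB : Nat.card B = 3 := by
    rw [Nat.card_congr (subgroupOfEquivOfLe (zpowers_le.mpr hfA)).toEquiv, Nat.card_zpowers, hf]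
  have hidx : B.index = 2 := by
    have := B.card_mul_index
    rw [hB, h6] at this
    omega
  haveI hBn : B.Normal := normal_of_index_eq_two hidx
  have hAn : A ≤ normalizer ((zpowers f : Subgroup G) : Set G) := fun x hx =>
    normalizer_conj_mem fun y hy => mem_subgroupOf.mp
      (hBn.conj_mem ⟨y, zpowers_le.mpr hfA hy⟩ (mem_subgroupOf.mpr hy) ⟨x, hx⟩)
  refine ⟨f, hfA, hf, hAn, fun a ha haf => ?_⟩
  have ha1 : a ≠ 1 := fun e => haf (e ▸ one_mem _)
  have hsq : a ^ 2 ∈ zpowers f := by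
    have := B.pow_index_mem ⟨a, ha⟩
    rwa [hidx, mem_subgroupOf] at this
  have hord : orderOf a = 2 := by
    have hd : orderOf a ∣ 6 := h6 ▸ orderOf_dvd_natCard A ha
    have hle : orderOf a ≤ 6 := Nat.le_of_dvd (by norm_num) hd
    have hne1 : orderOf a ≠ 1 := fun e => ha1 (orderOf_eq_one_iff.mp e)
    interval_cases horder : orderOf a <;> try omega
    · refine absurd ?_ haf
      have : a = (a ^ 2)⁻¹ := eq_inv_of_mul_eq_one_left (by
        rw [← pow_succ', show (2 : ℕ) + 1 = 3 from rfl, ← horder, pow_orderOf_eq_one])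
      rw [this]
      exact inv_mem hsq
    · refine absurd (isCyclic_of_orderOf_eq_card (⟨a, ha⟩ : A) ?_) hnc
      rw [Subgroup.orderOf_mk, horder, h6]
  refine ⟨hord, ?_⟩
  have hmem : a * f * a⁻¹ ∈ zpowers f := (mem_normalizer_iff.mp (hAn ha) f).mp (mem_zpowers f)
  obtain ⟨i, hi⟩ := mem_zpowers_iff.mp hmem
  have h3 : ((orderOf f : ℕ) : ℤ) = 3 := by rw [hf]; rfl
  rw [← zpow_mod_orderOf, h3] at hi
  have h0 := Int.emod_nonneg i (show (3 : ℤ) ≠ 0 by norm_num)
  have h1 := Int.emod_lt_of_pos i (show (0 : ℤ) < 3 by norm_num)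
  rcases (show i % 3 = 0 ∨ i % 3 = 1 ∨ i % 3 = 2 by omega) with e | e | e <;> rw [e] at hi
  · rw [zpow_zero, eq_comm, conj_eq_one_iff] at hi
    rw [hi, orderOf_one] at hf
    norm_num at hf
  · rw [zpow_one] at hi
    have hc : Commute a f := mul_inv_eq_iff_eq_mul.mp hi.symm
    refine absurd (isCyclic_of_orderOf_eq_card (⟨a * f, mul_mem ha hfA⟩ : A) ?_) hnc
    rw [Subgroup.orderOf_mk, hc.orderOf_mul_eq_mul_orderOf_of_coprime (by rw [hord, hf]; norm_num),
      hord, hf, h6]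
  · rw [← hi, eq_inv_iff_mul_eq_one, ← zpow_add_one, show (2 : ℤ) + 1 = ((orderOf f : ℕ) : ℤ) by
      rw [h3]; rfl, zpow_natCast, pow_orderOf_eq_one]

theorem sect_le_of_le_sup {L X Y Z : Subgroup G} (hY : Y ≤ L) (hX : X ≤ Y ⊔ Z)
    (hZ : Z ≤ normalizer (L : Set G)) : sect L X ≤ sect L Z := by
  rintro _ ⟨x, hx, rfl⟩
  obtain ⟨y, hy, z, hz, hxy⟩ :=
    H1.exists_mul_of_mem_sup hZ ((sup_le_sup_right hY Z) (hX hx))
  refine ⟨⟨z, hZ hz⟩, hz, QuotientGroup.eq.mpr (mem_subgroupOf.mpr ?_)⟩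
  have hxy' : (x : G) = y * z := hxy
  simp only [Subgroup.coe_mul, Subgroup.coe_inv, hxy']
  have := (mem_normalizer_iff.mp (inv_mem (hZ hz)) y).mp hy
  simpa [mul_assoc] using this

/-- A non-trivial normal subgroup of an `r`-group meets the centre. -/
theorem inf_centralizer_ne_bot_of_normal [Finite G] {r : ℕ} [Fact r.Prime] {R M : Subgroup G}
    (hR : IsPGroup r R) (hMR : M ≤ R) (hn : R ≤ normalizer (M : Set G)) (hM : M ≠ ⊥) :
    M ⊓ centralizer (R : Set G) ≠ ⊥ := by
  obtain ⟨W, ⟨hWM, hRW, hW1⟩, hmin⟩ := exists_min_card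
    (fun W : Subgroup G => W ≤ M ∧ R ≤ normalizer (W : Set G) ∧ W ≠ ⊥) ⟨M, le_rfl, hn, hM⟩
  have hlt := H1.commutator_lt_of_isPGroup hR (hR.to_le (hWM.trans hMR)) hRW hW1
  have h0 : ⁅W, R⁆ = ⊥ := by
    by_contra hne
    exact hlt.ne (eq_of_le_of_card_ge hlt.le
      (hmin _ ⟨hlt.le.trans hWM, H1.right_le_normalizer_commutator, hne⟩))
  exact ne_bot_of_le_ne_bot hW1 (le_inf hWM (commutator_eq_bot_iff_le_centralizer.mp h0))

/-- Data for the order six case. -/
structure SixData (A V R : Subgroup G) (v r : ℕ) : Prop where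
  hv : v.Prime
  hr : r.Prime
  hrv : r ≠ v
  h6 : Nat.card A = 6
  hnc : ¬ IsCyclic A
  hV : Cfsg.IsElementaryAbelian v V
  hR : IsPGroup r R
  AV : A ≤ normalizer (V : Set G)
  AR : A ≤ normalizer (R : Set G)
  RV : R ≤ normalizer (V : Set G)
  copV : (Nat.card A).Coprime (Nat.card V)
  copR : (Nat.card A).Coprime (Nat.card R)
  fixV : V ⊓ centralizer (A : Set G) = ⊥
  fixR : R ⊓ centralizer (A : Set G) = ⊥
  commVR : ∀ b ∈ A, b ≠ 1 → A ≤ normalizer ((zpowers b : Subgroup G) : Set G) →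
    ∀ x ∈ V ⊓ centralizer ({b} : Set G), ∀ y ∈ R ⊓ centralizer ({b} : Set G), x * y = y * x
  faith : R ⊓ centralizer (V : Set G) = ⊥

theorem SixData.coprime_six [Finite G] {A V R : Subgroup G} {v r : ℕ} (h : SixData A V R v r)
    (hR1 : R ≠ ⊥) : r.Coprime 6 := by
  haveI := Fact.mk h.hr
  obtain ⟨k, hk⟩ := h.hR.exists_card_eq
  rcases k with _ | k
  · exact absurd (card_eq_one.mp (by rw [hk, pow_zero])) hR1
  · exact h.h6 ▸ (h.copR.coprime_dvd_right (hk ▸ dvd_pow_self r k.succ_ne_zero)).symm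

theorem SixData.coprime_zpowers [Finite G] {A V R : Subgroup G} {v r : ℕ} (h : SixData A V R v r)
    {a : G} (ha : a ∈ A) : (Nat.card (zpowers a)).Coprime (Nat.card R) :=
  h.copR.coprime_dvd_left (card_dvd_of_le (zpowers_le.mpr ha))

/-- The fixed-point-free part: `R'` acts trivially on `V1`. -/
theorem SixData.fpf_false [Finite G] {A V R : Subgroup G} {v r : ℕ} (h : SixData A V R v r)
    {f : G} (hfA : f ∈ A) (hf : orderOf f = 3)
    (hinv : ∀ a ∈ A, a ∉ zpowers f → orderOf a = 2 ∧ a * f * a⁻¹ = f⁻¹)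
    {V1 Z : Subgroup G} (hV1 : V1 ≤ V) (hA1 : A ≤ normalizer (V1 : Set G))
    (hR1 : R ≤ normalizer (V1 : Set G)) (hZR : Z ≤ ⁅R, R⁆) (hZc : Z ≤ centralizer (R : Set G))
    (hAZ : A ≤ normalizer (Z : Set G)) (hexp : ∀ x ∈ Z, x ^ r = 1)
    (hZf : ⁅Z, zpowers f⁆ = Z) (hVZ : V1 ⊓ centralizer (Z : Set G) = ⊥)
    {z : G} (hz : z ∈ Z) (hzV : z ∉ centralizer (V1 : Set G))
    (hC : R ⊓ centralizer ({f} : Set G) ≤ centralizer (V1 : Set G)) : False := by
  haveI := Fact.mk h.hr
  haveI := Fact.mk h.hv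
  haveI : IsMulCommutative V1 := isMulCommutative_of_le h.hV.1 hV1
  have hZR' : Z ≤ R := hZR.trans (commutator_le_self R)
  haveI : IsMulCommutative Z := ⟨⟨fun x y => Subtype.ext
    (mem_centralizer_iff.mp (hZc y.2) x (hZR' x.2))⟩⟩
  have hVp : IsPGroup v V1 := fun x => ⟨1, Subtype.ext (by simpa using h.hV.2 x (hV1 x.2))⟩
  have hcopZ : (Nat.card Z).Coprime (Nat.card V1) :=
    coprime_of_isPGroup h.hrv (h.hR.to_le hZR') hVp
  have hR0 : R ≠ ⊥ := fun e => hzV (by
    rw [mem_bot.mp (e ▸ hZR' hz : z ∈ (⊥ : Subgroup G))]; exact one_mem _)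
  have hr6 := h.coprime_six hR0
  obtain ⟨j, hj⟩ := hVp.exists_card_eq
  obtain ⟨K, hKZ, hzK, hKi, hne, hzW⟩ := exists_kernel (q := r) V1 Z hexp (hZR'.trans hR1)
    (hj ▸ ((Nat.coprime_primes Fact.out Fact.out).mpr h.hrv.symm).pow_left j) hz hzV
  obtain ⟨a, ha, -, haK, hZa, hfix⟩ := exists_stab (q := r) (A := A)
    ⟨2, 3, Nat.prime_two, Nat.prime_three, h.h6, h.hnc⟩ hA1 hAZ (hZR'.trans hR1)
    (h.copV.coprime_dvd_right (card_dvd_of_le hV1))
    (h.copR.coprime_dvd_right (card_dvd_of_le hZR')) hcopZ hKZ hKi hne hVZ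
    (le_bot_iff.mp ((inf_le_inf_right _ hZR').trans h.fixR.le))
    (le_bot_iff.mp ((inf_le_inf_right _ hV1).trans h.fixV.le))
  set W := V1 ⊓ centralizer (K : Set G) with hW
  by_cases haf : a ∈ zpowers f
  · -- `a` generates `⟨f⟩`, so `Z = [Z, f] ≤ K`
    by_cases ha1 : a = 1
    · subst ha1
      refine hne (le_bot_iff.mp ((le_inf le_rfl ?_).trans hfix.le))
      intro x _
      simp [mem_centralizer_iff]
    haveI : Fact (Nat.Prime 3) := ⟨Nat.prime_three⟩
    have hfa : f ∈ zpowers a :=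
      mem_zpowers_of_prime Nat.prime_three (hf ▸ pow_orderOf_eq_one f) haf ha1
    have hle : ⁅Z, zpowers f⁆ ≤ K := by
      refine commutator_le.mpr fun x hx s hs => ?_
      have hs' : s ∈ zpowers a := zpowers_le.mpr hfa hs
      obtain ⟨i, rfl⟩ := (mem_powers_iff_mem_zpowers.mpr hs' : s ∈ Submonoid.powers a)
      clear hs hs'
      induction i generalizing x with
      | zero => simp
      | succ i ih =>
        rw [show ⁅x, a ^ (i + 1)⁆ = ⁅x, a ^ i⁆ * (a ^ i * ⁅x, a⁆ * (a ^ i)⁻¹) by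
          simp only [commutatorElement_def, pow_succ]; group]
        exact mul_mem (ih x hx) ((mem_normalizer_iff.mp (pow_mem haK i) _).mp (hZa x hx))
    rw [hZf] at hle
    exact hzK (hle hz)
  obtain ⟨ha2, hconj⟩ := hinv a ha haf
  have hasq : a * a = 1 := by rw [← sq, ← ha2, pow_orderOf_eq_one]
  have hainv : a⁻¹ = a := inv_eq_of_mul_eq_one_left hasq
  have haW : a ∈ normalizer (W : Set G) :=
    inf_normalizer_le_normalizer_inf (mem_inf.mpr ⟨hA1 ha, mem_normalizer_centralizer haK⟩)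
  have hWinv : ∀ w ∈ W, a * w * a⁻¹ = w⁻¹ := by
    intro w hw
    have hw' : a * w * a⁻¹ ∈ W := (mem_normalizer_iff.mp haW w).mp hw
    have hcomm : a * w * a⁻¹ * w = w * (a * w * a⁻¹) := congrArg Subtype.val
      ((isMulCommutative_of_le h.hV.1 ((inf_le_left : W ≤ V1).trans hV1)).is_comm.comm
        (⟨_, hw'⟩ : W) ⟨w, hw⟩)
    have hm : w * (a * w * a⁻¹) ∈ W ⊓ centralizer ({a} : Set G) := by
      refine mem_inf.mpr ⟨mul_mem hw hw', mem_centralizer_singleton'.mpr ?_⟩
      calc a * (w * (a * w * a⁻¹)) = a * w * a⁻¹ * (a * a) * w * a⁻¹ := by group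
        _ = a * w * a⁻¹ * w * a⁻¹ := by rw [hasq, mul_one]
        _ = w * (a * w * a⁻¹) * a⁻¹ := by rw [hcomm]
        _ = w * (a * w * a⁻¹) * a := by rw [hainv]
    rw [hfix, mem_bot] at hm
    exact eq_inv_of_mul_eq_one_right hm
  set L := R ⊓ centralizer (W : Set G) with hL
  have hRK : R ≤ centralizer (K : Set G) := le_centralizer_iff.mp (hKZ.trans hZc)
  have hRW : R ≤ normalizer (W : Set G) :=
    le_normalizer_inf' hR1 (le_normalizer_centralizer' (hRK.trans (centralizer_le_normalizer _)))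
  have hRL : R ≤ normalizer (L : Set G) :=
    le_normalizer_inf' le_normalizer (le_normalizer_centralizer' hRW)
  have hza : zpowers a ≤ normalizer (R : Set G) := zpowers_le.mpr (h.AR ha)
  have hRa : ∀ g ∈ R, g * (a * g⁻¹ * a⁻¹) ∈ L := by
    intro g hg
    have hgR : a * g⁻¹ * a⁻¹ ∈ R := (mem_normalizer_iff.mp (h.AR ha) _).mp (inv_mem hg)
    refine mem_inf.mpr ⟨mul_mem hg hgR, mem_centralizer_iff.mpr fun w hw => ?_⟩
    have hw' : g⁻¹ * w * g ∈ W := by
      have := (mem_normalizer_iff.mp (hRW (inv_mem hg)) w).mp hw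
      rwa [inv_inv] at this
    have hu : a * (g⁻¹ * w * g) * a⁻¹ = (g⁻¹ * w * g)⁻¹ := hWinv _ hw'
    have hwa : a * w⁻¹ * a⁻¹ = w := by rw [hWinv _ (inv_mem hw), inv_inv]
    -- conjugation by `a` commutes with the action of `g` on `W`
    have key : (g * (a * g⁻¹ * a⁻¹)) * w * (g * (a * g⁻¹ * a⁻¹))⁻¹ = w := by
      have h1 : a * g⁻¹ * a⁻¹ * w * (a * g⁻¹ * a⁻¹)⁻¹ = g⁻¹ * w * g := by
        calc a * g⁻¹ * a⁻¹ * w * (a * g⁻¹ * a⁻¹)⁻¹
            = a * (g⁻¹ * (a⁻¹ * w * a) * g) * a⁻¹ := by group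
          _ = a * (g⁻¹ * (a * w * a⁻¹) * g) * a⁻¹ := by rw [hainv]
          _ = a * (g⁻¹ * w * g)⁻¹ * a⁻¹ := by rw [hWinv w hw]; group
          _ = (a * (g⁻¹ * w * g) * a⁻¹)⁻¹ := by group
          _ = g⁻¹ * w * g := by rw [hu, inv_inv]
      calc _ = g * (a * g⁻¹ * a⁻¹ * w * (a * g⁻¹ * a⁻¹)⁻¹) * g⁻¹ := by group
        _ = w := by rw [h1]; group
    exact (mul_inv_eq_iff_eq_mul.mp key).symm
  have hzL : z ∉ L := fun hzL => hzW (mem_inf.mp hzL).2
  set T := ⁅⁅R, R⁆, R⁆ ⊔ L with hT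
  set N := normalizer (T : Set G)
  have hRT : R ≤ N := fun g hg => by
    rw [mem_normalizer_iff_map_conj_eq, hT, Subgroup.map_sup,
      mem_normalizer_iff_map_conj_eq.mp
        (le_normalizer_commutator'' (le_normalizer_commutator'' le_normalizer le_normalizer)
          le_normalizer hg),
      mem_normalizer_iff_map_conj_eq.mp (hRL hg)]
  set π := QuotientGroup.mk' (T.subgroupOf N)
  have hπ : ∀ g : N, (g : G) ∈ T → π g = 1 := fun g hg => (QuotientGroup.eq_one_iff _).mpr hg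
  have hπa : ∀ (g : G) (hg : g ∈ R), π ⟨a * g * a⁻¹, hRT ((mem_normalizer_iff.mp (h.AR ha) g).mp hg)⟩ =
      π ⟨g, hRT hg⟩ := by
    intro g hg
    refine (QuotientGroup.eq.mpr (mem_subgroupOf.mpr ?_))
    simp only [Subgroup.coe_mul, Subgroup.coe_inv]
    have h1 := (mem_normalizer_iff.mp (hRL (inv_mem hg)) _).mp (hRa g hg)
    have h2 : g⁻¹ * (g * (a * g⁻¹ * a⁻¹)) * g⁻¹⁻¹ = (a * g * a⁻¹)⁻¹ * g := by group
    rw [h2] at h1
    exact mem_sup_right h1
  set L0 := R ⊓ centralizer (V1 : Set G) with hL0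
  have hL0L : L0 ≤ L := inf_le_inf_left _
    (centralizer_le (SetLike.coe_subset_coe.mpr inf_le_left))
  have hRL0 : R ≤ normalizer (L0 : Set G) :=
    le_normalizer_inf' le_normalizer (le_normalizer_centralizer' hR1)
  have hAL0 : A ≤ normalizer (L0 : Set G) :=
    le_normalizer_inf' h.AR (le_normalizer_centralizer' hA1)
  -- `g (f g f⁻¹) (f² g f⁻²)` lies in `L0`
  have hnorm : ∀ g ∈ R, g * (f * g * f⁻¹) * (f ^ 2 * g * (f ^ 2)⁻¹) ∈ L0 := by
    intro g hg
    have hfR : ∀ u ∈ R, f * u * f⁻¹ ∈ R := fun u hu => (mem_normalizer_iff.mp (h.AR hfA) u).mp hu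
    set φ := QuotientGroup.mk' (L0.subgroupOf (normalizer (L0 : Set G))) ⟨f, hAL0 hfA⟩ with hφ
    have hφmem : ∀ x ∈ sect L0 R, φ * x * φ⁻¹ ∈ sect L0 R := by
      rintro _ ⟨y, hy, rfl⟩
      exact ⟨⟨f, hAL0 hfA⟩ * y * ⟨f, hAL0 hfA⟩⁻¹, hfR _ hy, by simp [hφ]⟩
    let ψ : sect L0 R → sect L0 R := fun x => x⁻¹ * ⟨φ * x * φ⁻¹, hφmem _ x.2⟩
    have hfix' : sect L0 R ⊓ centralizer ({φ} : Set _) = ⊥ := by
      rw [← centralizer_zpowers', hφ, ← sect_zpowers (hAL0 hfA), ← sect_inf_centralizer hRL0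
        ((zpowers_le.mpr hfA).trans hAL0) (zpowers_le.mpr (h.AR hfA)) (h.coprime_zpowers hfA)
        (isSolvable_zpowers' f), centralizer_zpowers', sect_eq_bot_iff (inf_le_left.trans hRL0)]
      exact le_inf inf_le_left hC
    have hinj : Function.Injective ψ := by
      intro x y hxy
      have h1 := congrArg Subtype.val hxy
      simp only [ψ, Subgroup.coe_mul, Subgroup.coe_inv] at h1
      have h2 : φ * ((x : _ ⧸ L0.subgroupOf (normalizer (L0 : Set G))) * (↑y)⁻¹) * φ⁻¹ =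
          ↑x * (↑y)⁻¹ := by
        calc φ * ((x : _ ⧸ L0.subgroupOf (normalizer (L0 : Set G))) * (↑y)⁻¹) * φ⁻¹
            = ↑x * ((↑x)⁻¹ * (φ * ↑x * φ⁻¹)) * (φ * ↑y * φ⁻¹)⁻¹ := by group
          _ = ↑x * ((↑y)⁻¹ * (φ * ↑y * φ⁻¹)) * (φ * ↑y * φ⁻¹)⁻¹ := by rw [h1]
          _ = ↑x * (↑y)⁻¹ := by group
      have hm : (x : _ ⧸ L0.subgroupOf (normalizer (L0 : Set G))) * (↑y)⁻¹ ∈
          sect L0 R ⊓ centralizer ({φ} : Set _) := mem_inf.mpr
        ⟨mul_mem x.2 (inv_mem y.2), mem_centralizer_singleton'.mpr (mul_inv_eq_iff_eq_mul.mp h2)⟩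
      rw [hfix', mem_bot, mul_inv_eq_one] at hm
      exact Subtype.ext hm
    obtain ⟨⟨_, y, hy, rfl⟩, hψ⟩ := (Finite.injective_iff_surjective.mp hinj)
      ⟨QuotientGroup.mk' _ ⟨g, hRL0 hg⟩, ⟨g, hRL0 hg⟩, hg, rfl⟩
    have h1 := congrArg Subtype.val hψ
    simp only [ψ, hφ, Subgroup.coe_mul, Subgroup.coe_inv, ← map_mul, ← map_inv] at h1
    have h2 := QuotientGroup.eq.mp h1
    rw [mem_subgroupOf] at h2
    simp only [Subgroup.coe_mul, Subgroup.coe_inv] at h2
    -- `g ≡ y⁻¹ (f y f⁻¹)`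
    set u := (y : G)⁻¹ * (f * y * f⁻¹) with hu
    have hug : u⁻¹ * g ∈ L0 := h2
    have hfn : ∀ i : ℕ, ∀ m ∈ L0, f ^ i * m * (f ^ i)⁻¹ ∈ L0 := fun i m hm =>
      (mem_normalizer_iff.mp (hAL0 (pow_mem hfA i)) m).mp hm
    have huR : u ∈ R := mul_mem (inv_mem hy) (hfR _ hy)
    have hu1 : f * u * f⁻¹ ∈ R := hfR _ huR
    have hu2 : f ^ 2 * u * (f ^ 2)⁻¹ ∈ R := (mem_normalizer_iff.mp (h.AR (pow_mem hfA 2)) u).mp huR
    have hf3 : f ^ 3 = 1 := hf ▸ pow_orderOf_eq_one f
    have htel : u * (f * u * f⁻¹) * (f ^ 2 * u * (f ^ 2)⁻¹) = 1 := by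
      calc _ = (y : G)⁻¹ * (f * f * f * y * (f * f * f)⁻¹) := by rw [hu, sq]; group
        _ = (y : G)⁻¹ * (f ^ 3 * y * (f ^ 3)⁻¹) := by rw [pow_three']
        _ = 1 := by rw [hf3]; group
    set m := u⁻¹ * g with hm
    have hg' : g = u * m := by rw [hm]; group
    have e : g * (f * g * f⁻¹) * (f ^ 2 * g * (f ^ 2)⁻¹) =
        ((u * m * u⁻¹) * ((u * (f * u * f⁻¹)) * (f ^ 1 * m * (f ^ 1)⁻¹) *
          (u * (f * u * f⁻¹))⁻¹)) *
        (u * (f * u * f⁻¹) * (f ^ 2 * u * (f ^ 2)⁻¹)) * (f ^ 2 * m * (f ^ 2)⁻¹) := by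
      rw [hg']; group
    rw [e, htel, mul_one]
    exact mul_mem (mul_mem ((mem_normalizer_iff.mp (hRL0 huR) m).mp hug)
      ((mem_normalizer_iff.mp (hRL0 (mul_mem huR hu1)) _).mp (hfn 1 m hug))) (hfn 2 m hug)
  set C0 := R ⊓ centralizer ({a} : Set G) with hC0
  have hkey : ∀ x ∈ C0, ∀ y ∈ C0, ⁅x, y⁆ ∈ T := by
    intro x hx y hy
    obtain ⟨hxR, hxa⟩ := mem_inf.mp hx
    obtain ⟨hyR, hya⟩ := mem_inf.mp hy
    have hfR : ∀ u ∈ R, f * u * f⁻¹ ∈ R := fun u hu => (mem_normalizer_iff.mp (h.AR hfA) u).mp hu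
    have hcR : ⁅x, y⁆ ∈ ⁅R, R⁆ := commutator_mem_commutator hxR hyR
    have hca : ⁅x, y⁆ ∈ C0 := mem_inf.mpr ⟨commutator_le_self R hcR, by
      rw [commutatorElement_def]
      exact mul_mem (mul_mem (mul_mem hxa hya) (inv_mem hxa)) (inv_mem hya)⟩
    -- `x (f x f⁻¹)² ≡ 1`
    have hsq : ∀ u, u ∈ C0 → ∀ (hu : u ∈ R), π ⟨u, hRT hu⟩ * π ⟨f * u * f⁻¹, hRT (hfR u hu)⟩ ^ 2 = 1 := by
      intro u hu' hu
      have hua := mem_centralizer_singleton'.mp (mem_inf.mp hu').2
      have h1 := hπa (f * u * f⁻¹) (hfR u hu)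
      have he : a * (f * u * f⁻¹) * a⁻¹ = f ^ 2 * u * (f ^ 2)⁻¹ := by
        calc a * (f * u * f⁻¹) * a⁻¹ = (a * f * a⁻¹) * (a * u * a⁻¹) * (a * f * a⁻¹)⁻¹ := by group
          _ = f⁻¹ * u * f⁻¹⁻¹ := by rw [hconj, mul_inv_eq_iff_eq_mul.mpr hua]
          _ = _ := by
            rw [show f⁻¹ = f ^ 2 from inv_eq_of_mul_eq_one_right (by
              rw [← pow_succ', show (2 : ℕ) + 1 = 3 from rfl, ← hf, pow_orderOf_eq_one])]
      have h2 := hπ ⟨_, hRT (mul_mem (mul_mem hu (hfR u hu))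
        (he ▸ (mem_normalizer_iff.mp (h.AR ha) _).mp (hfR u hu)))⟩
        ((le_sup_right : L ≤ T) (hL0L (hnorm u hu)))
      calc π ⟨u, hRT hu⟩ * π ⟨f * u * f⁻¹, hRT (hfR u hu)⟩ ^ 2
          = π ⟨u, hRT hu⟩ * π ⟨f * u * f⁻¹, hRT (hfR u hu)⟩ *
              π ⟨a * (f * u * f⁻¹) * a⁻¹, hRT ((mem_normalizer_iff.mp (h.AR ha) _).mp (hfR u hu))⟩ := by
            rw [h1, sq]; exact (mul_assoc _ _ _).symm
        _ = 1 := by
            rw [← map_mul, ← map_mul, ← h2]
            congr 1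
            exact Subtype.ext (by simp only [Subgroup.coe_mul, he])
    set c1 := π ⟨f * ⁅x, y⁆ * f⁻¹, hRT (hfR _ (commutator_le_self R hcR))⟩ with hc1
    set u1 := π ⟨f * x * f⁻¹, hRT (hfR x hxR)⟩
    set v1 := π ⟨f * y * f⁻¹, hRT (hfR y hyR)⟩
    have hc1e : c1 = ⁅u1, v1⁆ := by
      rw [hc1, ← map_commutatorElement]
      congr 1
      exact Subtype.ext (by
        show f * ⁅x, y⁆ * f⁻¹ = ⁅f * x * f⁻¹, f * y * f⁻¹⁆
        simp only [commutatorElement_def]; group)
    have hcent : ∀ c ∈ ⁅R, R⁆, ∀ (hcR' : c ∈ R) (g : G) (hg : g ∈ R),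
        Commute (π ⟨g, hRT hg⟩) (π ⟨c, hRT hcR'⟩) := by
      intro c hc hcR' g hg
      refine Commute.symm (commutatorElement_eq_one_iff_mul_comm.mp ?_)
      rw [← map_commutatorElement]
      exact hπ _ (mem_sup_left (commutator_mem_commutator hc hg))
    have hfc : f * ⁅x, y⁆ * f⁻¹ ∈ ⁅R, R⁆ :=
      (mem_normalizer_iff.mp (le_normalizer_commutator'' h.AR h.AR hfA) _).mp hcR
    have hpair : ∀ (X Y : Subgroup.normalizer (T : Set G)) (hX : (X : G) ∈ R) (hY : (Y : G) ∈ R),
        ∀ i : ℕ, ⁅π X ^ i, π Y⁆ = ⁅π X, π Y⁆ ^ i ∧ ⁅π X, π Y ^ i⁆ = ⁅π X, π Y⁆ ^ i := by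
      intro X Y hX hY i
      have hcx : ∀ g : Subgroup.normalizer (T : Set G), (g : G) ∈ R →
          Commute (π g) ⁅π X, π Y⁆ := fun g hg => by
        rw [← map_commutatorElement]
        exact hcent _ (commutator_mem_commutator hX hY)
          (commutator_le_self R (commutator_mem_commutator hX hY)) g hg
      induction i with
      | zero => simp
      | succ i ih =>
        constructor
        · rw [show ⁅π X ^ (i + 1), π Y⁆ = π X ^ i * ⁅π X, π Y⁆ * (π X ^ i)⁻¹ * ⁅π X ^ i, π Y⁆ by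
            simp only [commutatorElement_def, pow_succ]; group,
            ((hcx X hX).pow_left i).eq, mul_inv_cancel_right, ih.1, ← pow_succ']
        · rw [show ⁅π X, π Y ^ (i + 1)⁆ = ⁅π X, π Y ^ i⁆ * (π Y ^ i * ⁅π X, π Y⁆ * (π Y ^ i)⁻¹) by
            simp only [commutatorElement_def, pow_succ]; group,
            ((hcx Y hY).pow_left i).eq, mul_inv_cancel_right, ih.2, ← pow_succ]
    have h4 : π ⟨⁅x, y⁆, hRT (commutator_le_self R hcR)⟩ = c1 ^ 4 := by
      have hx' : u1 ^ 2 = (π ⟨x, hRT hxR⟩)⁻¹ := eq_inv_of_mul_eq_one_right (hsq x hx hxR)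
      have hy' : v1 ^ 2 = (π ⟨y, hRT hyR⟩)⁻¹ := eq_inv_of_mul_eq_one_right (hsq y hy hyR)
      have hp1 := (hpair ⟨f * x * f⁻¹, hRT (hfR x hxR)⟩ (⟨f * y * f⁻¹, hRT (hfR y hyR)⟩ ^ 2)
        (hfR x hxR) (pow_mem (hfR y hyR) 2) 2).1
      have hp2 := (hpair ⟨f * x * f⁻¹, hRT (hfR x hxR)⟩ ⟨f * y * f⁻¹, hRT (hfR y hyR)⟩
        (hfR x hxR) (hfR y hyR) 2).2
      rw [map_pow] at hp1
      have e4 : c1 ^ 4 = ⁅u1 ^ 2, v1 ^ 2⁆ := by
        rw [hp1, hp2, hc1e, ← pow_mul]
      rw [e4, hx', hy']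
      set X := π ⟨x, hRT hxR⟩
      set Y := π ⟨y, hRT hyR⟩
      have hXY : π ⟨⁅x, y⁆, hRT (commutator_le_self R hcR)⟩ = ⁅X, Y⁆ := by
        rw [← map_commutatorElement]; rfl
      have hcXY : Commute (Y * X) ⁅X, Y⁆ := by
        rw [← hXY]
        exact (hcent _ hcR (commutator_le_self R hcR) y hyR).mul_left
          (hcent _ hcR (commutator_le_self R hcR) x hxR)
      rw [hXY]
      calc ⁅X, Y⁆ = (Y * X)⁻¹ * ((Y * X) * ⁅X, Y⁆) := by group
        _ = (Y * X)⁻¹ * (⁅X, Y⁆ * (Y * X)) := by rw [hcXY.eq]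
        _ = ⁅X⁻¹, Y⁻¹⁆ := by simp only [commutatorElement_def]; group
    have h5 := hsq ⁅x, y⁆ hca (commutator_le_self R hcR)
    rw [h4, ← hc1, ← pow_add] at h5
    have hc11 : c1 = 1 := by
      obtain ⟨i, hi⟩ := h.hR ⟨_, hfR _ (commutator_le_self R hcR)⟩
      have hi' : c1 ^ r ^ i = 1 := by
        rw [hc1, ← map_pow, show (⟨f * ⁅x, y⁆ * f⁻¹, hRT (hfR _ (commutator_le_self R hcR))⟩ :
          Subgroup.normalizer (T : Set G)) ^ r ^ i = 1 from
          Subtype.ext (congrArg Subtype.val hi :), map_one]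
      exact orderOf_eq_one_iff.mp (Nat.eq_one_of_dvd_coprimes (hr6.pow_left i)
        (orderOf_dvd_of_pow_eq_one hi') (orderOf_dvd_of_pow_eq_one h5))
    rw [hc11, one_pow] at h4
    exact mem_subgroupOf.mp ((QuotientGroup.eq_one_iff _).mp h4)
  -- `R' ≤ T`
  have hRd := H1.commutator_sup_centralizer_eq hza (h.coprime_zpowers ha)
    (Or.inl (isSolvable_zpowers' a))
  rw [centralizer_zpowers'] at hRd
  have hcomL : ⁅R, zpowers a⁆ ≤ L := by
    refine commutator_le.mpr fun g hg s hs => ?_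
    obtain ⟨i, rfl⟩ := (mem_powers_iff_mem_zpowers.mpr hs : s ∈ Submonoid.powers a)
    beta_reduce
    have ha2' : a ^ 2 = 1 := by rw [sq, hasq]
    rw [pow_eq_pow_mod i ha2']
    rcases Nat.mod_two_eq_zero_or_one i with e | e <;> rw [e]
    · simp
    · rw [pow_one, show ⁅g, a⁆ = g * (a * g⁻¹ * a⁻¹) by simp only [commutatorElement_def]; group]
      exact hRa g hg
  have hCT : C0 ≤ N := inf_le_left.trans hRT
  have hderT : ⁅R, R⁆ ≤ T := by
    have hsect : sect T R ≤ sect T C0 :=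
      sect_le_of_le_sup (hcomL.trans le_sup_right) hRd.ge hCT
    have hC : ⁅sect T C0, sect T C0⁆ = ⊥ := by
      rw [← sect_commutator hCT hCT, sect_eq_bot_iff ((commutator_le_self C0).trans hCT)]
      exact commutator_le.mpr hkey
    have h1 : sect T ⁅R, R⁆ = ⊥ := by
      rw [sect_commutator hRT hRT]
      exact le_bot_iff.mp ((commutator_mono hsect hsect).trans hC.le)
    exact (sect_eq_bot_iff ((commutator_le_self R).trans hRT)).mp h1
  -- hence `R' ≤ L`
  have hderL : ⁅R, R⁆ ≤ L := by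
    set RL := sect L R
    set D := ⁅RL, RL⁆
    have hDe : sect L ⁅R, R⁆ = D := sect_commutator hRL hRL
    rw [← sect_eq_bot_iff ((commutator_le_self R).trans hRL), hDe]
    by_contra hD
    have hp : IsPGroup r RL := isPGroup_sect h.hR
    have hlt := H1.commutator_lt_of_isPGroup hp (hp.to_le (commutator_le_self RL))
      (le_normalizer_commutator'' le_normalizer le_normalizer) hD
    refine hlt.ne (le_antisymm hlt.le ?_)
    show ⁅sect L R, sect L R⁆ ≤ ⁅⁅sect L R, sect L R⁆, sect L R⁆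
    rw [← sect_commutator hRL hRL, ← sect_commutator ((commutator_le_self R).trans hRL) hRL]
    refine sect_le_of_le_sup (Y := L) le_rfl (hderT.trans (sup_comm _ _).le) ?_
    exact ((commutator_mono (commutator_le_self R) le_rfl).trans (commutator_le_self R)).trans hRL
  exact hzL (hderL (hZR hz))

/-- In the order six case `R` is abelian. -/
theorem SixData.abelian [Finite G] {A V R : Subgroup G} {v r : ℕ} (h : SixData A V R v r) :
    IsMulCommutative R := by
  induction hm : Nat.card R using Nat.strong_induction_on generalizing R with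
  | _ m ih =>
  subst hm
  haveI := Fact.mk h.hr
  haveI := Fact.mk h.hv
  haveI := h.hV.1
  by_contra hab
  have hproper : ∀ S : Subgroup G, S < R → A ≤ normalizer (S : Set G) → IsMulCommutative S := by
    intro S hS hAS
    refine ih _ (lt_of_le_of_ne (card_le_of_le hS.le) fun e => hS.ne
      (eq_of_le_of_card_ge hS.le e.ge)) ?_ rfl
    exact
      { h with
        hR := h.hR.to_le hS.le
        AR := hAS
        RV := hS.le.trans h.RV
        copR := h.copR.coprime_dvd_right (card_dvd_of_le hS.le)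
        fixR := le_bot_iff.mp ((inf_le_inf_right _ hS.le).trans h.fixR.le)
        commVR := fun b hb hb1 hbn x hx y hy =>
          h.commVR b hb hb1 hbn x hx y (inf_le_inf_right _ hS.le hy)
        faith := le_bot_iff.mp ((inf_le_inf_right _ hS.le).trans h.faith.le) }
  obtain ⟨f, hfA, hf, hAf, hinv⟩ := exists_three_generator h.h6 h.hnc
  have hf1 : f ≠ 1 := fun e => by rw [e, orderOf_one] at hf; norm_num at hf
  have hR0 : R ≠ ⊥ := fun e => hab (e ▸ inferInstance)
  have hr6 := h.coprime_six hR0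
  have hder : ⁅R, R⁆ ≠ ⊥ := fun e => hab ⟨⟨fun x y => Subtype.ext
    (mem_centralizer_iff.mp (commutator_eq_bot_iff_le_centralizer.mp e y.2) x x.2)⟩⟩
  have hRder : R ≤ normalizer ((⁅R, R⁆ : Subgroup G) : Set G) :=
    le_normalizer_commutator'' le_normalizer le_normalizer
  -- the elements of order `r` of `R' ∩ Z(R)`
  let Z : Subgroup G :=
    { carrier := {x | x ∈ ⁅R, R⁆ ∧ x ∈ centralizer (R : Set G) ∧ x ^ r = 1}
      one_mem' := ⟨one_mem _, one_mem _, one_pow _⟩
      mul_mem' := fun {x y} hx hy => ⟨mul_mem hx.1 hy.1, mul_mem hx.2.1 hy.2.1, by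
        have : Commute x y := (mem_centralizer_iff.mp hy.2.1 x (commutator_le_self R hx.1))
        rw [this.mul_pow, hx.2.2, hy.2.2, one_mul]⟩
      inv_mem' := fun {x} hx => ⟨inv_mem hx.1, inv_mem hx.2.1, by rw [inv_pow, hx.2.2, inv_one]⟩ }
  have hZR' : Z ≤ ⁅R, R⁆ := fun x hx => hx.1
  have hZR : Z ≤ R := hZR'.trans (commutator_le_self R)
  have hZc : Z ≤ centralizer (R : Set G) := fun x hx => hx.2.1
  haveI hZcomm : IsMulCommutative Z := ⟨⟨fun x y => Subtype.ext
    (mem_centralizer_iff.mp (hZc y.2) x (hZR x.2))⟩⟩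
  have hAZ : A ≤ normalizer (Z : Set G) := fun s hs => normalizer_conj_mem fun x hx =>
    ⟨(mem_normalizer_iff.mp (le_normalizer_commutator'' h.AR h.AR hs) x).mp hx.1,
      (mem_normalizer_iff.mp (mem_normalizer_centralizer (h.AR hs)) x).mp hx.2.1,
      by rw [conj_pow, hx.2.2, mul_one, mul_inv_cancel]⟩
  have hRZ : R ≤ normalizer (Z : Set G) :=
    (le_centralizer_iff.mp hZc).trans (centralizer_le_normalizer _)
  obtain ⟨z, hz, hz1⟩ : ∃ z ∈ Z, z ≠ 1 := by
    have hne := inf_centralizer_ne_bot_of_normal h.hR (commutator_le_self R) hRder hder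
    obtain ⟨k, hk⟩ := ((h.hR.to_le (inf_le_left.trans (commutator_le_self R))) :
      IsPGroup r (⁅R, R⁆ ⊓ centralizer (R : Set G) : Subgroup G)).exists_card_eq
    rcases k with _ | k
    · exact absurd (card_eq_one.mp (by rw [hk, pow_zero])) hne
    · obtain ⟨x, hx⟩ := exists_prime_orderOf_dvd_card'
        (G := (⁅R, R⁆ ⊓ centralizer (R : Set G) : Subgroup G)) r
        (hk ▸ dvd_pow_self r k.succ_ne_zero)
      refine ⟨x, ⟨(mem_inf.mp x.2).1, (mem_inf.mp x.2).2, ?_⟩, fun e => ?_⟩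
      · rw [← SubmonoidClass.coe_pow, ← hx, pow_orderOf_eq_one]; rfl
      · rw [show x = 1 from Subtype.ext e, orderOf_one] at hx
        exact h.hr.one_lt.ne hx
  have hzf : zpowers f ≤ A := zpowers_le.mpr hfA
  have hzfR : zpowers f ≤ normalizer (R : Set G) := hzf.trans h.AR
  set C := R ⊓ centralizer ({f} : Set G) with hC
  -- `C` is abelian
  obtain ⟨t, htA, htf⟩ : ∃ t ∈ A, t ∉ zpowers f := by
    by_contra hall
    push Not at hall
    have := card_le_of_le (show A ≤ zpowers f from hall)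
    rw [h.h6, Nat.card_zpowers, hf] at this
    omega
  obtain ⟨ht2, -⟩ := hinv t htA htf
  have hpair : IsPair A := ⟨2, 3, Nat.prime_two, Nat.prime_three, h.h6, h.hnc⟩
  have hfixC : ∀ x ∈ C, t * x = x * t → x = 1 := by
    intro x hx hxt
    refine mem_bot.mp (h.fixR.le (mem_inf.mpr ⟨(mem_inf.mp hx).1, ?_⟩))
    rw [← hpair.eq_sup hzf (by simp [hf1]) htA htf, mem_centralizer_iff]
    intro s hs
    have hle : zpowers f ⊔ zpowers t ≤ centralizer ({x} : Set G) := by
      rw [sup_le_iff, zpowers_le, zpowers_le]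
      exact ⟨mem_centralizer_singleton'.mpr (mem_centralizer_singleton'.mp (mem_inf.mp hx).2).symm,
        mem_centralizer_singleton'.mpr hxt.symm⟩
    exact (mem_centralizer_singleton'.mp (hle hs)).symm
  have htC : t ∈ normalizer (C : Set G) := by
    refine inf_normalizer_le_normalizer_inf (mem_inf.mpr ⟨h.AR htA, ?_⟩)
    rw [← centralizer_zpowers']
    exact mem_normalizer_centralizer (hAf htA)
  have htt : t * t = 1 := by rw [← sq, ← ht2, pow_orderOf_eq_one]
  have hCab : ∀ x ∈ C, ∀ y ∈ C, x * y = y * x := by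
    let g : C → C := fun x =>
      x⁻¹ * ⟨t * x * t⁻¹, (mem_normalizer_iff.mp htC x).mp x.2⟩
    have hg : Function.Injective g := by
      intro x y hxy
      have h1 := congrArg Subtype.val hxy
      simp only [g, Subgroup.coe_mul, Subgroup.coe_inv] at h1
      have h2 : t * ((x : G) * (y : G)⁻¹) * t⁻¹ = (x : G) * (y : G)⁻¹ := by
        calc t * ((x : G) * (y : G)⁻¹) * t⁻¹
            = (x : G) * ((x : G)⁻¹ * (t * x * t⁻¹)) * (t * y * t⁻¹)⁻¹ := by group
          _ = (x : G) * ((y : G)⁻¹ * (t * y * t⁻¹)) * (t * y * t⁻¹)⁻¹ := by rw [h1]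
          _ = (x : G) * (y : G)⁻¹ := by group
      exact Subtype.ext (mul_inv_eq_one.mp
        (hfixC _ (mul_mem x.2 (inv_mem y.2)) (mul_inv_eq_iff_eq_mul.mp h2)))
    have hinvC : ∀ x ∈ C, t * x * t⁻¹ = x⁻¹ := by
      intro x hx
      obtain ⟨y, hy⟩ := Finite.injective_iff_surjective.mp hg ⟨x, hx⟩
      have h1 : (y : G)⁻¹ * (t * y * t⁻¹) = x := congrArg Subtype.val hy
      rw [← h1]
      calc t * ((y : G)⁻¹ * (t * y * t⁻¹)) * t⁻¹
          = t * (y : G)⁻¹ * t⁻¹ * ((t * t) * y * (t * t)⁻¹) := by group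
        _ = ((y : G)⁻¹ * (t * y * t⁻¹))⁻¹ := by rw [htt]; group
    intro x hx y hy
    have h1 := hinvC (x * y) (mul_mem hx hy)
    rw [show t * (x * y) * t⁻¹ = (t * x * t⁻¹) * (t * y * t⁻¹) by group, hinvC x hx, hinvC y hy,
      mul_inv_rev] at h1
    have h2 := congrArg (fun u => u⁻¹) h1
    simpa using h2.symm
  have hVp : IsPGroup v V := fun x => ⟨1, Subtype.ext (by simpa using h.hV.2 x x.2)⟩
  have hcopRV : (Nat.card R).Coprime (Nat.card V) := coprime_of_isPGroup h.hrv h.hR hVp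
  have hzfZ : zpowers f ≤ normalizer (Z : Set G) := hzf.trans hAZ
  have hcopf : (Nat.card (zpowers f)).Coprime (Nat.card R) := h.coprime_zpowers hfA
  -- a non-trivial element of a subgroup of `R` does not centralise the commutator module
  have hmod : ∀ X : Subgroup G, X ≤ R → ∀ x ∈ X, x ≠ 1 →
      x ∉ centralizer ((⁅V, X⁆ : Subgroup G) : Set G) := by
    intro X hX x hx hx1 hxc
    refine hx1 (mem_bot.mp (h.faith.le (mem_inf.mpr ⟨hX hx, ?_⟩)))
    have hle : V ≤ centralizer ({x} : Set G) := by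
      rw [← H1.commutator_sup_centralizer_eq (hX.trans h.RV)
        (hcopRV.coprime_dvd_left (card_dvd_of_le hX))
        (Or.inr (Group.isSolvable_of_comm fun u w => h.hV.1.is_comm.comm u w))]
      exact sup_le
        (fun w hw => mem_centralizer_singleton'.mpr (mem_centralizer_iff.mp hxc w hw).symm)
        (fun w hw => mem_centralizer_singleton'.mpr (mem_centralizer_iff.mp (mem_inf.mp hw).2 x hx))
    exact mem_centralizer_iff.mpr fun w hw => (mem_centralizer_singleton'.mp (hle hw)).symm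
  have hfpow : f ^ 3 = 1 := hf ▸ pow_orderOf_eq_one f
  by_cases hZ1 : ⁅Z, zpowers f⁆ = ⊥
  · -- `f` centralises `Z`
    have hZf : Z ≤ centralizer ({f} : Set G) := by
      rw [← centralizer_zpowers']
      exact commutator_eq_bot_iff_le_centralizer.mp hZ1
    set D := ⁅R, zpowers f⁆ with hD
    have hDR : D ≤ R := H1.commutator_le_left_of_le_normalizer hzfR
    have hRd := H1.commutator_sup_centralizer_eq hzfR hcopf (Or.inl (isSolvable_zpowers' f))
    rw [centralizer_zpowers'] at hRd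
    have hDe : D = R := by
      refine (lt_or_eq_of_le hDR).resolve_left fun hlt => hz1 ?_
      have hDab := hproper D hlt (le_normalizer_commutator'' h.AR hAf)
      have hRD : R ≤ normalizer (D : Set G) := H1.left_le_normalizer_commutator
      have hCD : C ≤ normalizer (D : Set G) := inf_le_left.trans hRD
      have hsect : sect D R ≤ sect D C := sect_le_of_le_sup le_rfl hRd.ge hCD
      have hle : ⁅R, R⁆ ≤ D := by
        rw [← sect_eq_bot_iff ((commutator_le_self R).trans hRD), sect_commutator hRD hRD]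
        refine le_bot_iff.mp ((commutator_mono hsect hsect).trans ?_)
        rw [← sect_commutator hCD hCD, le_bot_iff,
          sect_eq_bot_iff ((commutator_le_self C).trans hCD)]
        exact commutator_le.mpr fun x hx y hy => by
          rw [commutatorElement_eq_one_iff_mul_comm.mpr (hCab x hx y hy)]
          exact one_mem _
      have := H1.commutator_inf_centralizer_eq_bot hDab
        (hzf.trans (le_normalizer_commutator'' h.AR hAf))
        (hcopf.coprime_dvd_right (card_dvd_of_le hDR))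
      rw [H1.commutator_commutator_eq hzfR hcopf (Or.inl (isSolvable_zpowers' f)),
        centralizer_zpowers'] at this
      exact mem_bot.mp (this.le (mem_inf.mpr ⟨hle (hZR' hz), hZf hz⟩))
    set V1 := ⁅V, Z⁆ with hV1def
    have hV1 : V1 ≤ V := H1.commutator_le_left_of_le_normalizer (hZR.trans h.RV)
    haveI : IsMulCommutative V1 := isMulCommutative_of_le h.hV.1 hV1
    have hA1 : A ≤ normalizer (V1 : Set G) := le_normalizer_commutator'' h.AV hAZ
    have hR1 : R ≤ normalizer (V1 : Set G) := le_normalizer_commutator'' h.RV hRZ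
    obtain ⟨j, hj⟩ := (hVp.to_le hV1).exists_card_eq
    obtain ⟨K, hKZ, hzK, hKi, hne, hzW⟩ := exists_kernel (q := r) V1 Z (fun x hx => hx.2.2)
      (hZR.trans hR1) (hj ▸ ((Nat.coprime_primes Fact.out Fact.out).mpr h.hrv.symm).pow_left j) hz
      (hmod Z hZR z hz hz1)
    have hVZ : V1 ⊓ centralizer (Z : Set G) = ⊥ :=
      H1.commutator_inf_centralizer_eq_bot h.hV.1 (hZR.trans h.RV)
        (hcopRV.coprime_dvd_left (card_dvd_of_le hZR))
    obtain ⟨a, ha, ha1, haK, hZa, hfix⟩ := exists_stab (q := r) hpair hA1 hAZ (hZR.trans hR1)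
      (h.copV.coprime_dvd_right (card_dvd_of_le hV1))
      (h.copR.coprime_dvd_right (card_dvd_of_le hZR))
      (coprime_of_isPGroup h.hrv (h.hR.to_le hZR) (hVp.to_le hV1)) hKZ hKi hne hVZ
      (le_bot_iff.mp ((inf_le_inf_right _ hZR).trans h.fixR.le))
      (le_bot_iff.mp ((inf_le_inf_right _ hV1).trans h.fixV.le))
    have haf : a ∈ zpowers f := by
      by_contra haf
      have hfixZ : Z ⊓ centralizer ({a} : Set G) = ⊥ := by
        refine le_bot_iff.mp ((le_inf (inf_le_left.trans hZR) ?_).trans h.fixR.le)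
        rw [← hpair.eq_sup hzf (by simp [hf1]) ha haf, le_centralizer_iff, sup_le_iff, zpowers_le,
          zpowers_le, mem_centralizer_iff, mem_centralizer_iff]
        exact ⟨fun x hx => (mem_centralizer_singleton'.mp (hZf (mem_inf.mp hx).1)).symm,
          fun x hx => (mem_centralizer_singleton'.mp (mem_inf.mp hx).2).symm⟩
      have hza : zpowers a ≤ normalizer (Z : Set G) := zpowers_le.mpr (hAZ ha)
      have hZa' := H1.commutator_sup_centralizer_eq hza
        ((h.coprime_zpowers ha).coprime_dvd_right (card_dvd_of_le hZR))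
        (Or.inl (isSolvable_zpowers' a))
      rw [centralizer_zpowers', hfixZ, sup_bot_eq] at hZa'
      obtain ⟨ha2, -⟩ := hinv a ha haf
      have ha2' : a ^ 2 = 1 := ha2 ▸ pow_orderOf_eq_one a
      refine hzK ((hZa' ▸ commutator_le.mpr fun x hx s hs => ?_ : Z ≤ K) hz)
      obtain ⟨i, rfl⟩ := (mem_powers_iff_mem_zpowers.mpr hs : s ∈ Submonoid.powers a)
      beta_reduce
      rw [pow_eq_pow_mod i ha2']
      rcases Nat.mod_two_eq_zero_or_one i with e | e <;> rw [e]
      · simp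
      · rw [pow_one]; exact hZa x hx
    have hfa : f ∈ zpowers a := mem_zpowers_of_prime Nat.prime_three hfpow haf ha1
    have hfK : f ∈ normalizer (K : Set G) := zpowers_le.mpr haK hfa
    set W := V1 ⊓ centralizer (K : Set G) with hW
    have hfixW : W ⊓ centralizer ({f} : Set G) = ⊥ := by
      rw [show centralizer ({f} : Set G) = centralizer ({a} : Set G) by
        rw [← centralizer_zpowers', ← centralizer_zpowers' a,
          le_antisymm (zpowers_le.mpr hfa) (zpowers_le.mpr haf)]]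
      exact hfix
    set L := R ⊓ centralizer (W : Set G) with hL
    have hRK : R ≤ centralizer (K : Set G) := le_centralizer_iff.mp (hKZ.trans hZc)
    have hRW : R ≤ normalizer (W : Set G) :=
      le_normalizer_inf' hR1 (le_normalizer_centralizer' (hRK.trans (centralizer_le_normalizer _)))
    have hfW : f ∈ normalizer (W : Set G) :=
      inf_normalizer_le_normalizer_inf (mem_inf.mpr ⟨hA1 hfA, mem_normalizer_centralizer hfK⟩)
    set N := normalizer (L : Set G) with hN
    have hRN : R ≤ N := le_normalizer_inf' le_normalizer (le_normalizer_centralizer' hRW)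
    have hfN : f ∈ N :=
      inf_normalizer_le_normalizer_inf (mem_inf.mpr ⟨h.AR hfA, mem_normalizer_centralizer hfW⟩)
    have hzN : zpowers f ≤ N := zpowers_le.mpr hfN
    have hWN : W ≤ N :=
      (le_centralizer_iff.mp inf_le_right).trans (centralizer_le_normalizer _)
    have hWV : W ≤ V := inf_le_left.trans hV1
    have hcopW : (Nat.card R).Coprime (Nat.card W) :=
      hcopRV.coprime_dvd_right (card_dvd_of_le hWV)
    set f' := QuotientGroup.mk' (L.subgroupOf N) ⟨f, hfN⟩ with hf'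
    have hsf : sect L (zpowers f) = zpowers f' := sect_zpowers hfN
    have hR' : ⁅sect L R, zpowers f'⁆ = sect L R := by
      rw [← hsf, ← sect_commutator hRN hzN, ← hD, hDe]
    have hR'ne : ¬ ⁅R, R⁆ ≤ L := fun hle => hzW (mem_inf.mp (hle (hZR' hz))).2
    have hord : orderOf f' = 3 := by
      haveI : Fact (Nat.Prime 3) := ⟨Nat.prime_three⟩
      refine orderOf_eq_prime ?_ ?_
      · rw [hf', ← map_pow, show (⟨f, hfN⟩ : N) ^ 3 = 1 from Subtype.ext hfpow, map_one]
      · intro e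
        refine hR'ne ((commutator_le_self R).trans ?_)
        rw [← sect_eq_bot_iff hRN, ← hR', e, zpowers_one_eq_bot, commutator_bot_right]
    have hVe' : Cfsg.IsElementaryAbelian v (sect L W) := by
      refine ⟨isMulCommutative_sect hWN ?_, ?_⟩
      · refine le_trans ?_ bot_le
        rw [le_bot_iff, commutator_eq_bot_iff_le_centralizer]
        exact fun x hx => mem_centralizer_iff.mpr fun y hy => congrArg Subtype.val
          ((isMulCommutative_of_le h.hV.1 hWV).is_comm.comm (⟨y, hy⟩ : W) ⟨x, hx⟩)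
      · rintro _ ⟨x, hx, rfl⟩
        rw [← map_pow, show x ^ v = 1 from Subtype.ext (h.hV.2 _ (hWV hx)), map_one]
    haveI := hVe'.1
    have hfaith' : sect L R ⊓ centralizer (sect L W : Set _) = ⊥ := by
      refine eq_bot_iff.mpr fun y hy => ?_
      obtain ⟨⟨x, hx, rfl⟩, hc⟩ := mem_inf.mp hy
      refine mem_bot.mpr ((QuotientGroup.eq_one_iff _).mpr ?_)
      show (x : G) ∈ L
      refine mem_inf.mpr ⟨hx, mem_centralizer_iff.mpr fun w hw => ?_⟩
      have h1 : QuotientGroup.mk' (L.subgroupOf N) ⁅x, ⟨w, hWN hw⟩⁆ = 1 := by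
        rw [map_commutatorElement, commutatorElement_eq_one_iff_mul_comm]
        exact (mem_centralizer_iff.mp hc _ ⟨⟨w, hWN hw⟩, hw, rfl⟩).symm
      have h2 : ⁅(x : G), w⁆ ∈ L := mem_subgroupOf.mp ((QuotientGroup.eq_one_iff _).mp h1)
      have h3 : ⁅(x : G), w⁆ ∈ W := by
        rw [commutatorElement_def]
        exact mul_mem ((mem_normalizer_iff.mp (hRW hx) w).mp hw) (inv_mem hw)
      have h4 := Subgroup.disjoint_def.mp (Subgroup.disjoint_of_coprime_natCard
        (hcopW.symm.coprime_dvd_right (card_dvd_of_le (inf_le_left : L ≤ R)))) h3 h2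
      exact (commutatorElement_eq_one_iff_mul_comm.mp h4).symm
    have hfixW' : sect L W ⊓ centralizer ({f'} : Set _) = ⊥ := by
      rw [← centralizer_zpowers', ← hsf, ← sect_inf_centralizer hWN hzN (zpowers_le.mpr hfW)
        ((h.copV.coprime_dvd_left (card_dvd_of_le hzf)).coprime_dvd_right (card_dvd_of_le hWV))
        (isSolvable_zpowers' f), centralizer_zpowers', hfixW, sect_eq_bot_iff bot_le]
      exact bot_le
    -- the Frattini subgroup becomes central and fixed
    set Φ := (frattini R).map R.subtype with hΦ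
    have hΦlt : Φ < R := by
      refine lt_of_le_of_ne (map_subtype_le _) fun e => hR0 ?_
      have h1 : frattini R = ⊤ := map_injective R.subtype_injective (by
        rw [← hΦ, e, ← MonoidHom.range_eq_map, Subgroup.range_subtype])
      have h2 : (⊥ : Subgroup R) = ⊤ := frattini_nongenerating (by rw [bot_sup_eq, h1])
      have h3 := congrArg (Subgroup.map R.subtype) h2
      rw [Subgroup.map_bot, ← MonoidHom.range_eq_map, Subgroup.range_subtype] at h3
      exact h3.symm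
    have hAΦ : A ≤ normalizer (Φ : Set G) := H1.le_normalizer_map_subtype_of_characteristic h.AR _
    have hRΦ : R ≤ normalizer (Φ : Set G) :=
      H1.le_normalizer_map_subtype_of_characteristic le_normalizer _
    haveI hΦab := hproper Φ hΦlt hAΦ
    have hΦN : Φ ≤ N := hΦlt.le.trans hRN
    have hΦc : IsMulCommutative (sect L Φ) := isMulCommutative_sect hΦN (by
      refine le_trans ?_ bot_le
      rw [le_bot_iff, commutator_eq_bot_iff_le_centralizer]
      exact fun x hx => mem_centralizer_iff.mpr fun y hy => congrArg Subtype.val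
        (hΦab.is_comm.comm (⟨y, hy⟩ : Φ) ⟨x, hx⟩))
    have hn' : (Nat.card (sect L R)).Coprime 3 :=
      ((h.copR.coprime_dvd_left (by rw [h.h6]; norm_num : 3 ∣ Nat.card A)).symm).coprime_dvd_left
        (card_sect_dvd hRN)
    have hΦf : sect L Φ ≤ centralizer ({f'} : Set _) := by
      refine abelian_le_centralizer (V := sect L W) (Q := sect L R) Nat.prime_three hord ?_
        (sect_le_normalizer hRW)
        ((hcopW.coprime_dvd_left (card_sect_dvd hRN)).coprime_dvd_right (card_sect_dvd hWN))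
        hn' hfaith' hfixW' (sect_mono hΦlt.le) hΦc ?_
      · rw [← zpowers_le, ← hsf]; exact sect_le_normalizer (zpowers_le.mpr hfW)
      · rw [← zpowers_le, ← hsf]; exact sect_le_normalizer (hzf.trans hAΦ)
    have hΦcent : sect L Φ ≤ centralizer (sect L R : Set _) := by
      have h0 : ⁅sect L Φ, zpowers f'⁆ = ⊥ := by
        rw [commutator_eq_bot_iff_le_centralizer, centralizer_zpowers']
        exact hΦf
      have h1 : ⁅⁅zpowers f', sect L R⁆, sect L Φ⁆ = ⊥ := by
        refine commutator_commutator_eq_bot_of_rotate ?_ ?_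
        · refine le_bot_iff.mp ((commutator_mono ?_ le_rfl).trans h0.le)
          rw [commutator_comm]
          exact H1.commutator_le_left_of_le_normalizer (sect_le_normalizer hRΦ)
        · rw [h0, commutator_bot_left]
      rw [commutator_comm (zpowers f'), hR', commutator_comm] at h1
      exact commutator_eq_bot_iff_le_centralizer.mp h1
    have hderΦ : ⁅R, R⁆ ≤ Φ := by
      have := map_mono (f := R.subtype) (H6.commutator_le_frattini h.hR)
      rwa [Subgroup.map_subtype_commutator] at this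
    refine classTwo_false (V := sect L W) (Q := sect L R) (a := f') Nat.prime_three hord h.hrv
      ?_ ?_ ?_ hVe' (isPGroup_sect h.hR) ?_ ?_ (sect_le_normalizer hRW) hfaith' hfixW' ?_ ?_ ?_ hR'
      ?_
    · rintro rfl
      obtain ⟨k, hk⟩ := (hVp.to_le hWV).exists_card_eq
      rcases k with _ | k
      · exact hne (card_eq_one.mp (by rw [hk, pow_zero]))
      · exact Nat.prime_three.not_dvd_one ((h.copV.coprime_dvd_right (card_dvd_of_le hWV)) ▸
          Nat.dvd_gcd (by rw [h.h6]; norm_num) (hk ▸ dvd_pow_self 3 k.succ_ne_zero) : _)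
    · rintro rfl; norm_num at hr6
    · rintro rfl; norm_num at hr6
    · rw [← zpowers_le, ← hsf]; exact sect_le_normalizer (zpowers_le.mpr hfW)
    · rw [← zpowers_le, ← hsf]; exact sect_le_normalizer hzfR
    · rw [← sect_commutator hRN hRN]
      exact (sect_mono hderΦ).trans hΦcent
    · rw [← sect_commutator hRN hRN]
      exact (sect_mono hderΦ).trans hΦf
    · rintro _ ⟨x, hx, rfl⟩
      rw [← map_pow]
      refine hΦcent ⟨x ^ r, ?_, rfl⟩
      exact ⟨⟨(x : G), hx⟩ ^ r, H6.pow_prime_mem_frattini h.hR _, rfl⟩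
    · intro hc
      refine hR'ne ?_
      rw [← sect_eq_bot_iff ((commutator_le_self R).trans hRN), sect_commutator hRN hRN,
        commutator_eq_bot_iff_le_centralizer]
      exact fun x hx => mem_centralizer_iff.mpr fun y hy =>
        congrArg Subtype.val (hc.is_comm.comm (⟨y, hy⟩ : sect L R) ⟨x, hx⟩)
  · -- `f` moves `Z`
    set Z1 := ⁅Z, zpowers f⁆ with hZ1def
    have hZ1Z : Z1 ≤ Z := H1.commutator_le_left_of_le_normalizer hzfZ
    have hcopfZ := hcopf.coprime_dvd_right (card_dvd_of_le hZR)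
    have hAZ1 : A ≤ normalizer (Z1 : Set G) := le_normalizer_commutator'' hAZ hAf
    have hRZ1 : R ≤ normalizer (Z1 : Set G) :=
      (le_centralizer_iff.mp (hZ1Z.trans hZc)).trans (centralizer_le_normalizer _)
    obtain ⟨y, hy, hy1⟩ : ∃ y ∈ Z1, y ≠ 1 := by
      by_contra hall
      push Not at hall
      exact hZ1 (eq_bot_iff.mpr fun x hx => mem_bot.mpr (hall x hx))
    have hZ1R : Z1 ≤ R := hZ1Z.trans hZR
    haveI : IsMulCommutative Z1 := isMulCommutative_of_le hZcomm hZ1Z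
    have hfixZ1 : Z1 ⊓ centralizer ({f} : Set G) = ⊥ := by
      rw [← centralizer_zpowers']
      exact H1.commutator_inf_centralizer_eq_bot hZcomm hzfZ hcopfZ
    set V1 := ⁅V, Z1⁆ with hV1def
    have hV1 : V1 ≤ V := H1.commutator_le_left_of_le_normalizer (hZ1R.trans h.RV)
    refine h.fpf_false hfA hf hinv hV1 (le_normalizer_commutator'' h.AV hAZ1)
      (le_normalizer_commutator'' h.RV hRZ1) (hZ1Z.trans hZR') (hZ1Z.trans hZc) hAZ1
      (fun x hx => (hZ1Z hx).2.2)
      (H1.commutator_commutator_eq hzfZ hcopfZ (Or.inl (isSolvable_zpowers' f)))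
      (H1.commutator_inf_centralizer_eq_bot h.hV.1 (hZ1R.trans h.RV)
        (hcopRV.coprime_dvd_left (card_dvd_of_le hZ1R))) hy (hmod Z1 hZ1R y hy hy1) fun x hx => ?_
    refine mem_centralizer_iff.mpr fun w hw => ?_
    refine (mem_centralizer_singleton'.mp (commutator_le_centralizer V Z1 Nat.prime_three hfpow
      (h.AV hfA) (hAZ1 hfA) (hZ1R.trans h.RV) (hcopRV.coprime_dvd_left (card_dvd_of_le hZ1R)) ?_
      (hfixZ1.le.trans bot_le) ?_ ?_ hw)).symm
    · exact ((h.copR.coprime_dvd_left (by rw [h.h6]; norm_num : 3 ∣ Nat.card A)).symm).coprime_dvd_left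
        (card_dvd_of_le hZ1R)
    · exact mem_centralizer_iff.mpr fun s hs =>
        (mem_centralizer_iff.mp (hZc (hZ1Z hs)) x (mem_inf.mp hx).1).symm
    · exact fun u hu => mem_centralizer_singleton'.mpr
        (h.commVR f hfA hf1 hAf u hu x hx).symm

end H1.PairFPF
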