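import Cfsg.Agent.H1.PairFPF.Height
import Cfsg.Agent.H1.PairFPF.SymThree

/-! A fixed-point-free group of order six on a solvable group of coprime order forces a nilpotent
derived group. -/

set_option autoImplicit false
set_option linter.style.haveILetI false

namespace H1.PairFPF

open Subgroup
open scoped commutatorElement Pointwise

variable {G : Type*} [Group G]

/-- A nilpotent group with abelian Sylow subgroups is abelian. -/
theorem isMulCommutative_of_sylow [Finite G] [Group.IsNilpotent G]
    (h : ∀ p : ℕ, p.Prime → ∀ P : Sylow p G, IsMulCommutative (P : Subgroup G)) :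
    IsMulCommutative G := by
  have hle : ∀ p : ℕ, p.Prime → ∀ P : Sylow p G, (P : Subgroup G) ≤ center G := by
    intro p hp P x hx
    haveI := Fact.mk hp
    have htop : centralizer ({x} : Set G) = ⊤ := by
      refine eq_top_of_sylow_le fun q hq => ?_
      haveI := Fact.mk hq
      by_cases hqp : q = p
      · subst hqp
        exact ⟨P, fun y hy => mem_centralizer_singleton'.mpr
          (congrArg Subtype.val ((h q hp P).is_comm.comm ⟨x, hx⟩ ⟨y, hy⟩))⟩
      · obtain ⟨T⟩ := (inferInstance : Nonempty (Sylow q G))
        refine ⟨T, fun y hy => mem_centralizer_singleton'.mpr ?_⟩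
        exact (H81.commute_of_coprime_orderOf inferInstance
          (coprime_orderOf_of_isPGroup (Ne.symm hqp) P.isPGroup' T.isPGroup' hx hy)).eq
    rw [Subgroup.mem_center_iff]
    intro y
    exact (mem_centralizer_singleton'.mp (htop.ge (mem_top y))).symm
  have htop : center G = ⊤ := eq_top_of_sylow_le fun p hp => by
    haveI := Fact.mk hp
    obtain ⟨P⟩ := (inferInstance : Nonempty (Sylow p G))
    exact ⟨P, hle p hp P⟩
  exact ⟨⟨fun x y => (Subgroup.mem_center_iff.mp (htop.ge (mem_top x)) y).symm⟩⟩

/-- The derived subgroup is nilpotent. -/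
theorem derived_nilpotent [Finite G] {A H : Subgroup G} (h : Operated A H)
    (h6 : Nat.card A = 6) : Group.IsNilpotent (⁅H, H⁆ : Subgroup G) := by
  suffices key : ∀ (m : ℕ) (G : Type _) [Group G] [Finite G] (A H : Subgroup G),
      Nat.card H = m → Operated A H → Nat.card A = 6 →
        Group.IsNilpotent (⁅H, H⁆ : Subgroup G) from key _ G A H rfl h h6
  intro m
  induction m using Nat.strong_induction_on with
  | _ m ih =>
  intro G _ _ A H hm h h6
  subst hm
  set P := ⁅H, H⁆ with hP
  have hPH : P ≤ H := commutator_le_self H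
  have hPinv : IsInv H A P := ⟨hPH, le_normalizer_commutator'' le_normalizer le_normalizer,
    le_normalizer_commutator'' h.AH h.AH⟩
  by_contra hnone
  obtain ⟨V, N, v, hv, hVe, hV, hVP, hV1, hNH, hAN, hVN, hVN0, hfaith, hPN, hvfree⟩ :=
    exists_reduced h.AH h.cop h.solv hPinv hnone fun V hV hV1 => by
      have hlt : Nat.card (sect V H) < Nat.card H := by
        refine lt_of_le_of_ne (Nat.le_of_dvd Nat.card_pos (card_sect_dvd hV.2.1)) fun e => hV1 ?_
        have hbij : Function.Bijective (sectHom hV.2.1) :=
          (Nat.bijective_iff_surjective_and_card _).mpr ⟨sectHom_surjective hV.2.1, e.symm⟩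
        refine eq_bot_iff.mpr fun x hx => mem_bot.mpr ?_
        have h0 : (⟨x, hV.1 hx⟩ : H) = 1 := hbij.1 (by
          rw [map_one, sectHom_eq_one]; exact hx)
        exact congrArg Subtype.val h0
      have hcard : Nat.card (sect V A) = 6 := by
        have hinj : Function.Injective (sectHom hV.2.2) := by
          rw [injective_iff_map_eq_one]
          intro x hx
          rw [sectHom_eq_one] at hx
          exact Subtype.ext (Subgroup.disjoint_def.mp
            (Subgroup.disjoint_of_coprime_natCard h.cop) x.2 (hV.1 hx))
        rw [← Nat.card_congr (Equiv.ofBijective _ ⟨hinj, sectHom_surjective hV.2.2⟩), h6]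
      have := ih _ hlt _ (sect V A) (sect V H) rfl (h.sect_operated hV) hcard
      rwa [hP, sect_commutator hV.2.1 hV.2.1]
  haveI := Fact.mk hv
  haveI := hVe.1
  have hVp : IsPGroup v V := fun x => ⟨1, Subtype.ext (by simpa using hVe.2 x x.2)⟩
  have hopN := h.anti hNH hAN
  -- the complement is nilpotent
  have hNnil : Group.IsNilpotent N := by
    by_contra hN
    obtain ⟨k₁, hk₁⟩ := exists_stable N
    obtain ⟨j, hj⟩ := exists_lcs_nilpotent hopN
    set M := N.lowerCentralSeries k₁
    have hMnil : Group.IsNilpotent M := by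
      rw [← hk₁ (max k₁ j) (le_max_left _ _)]
      exact H1.isNilpotent_mono hj (lcs_antitone N (le_max_right _ _)).1
    have hMN : M ≤ N := by simpa using (lcs_antitone N (Nat.zero_le k₁)).1
    have hM1 : M ≠ ⊥ := fun e => hN (Subgroup.isNilpotent_of_lowerCentralSeries_eq_bot e)
    have hstab : ⁅M, N⁆ = M := by
      have := hk₁ (k₁ + 1) (Nat.le_succ _)
      rwa [Subgroup.lowerCentralSeries_succ] at this
    obtain ⟨q, r, Q, R, hq, hr, hrq, hQp, hRp, hQN, hRN, hNQ, hAQ, hAR, hne⟩ :=
      exists_action hopN hMN hM1 hMnil (lcs_antitone N (le_refl k₁)).2 (lcs_normalizer hAN k₁) hstab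
    exact action_false h hv hVe hV hNH hfaith hvfree hq hr hrq hQp hRp hQN hRN hNQ hAQ hAR hne
  obtain ⟨p₁, p₂, h₁, h₂, hc, hnc⟩ := h.pair
  haveI := hNnil
  have hNab : IsMulCommutative N := isMulCommutative_of_sylow fun p hp T => by
    haveI := Fact.mk hp
    haveI : (T : Subgroup N).Characteristic := T.characteristic_of_normal inferInstance
    set S := (T : Subgroup N).map N.subtype with hS
    have hSN : S ≤ N := map_subtype_le _
    have hNS : N ≤ normalizer (S : Set G) :=
      H1.le_normalizer_map_subtype_of_characteristic le_normalizer _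
    have hAS : A ≤ normalizer (S : Set G) := H1.le_normalizer_map_subtype_of_characteristic hAN _
    have hSp : IsPGroup p S := T.isPGroup'.map _
    have hSab : IsMulCommutative S := by
      by_cases hpv : p = v
      · subst hpv
        rw [hvfree S hSN hNS hAS hSp]
        infer_instance
      · have hopS := h.anti (hSN.trans hNH) hAS
        have hopV := h.anti hV.1 hV.2.2
        exact SixData.abelian (A := A) (V := V) (v := v) (r := p)
          { hv := hv, hr := hp, hrv := hpv, h6 := h6, hnc := hnc, hV := hVe, hR := hSp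
            AV := hV.2.2, AR := hAS, RV := (hSN.trans hNH).trans hV.2.1
            copV := hopV.cop, copR := hopS.cop, fixV := hopV.fix, fixR := hopS.fix
            commVR := fun b hb hb1 hbn x hx y hy => h.commute hb hb1 hbn
              (inf_le_inf_right _ hV.1 hx) (inf_le_inf_right _ (hSN.trans hNH) hy)
              (coprime_orderOf_of_isPGroup (Ne.symm hpv) hVp hSp (mem_inf.mp hx).1
                (mem_inf.mp hy).1)
            faith := le_bot_iff.mp ((inf_le_inf_right _ hSN).trans hfaith.le) }
    refine ⟨⟨fun x y => ?_⟩⟩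
    have := congrArg Subtype.val (hSab.is_comm.comm
      (⟨_, mem_map_of_mem N.subtype x.2⟩ : S) ⟨_, mem_map_of_mem N.subtype y.2⟩)
    exact Subtype.ext (Subtype.ext this)
  have hsect : sect V H ≤ sect V N := sect_le_of_le_sup le_rfl hVN.ge (hNH.trans hV.2.1)
  have hPV : P ≤ V := by
    rw [← sect_eq_bot_iff (hPH.trans hV.2.1), hP, sect_commutator hV.2.1 hV.2.1]
    refine le_bot_iff.mp ((commutator_mono hsect hsect).trans ?_)
    rw [← sect_commutator (hNH.trans hV.2.1) (hNH.trans hV.2.1), le_bot_iff,
      sect_eq_bot_iff ((commutator_le_self N).trans (hNH.trans hV.2.1))]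
    exact commutator_le.mpr fun x hx y hy => by
      rw [commutatorElement_eq_one_iff_mul_comm.mpr
        (congrArg Subtype.val (hNab.is_comm.comm (⟨x, hx⟩ : N) ⟨y, hy⟩))]
      exact one_mem _
  exact hnone (H1.isNilpotent_mono hVp.isNilpotent hPV)

/-- The derived group of a solvable group with a coprime fixed-point-free group of order six is
nilpotent. -/
theorem commutator_nilpotent_of_six {G A : Type*} [Group G] [Finite G] [Group A] [Finite A]
    (hG : Group.IsSolvable G) (φ : A →* MulAut G) (hc : Nat.card A = 6) (hnc : ¬ IsCyclic A)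
    (hcop : (Nat.card G).Coprime (Nat.card A))
    (hfpf : ∀ g : G, (∀ a : A, φ a g = g) → g = 1) :
    Group.IsNilpotent (_root_.commutator G) := by
  haveI : Finite (G ⋊[φ] A) := Finite.of_equiv _ SemidirectProduct.equivProd.symm
  let i : G →* G ⋊[φ] A := SemidirectProduct.inl
  let j : A →* G ⋊[φ] A := SemidirectProduct.inr
  have hi : Function.Injective i := SemidirectProduct.inl_injective
  have hj : Function.Injective j := SemidirectProduct.inr_injective
  have hA : Nat.card j.range = Nat.card A := (Nat.card_congr (MonoidHom.ofInjective hj).toEquiv).symm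
  have hH : Nat.card i.range = Nat.card G := (Nat.card_congr (MonoidHom.ofInjective hi).toEquiv).symm
  have hop : Operated j.range i.range := by
    refine ⟨⟨2, 3, Nat.prime_two, Nat.prime_three, hA.trans hc, fun hcyc => hnc ?_⟩, ?_,
      by rw [hA, hH]; exact hcop.symm, ?_, ?_⟩
    · haveI := hcyc
      exact isCyclic_of_injective (MonoidHom.ofInjective hj).toMonoidHom
        (MonoidHom.ofInjective hj).injective
    · rintro _ ⟨a, rfl⟩
      refine normalizer_conj_mem ?_
      rintro _ ⟨g, rfl⟩
      exact ⟨φ a g, (SemidirectProduct.inl_aut a g).trans (by rw [map_inv])⟩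
    · haveI := hG
      exact Group.isSolvable_of_surjective (f := i.rangeRestrict) i.rangeRestrict_surjective
    · refine eq_bot_iff.mpr ?_
      rintro _ ⟨⟨g, rfl⟩, hg⟩
      refine mem_bot.mpr ?_
      rw [hfpf g fun a => hi ?_, map_one]
      show SemidirectProduct.inl (φ a g) = SemidirectProduct.inl g
      rw [SemidirectProduct.inl_aut, map_inv]
      exact mul_inv_eq_iff_eq_mul.mpr (mem_centralizer_iff.mp hg (j a) ⟨a, rfl⟩)
  have hk := derived_nilpotent hop (hA.trans hc)
  have hmap : (_root_.commutator G).map i = ⁅i.range, i.range⁆ := by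
    rw [commutator_def, map_commutator, ← MonoidHom.range_eq_map]
  haveI : Group.IsNilpotent ((_root_.commutator G).map i) := hmap ▸ hk
  exact Group.nilpotent_of_mulEquiv ((_root_.commutator G).equivMapOfInjective i hi).symm

end H1.PairFPF
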