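import Cfsg.Agent.H1.PairFPF.NoConfig
import Cfsg.Agent.H1.PairFPF.Reduction
import Cfsg.Agent.S0033

/-! Fitting height two for solvable groups with a fixed-point-free group of order `p₁ p₂`. -/

set_option autoImplicit false
set_option linter.style.haveILetI false

namespace H1.PairFPF

open Subgroup
open scoped commutatorElement Pointwise

variable {G : Type*} [Group G]

theorem lcs_antitone (H : Subgroup G) {i j : ℕ} (h : i ≤ j) :
    H.lowerCentralSeries j ≤ H.lowerCentralSeries i ∧ H ≤ normalizer (H.lowerCentralSeries j : Set G) := by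
  have key : ∀ k, H ≤ normalizer (H.lowerCentralSeries k : Set G) ∧
      H.lowerCentralSeries (k + 1) ≤ H.lowerCentralSeries k := by
    intro k
    induction k with
    | zero =>
      exact ⟨by simpa using le_normalizer, by
        simpa using H1.commutator_le_left_of_le_normalizer (le_normalizer (H := H))⟩
    | succ k ih =>
      have hn : H ≤ normalizer (H.lowerCentralSeries (k + 1) : Set G) := by
        rw [Subgroup.lowerCentralSeries_succ]
        exact le_normalizer_commutator'' ih.1 le_normalizer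
      exact ⟨hn, by
        rw [Subgroup.lowerCentralSeries_succ H (k + 1)]
        exact H1.commutator_le_left_of_le_normalizer hn⟩
  refine ⟨?_, (key j).1⟩
  induction h with
  | refl => exact le_rfl
  | step _ ih => exact (key _).2.trans ih

theorem lcs_normalizer {A H : Subgroup G} (hA : A ≤ normalizer (H : Set G)) (k : ℕ) :
    A ≤ normalizer (H.lowerCentralSeries k : Set G) := by
  induction k with
  | zero => simpa using hA
  | succ k ih => rw [Subgroup.lowerCentralSeries_succ]; exact le_normalizer_commutator'' ih hA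

theorem exists_stable [Finite G] (H : Subgroup G) :
    ∃ k, ∀ j, k ≤ j → H.lowerCentralSeries j = H.lowerCentralSeries k := by
  obtain ⟨W, ⟨k, rfl⟩, hk⟩ :=
    exists_min_card (fun W : Subgroup G => ∃ k, W = H.lowerCentralSeries k) ⟨_, 0, rfl⟩
  exact ⟨k, fun j hj => eq_of_le_of_card_ge (lcs_antitone H hj).1 (hk _ ⟨j, rfl⟩)⟩

theorem sect_lcs {L H : Subgroup G} (hH : H ≤ normalizer (L : Set G)) (k : ℕ) :
    sect L (H.lowerCentralSeries k) = (sect L H).lowerCentralSeries k := by
  induction k with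
  | zero => simp
  | succ k ih =>
    rw [Subgroup.lowerCentralSeries_succ, Subgroup.lowerCentralSeries_succ,
      sect_commutator (((lcs_antitone H (Nat.zero_le k)).1).trans (by simpa using hH)) hH, ih]

/-- A group of order a product of two primes is solvable. -/
theorem IsPair.isSolvable [Finite G] {A : Subgroup G} (hA : IsPair A) : Group.IsSolvable A := by
  obtain ⟨b, hb, hb1, hbn⟩ := hA.exists_normal
  obtain ⟨n, hn, -, hord⟩ := hA.exists_orderOf hb hb1
  obtain ⟨p₁, p₂, h₁, h₂, hc, -⟩ := hA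
  set B := (zpowers b).subgroupOf A
  haveI : B.Normal := normal_subgroupOf_of_le_normalizer hbn
  have hBcard : Nat.card B = n := by
    rw [Nat.card_congr (subgroupOfEquivOfLe (zpowers_le.mpr hb)).toEquiv, Nat.card_zpowers, hord]
  have hB : Group.IsSolvable B := by
    haveI : Fact n.Prime := ⟨hn⟩
    haveI : IsCyclic B := isCyclic_of_prime_card hBcard
    exact Group.isSolvable_of_comm fun x y => (IsCyclic.commGroup (α := B)).mul_comm x y
  have hidx : (Nat.card (A ⧸ B)).Prime := by
    have h : n * B.index = p₁ * p₂ := by rw [← hBcard, card_mul_index, hc]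
    have hd : n ∣ p₁ * p₂ := ⟨_, h.symm⟩
    rw [← index_eq_card]
    rcases (Nat.Prime.dvd_mul hn).mp hd with h' | h'
    · rw [(Nat.prime_dvd_prime_iff_eq hn h₁).mp h'] at h
      exact (Nat.eq_of_mul_eq_mul_left h₁.pos h).symm ▸ h₂
    · rw [(Nat.prime_dvd_prime_iff_eq hn h₂).mp h', mul_comm p₁] at h
      exact (Nat.eq_of_mul_eq_mul_left h₂.pos h).symm ▸ h₁
  have hQ : Group.IsSolvable (A ⧸ B) := by
    haveI := Fact.mk hidx
    haveI : IsCyclic (A ⧸ B) := isCyclic_of_prime_card rfl
    exact Group.isSolvable_of_comm fun x y => (IsCyclic.commGroup (α := A ⧸ B)).mul_comm x y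
  exact (Group.isSolvable_iff_subgroup_quotient B).mpr ⟨hB, hQ⟩

/-- The operator hypotheses pass to a section. -/
structure Operated (A H : Subgroup G) : Prop where
  pair : IsPair A
  AH : A ≤ normalizer (H : Set G)
  cop : (Nat.card A).Coprime (Nat.card H)
  solv : Group.IsSolvable H
  fix : H ⊓ centralizer (A : Set G) = ⊥

theorem Operated.sect_operated [Finite G] {A H L : Subgroup G} (h : Operated A H)
    (hL : IsInv H A L) : Operated (sect L A) (sect L H) := by
  obtain ⟨p₁, p₂, h₁, h₂, hc, hnc⟩ := h.pair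
  have hsol : Group.IsSolvable A ∨ Group.IsSolvable H := Or.inr h.solv
  have hinj : Function.Injective (sectHom hL.2.2) := by
    rw [injective_iff_map_eq_one]
    intro x hx
    rw [sectHom_eq_one] at hx
    exact Subtype.ext (Subgroup.disjoint_def.mp (Subgroup.disjoint_of_coprime_natCard h.cop) x.2
      (hL.1 hx))
  let e : A ≃* sect L A := MulEquiv.ofBijective _ ⟨hinj, sectHom_surjective hL.2.2⟩
  refine ⟨⟨p₁, p₂, h₁, h₂, by rw [← Nat.card_congr e.toEquiv, hc], fun hcyc => hnc ?_⟩,
    sect_le_normalizer h.AH, ?_, ?_, ?_⟩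
  · haveI := hcyc
    exact isCyclic_of_injective e.toMonoidHom e.injective
  · exact (h.cop.coprime_dvd_left (card_sect_dvd hL.2.2)).coprime_dvd_right (card_sect_dvd hL.2.1)
  · haveI := h.solv
    exact Group.isSolvable_of_surjective (f := sectHom hL.2.1) (sectHom_surjective hL.2.1)
  · have hAsol : Group.IsSolvable A := h.pair.isSolvable
    rw [← sect_inf_centralizer hL.2.1 hL.2.2 h.AH h.cop hAsol, h.fix, sect_eq_bot_iff bot_le]
    exact bot_le

theorem Operated.anti [Finite G] {A H N : Subgroup G} (h : Operated A H) (hN : N ≤ H)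
    (hAN : A ≤ normalizer (N : Set G)) : Operated A N :=
  ⟨h.pair, hAN, h.cop.coprime_dvd_right (card_dvd_of_le hN), H1.isSolvable_mono h.solv hN,
    le_bot_iff.mp ((inf_le_inf_right _ hN).trans h.fix.le)⟩

/-- Centralisers of normal subgroups of prime order of `A` are nilpotent, so their elements of
coprime orders commute. -/
theorem Operated.commute [Finite G] {A H : Subgroup G} (h : Operated A H) {b : G} (hb : b ∈ A)
    (hb1 : b ≠ 1) (hbn : A ≤ normalizer ((zpowers b : Subgroup G) : Set G)) {x y : G}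
    (hx : x ∈ H ⊓ centralizer ({b} : Set G)) (hy : y ∈ H ⊓ centralizer ({b} : Set G))
    (hxy : (orderOf x).Coprime (orderOf y)) : x * y = y * x := by
  set C := H ⊓ centralizer ({b} : Set G) with hC
  obtain ⟨a, ha, hab⟩ : ∃ a ∈ A, a ∉ zpowers b := by
    by_contra hall
    push Not at hall
    obtain ⟨p₁, p₂, h₁, h₂, hc, hnc⟩ := h.pair
    exact hnc (by
      rw [le_antisymm hall (zpowers_le.mpr hb)]
      infer_instance)
  have ha1 : a ≠ 1 := fun e => hab (e ▸ one_mem _)
  obtain ⟨n, hn, -, han⟩ := h.pair.exists_orderOf ha ha1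
  have haC : a ∈ normalizer (C : Set G) := by
    refine inf_normalizer_le_normalizer_inf (mem_inf.mpr ⟨h.AH ha, ?_⟩)
    rw [← centralizer_zpowers']
    exact mem_normalizer_centralizer (hbn ha)
  let φ : MulAut C := C.normalizerMonoidHom ⟨a, haC⟩
  have hfix : ∀ z : C, φ z = z → z = 1 := by
    intro z hz
    have h1 : Commute a (z : G) := mul_inv_eq_iff_eq_mul.mp (congrArg Subtype.val hz)
    refine Subtype.ext (mem_bot.mp (h.fix.le (mem_inf.mpr ⟨(mem_inf.mp z.2).1, ?_⟩)))
    rw [← h.pair.eq_sup (zpowers_le.mpr hb) (by simp [hb1]) ha hab]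
    refine mem_centralizer_iff.mpr ?_
    intro s hs
    have hle : zpowers b ⊔ zpowers a ≤ centralizer ({(z : G)} : Set G) := by
      rw [sup_le_iff, zpowers_le, zpowers_le]
      exact ⟨mem_centralizer_singleton'.mpr (mem_centralizer_singleton'.mp (mem_inf.mp z.2).2).symm,
        mem_centralizer_singleton'.mpr h1.eq.symm⟩
    exact (mem_centralizer_singleton'.mp (hle hs)).symm
  have hnil : Group.IsNilpotent C := by
    by_cases hC1 : C = ⊥
    · rw [hC1]; infer_instance
    haveI := Fact.mk hn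
    have hφn : φ ^ n = 1 := by
      rw [← map_pow, show (⟨a, haC⟩ : normalizer (C : Set G)) ^ n = 1 from
        Subtype.ext (han ▸ pow_orderOf_eq_one a), map_one]
    refine Cfsg.Agent.S0033.result φ hfix n hn (orderOf_eq_prime hφn fun e => hC1 ?_)
    exact eq_bot_iff.mpr fun z hz =>
      mem_bot.mpr (congrArg Subtype.val (hfix ⟨z, hz⟩ (by rw [e]; rfl)) :)
  have := H81.commute_of_coprime_orderOf hnil (x := ⟨x, hx⟩) (y := ⟨y, hy⟩)
    (by rwa [Subgroup.orderOf_mk, Subgroup.orderOf_mk])
  exact congrArg Subtype.val this.eq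

theorem coprime_orderOf_of_isPGroup [Finite G] {p q : ℕ} [Fact p.Prime] [Fact q.Prime] (hne : p ≠ q)
    {P Q : Subgroup G} (hP : IsPGroup p P) (hQ : IsPGroup q Q) {x y : G} (hx : x ∈ P)
    (hy : y ∈ Q) : (orderOf x).Coprime (orderOf y) :=
  ((coprime_of_isPGroup hne hP hQ).coprime_dvd_left (orderOf_dvd_natCard P hx)).coprime_dvd_right
    (orderOf_dvd_natCard Q hy)

/-- A non-nilpotent group `N` with nilpotent stable term of its lower central series has a
non-trivial action of an invariant `r`-subgroup on an invariant normal `q`-subgroup. -/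
theorem exists_action [Finite G] {A N : Subgroup G} (h : Operated A N) {M : Subgroup G}
    (hMN : M ≤ N) (hM1 : M ≠ ⊥) (hMnil : Group.IsNilpotent M) (hNM : N ≤ normalizer (M : Set G))
    (hAM : A ≤ normalizer (M : Set G)) (hstab : ⁅M, N⁆ = M) :
    ∃ (q r : ℕ) (Q R : Subgroup G), q.Prime ∧ r.Prime ∧ r ≠ q ∧ IsPGroup q Q ∧ IsPGroup r R ∧
      Q ≤ N ∧ R ≤ N ∧ N ≤ normalizer (Q : Set G) ∧ A ≤ normalizer (Q : Set G) ∧
      A ≤ normalizer (R : Set G) ∧ ⁅Q, R⁆ ≠ ⊥ := by
  obtain ⟨q, hq, hqd⟩ := Nat.exists_prime_and_dvd (n := Nat.card M)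
    (fun e => hM1 (card_eq_one.mp e))
  haveI := Fact.mk hq
  haveI := hMnil
  obtain ⟨T⟩ := (inferInstance : Nonempty (Sylow q M))
  haveI hTc : (T : Subgroup M).Characteristic := T.characteristic_of_normal inferInstance
  set Q := (T : Subgroup M).map M.subtype with hQ
  haveI : (Cfsg.pPrimeCore q M).Characteristic := H1.pPrimeCore_characteristic q M
  set M' := (Cfsg.pPrimeCore q M).map M.subtype with hM'
  have hQN : N ≤ normalizer (Q : Set G) := H1.le_normalizer_map_subtype_of_characteristic hNM _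
  have hAQ : A ≤ normalizer (Q : Set G) := H1.le_normalizer_map_subtype_of_characteristic hAM _
  have hM'N : N ≤ normalizer (M' : Set G) := H1.le_normalizer_map_subtype_of_characteristic hNM _
  have hQM : Q ≤ M := map_subtype_le _
  have hM'M : M' ≤ M := map_subtype_le _
  have hQp : IsPGroup q Q := T.isPGroup'.map _
  have hsup : Q ⊔ M' = M := by
    refine le_antisymm (sup_le hQM hM'M) ?_
    have htop : (T : Subgroup M) ⊔ Cfsg.pPrimeCore q M = ⊤ := by
      refine eq_top_of_sylow_le fun p hp => ?_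
      haveI := Fact.mk hp
      by_cases hpq : p = q
      · subst hpq
        exact ⟨T, le_sup_left⟩
      · obtain ⟨P⟩ := (inferInstance : Nonempty (Sylow p M))
        refine ⟨P, le_trans (H1.le_pPrimeCore ?_) le_sup_right⟩
        rw [P.card_eq_multiplicity]
        exact ((Nat.coprime_primes hp hq).mpr hpq).pow_left _
    rw [hQ, hM', ← Subgroup.map_sup, htop, ← MonoidHom.range_eq_map, Subgroup.range_subtype]
  have hQ1 : Q ≠ ⊥ := by
    intro e
    rw [hQ, Subgroup.map_eq_bot_iff, Subgroup.ker_subtype, le_bot_iff] at e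
    exact T.ne_bot_of_dvd_card hqd e
  have hdisj : Q ⊓ M' = ⊥ := disjoint_iff.mp (Subgroup.disjoint_of_coprime_natCard (by
    rw [hQ, hM', ← Nat.card_congr ((T : Subgroup M).equivMapOfInjective _
      Subtype.coe_injective).toEquiv, ← Nat.card_congr ((Cfsg.pPrimeCore q M).equivMapOfInjective _
      Subtype.coe_injective).toEquiv, T.card_eq_multiplicity]
    exact (Nat.Coprime.symm (H1.card_pPrimeCore_coprime q M)).pow_left _))
  by_contra hnone
  push Not at hnone
  obtain ⟨S, hS⟩ := H1.exists_invariant_sylow h.AH h.cop (Or.inr h.solv) q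
  set S' := (S : Subgroup N).map N.subtype with hS'
  have hS'p : IsPGroup q S' := S.isPGroup'.map _
  have hS'Q : S' ≤ normalizer (Q : Set G) := (map_subtype_le _).trans hQN
  set D := ⁅Q, S'⁆ with hD
  have hDQ : D ≤ Q := H1.commutator_le_left_of_le_normalizer hS'Q
  -- `[Q, N] = [Q, S']`
  have hgen : ∀ p : ℕ, p.Prime → p ≠ q → ∀ P : Sylow p N,
      (P : Subgroup N).map N.subtype ≤ centralizer (Q : Set G) := by
    intro p hp hpq P
    haveI := Fact.mk hp
    obtain ⟨P₀, hP₀⟩ := H1.exists_invariant_sylow h.AH h.cop (Or.inr h.solv) p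
    have h0 := commutator_eq_bot_iff_le_centralizer.mp (hnone q p Q ((P₀ : Subgroup N).map N.subtype)
      hq hp hpq hQp (P₀.isPGroup'.map _) (hQM.trans hMN) (map_subtype_le _) hQN hAQ hP₀)
    obtain ⟨c, hc⟩ := MulAction.exists_smul_eq N P₀ P
    rw [← hc, Sylow.coe_subgroup_smul, H1.map_subtype_conj_smul]
    intro x hx
    rw [H1.mem_conj_smul_iff] at hx
    have := (mem_normalizer_iff.mp (mem_normalizer_centralizer (hQN c.2)) _).mp
      (le_centralizer_iff.mp h0 hx)
    simpa [mul_assoc] using this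
  set C := centralizer (Q : Set G) ⊓ N with hCdef
  have hNC : N ≤ normalizer (C : Set G) :=
    le_normalizer_inf' (le_normalizer_centralizer' hQN) le_normalizer
  have htop : (C ⊔ S').subgroupOf N = ⊤ := by
    refine eq_top_of_sylow_le fun p hp => ?_
    haveI := Fact.mk hp
    by_cases hpq : p = q
    · subst hpq
      exact ⟨S, fun x hx => mem_sup_right (mem_map_of_mem _ hx)⟩
    · obtain ⟨P⟩ := (inferInstance : Nonempty (Sylow p N))
      exact ⟨P, fun x hx =>
        mem_sup_left (mem_inf.mpr ⟨hgen p hp hpq P (mem_map_of_mem _ hx), x.2⟩)⟩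
  have hQD : ⁅Q, N⁆ ≤ D := by
    refine commutator_le.mpr fun x hx g hg => ?_
    have hgX : g ∈ C ⊔ S' := (htop.ge (mem_top (⟨g, hg⟩ : N)) :)
    obtain ⟨c, hc, s, hs, rfl⟩ :=
      H1.exists_mul_of_mem_sup ((map_subtype_le _).trans hNC) hgX
    have h1 : ⁅x, c⁆ = 1 := commutatorElement_eq_one_iff_mul_comm.mpr
      (mem_centralizer_iff.mp (mem_inf.mp hc).1 x hx)
    have hxs : ⁅x, s⁆ ∈ D := commutator_mem_commutator hx hs
    have h2 : c * ⁅x, s⁆ * c⁻¹ = ⁅x, s⁆ := by
      rw [← mem_centralizer_iff.mp (mem_inf.mp hc).1 _ (hDQ hxs), mul_inv_cancel_right]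
    rw [show ⁅x, c * s⁆ = ⁅x, c⁆ * (c * ⁅x, s⁆ * c⁻¹) by simp only [commutatorElement_def]; group,
      h1, one_mul, h2]
    exact hxs
  have hlt : D < Q := H1.commutator_lt_of_isPGroup hS'p hQp hS'Q hQ1
  have hMD : M ≤ D ⊔ M' := by
    calc M = ⁅M, N⁆ := hstab.symm
      _ ≤ _ := commutator_le.mpr fun y hy g hg => by
        rw [← hsup] at hy
        obtain ⟨m, hm, x, hx, rfl⟩ :=
          H1.exists_mul_of_mem_sup ((hQM.trans hMN).trans hM'N) (sup_comm Q M' ▸ hy)
        rw [show ⁅m * x, g⁆ = m * ⁅x, g⁆ * m⁻¹ * ⁅m, g⁆ by simp only [commutatorElement_def]; group]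
        have h1 : ⁅m, g⁆ ∈ M' := by
          have e : ⁅m, g⁆ = m * (g * m⁻¹ * g⁻¹) := by simp only [commutatorElement_def]; group
          rw [e]
          exact mul_mem hm ((mem_normalizer_iff.mp (hM'N hg) _).mp (inv_mem hm))
        exact mul_mem (mul_mem (mul_mem (mem_sup_right hm)
          (mem_sup_left (hQD (commutator_mem_commutator hx hg)))) (inv_mem (mem_sup_right hm)))
          (mem_sup_right h1)
  refine hlt.ne (le_antisymm hDQ fun x hx => ?_)
  obtain ⟨m, hm, d, hd, rfl⟩ := H1.exists_mul_of_mem_sup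
    (((hDQ.trans hQM).trans hMN).trans hM'N) (sup_comm D M' ▸ hMD (hQM hx))
  have hmQ : m ∈ Q := by simpa using mul_mem hx (inv_mem (hDQ hd))
  rw [mem_bot.mp (hdisj.le (mem_inf.mpr ⟨hmQ, hm⟩)), one_mul]
  exact hd

/-- An action inside a complement of a minimal module gives a configuration. -/
theorem action_false [Finite G] {A H V N : Subgroup G} {v q r : ℕ} (h : Operated A H)
    (hv : v.Prime) (hVe : Cfsg.IsElementaryAbelian v V) (hV : IsInv H A V) (hNH : N ≤ H)
    (hfaith : N ⊓ centralizer (V : Set G) = ⊥)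
    (hvfree : ∀ S, S ≤ N → N ≤ normalizer (S : Set G) → A ≤ normalizer (S : Set G) →
      IsPGroup v S → S = ⊥)
    (hq : q.Prime) (hr : r.Prime) (hrq : r ≠ q) {Q R : Subgroup G} (hQp : IsPGroup q Q)
    (hRp : IsPGroup r R) (hQN : Q ≤ N) (hRN : R ≤ N) (hNQ : N ≤ normalizer (Q : Set G))
    (hAQ : A ≤ normalizer (Q : Set G)) (hAR : A ≤ normalizer (R : Set G)) (hne : ⁅Q, R⁆ ≠ ⊥) :
    False := by
  haveI := Fact.mk hv
  haveI := Fact.mk hq
  haveI := Fact.mk hr
  have hVp : IsPGroup v V := fun x => ⟨1, Subtype.ext (by simpa using hVe.2 x x.2)⟩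
  have hqv : q ≠ v := by
    rintro rfl
    exact hne (by rw [hvfree Q hQN hNQ hAQ hQp, commutator_bot_left])
  have hanti := fun {X : Subgroup G} (hX : X ≤ H) (hAX : A ≤ normalizer (X : Set G)) =>
    h.anti hX hAX
  exact Config.false (A := A) (V := V) (Q := Q) (R := R) (v := v) (q := q) (r := r)
    { hv := hv, hq := hq, hr := hr, hqv := hqv, hrq := hrq, pair := h.pair, hV := hVe, hQ := hQp
      hR := hRp, AV := hV.2.2, AQ := hAQ, AR := hAR
      QV := (hQN.trans hNH).trans hV.2.1, RV := (hRN.trans hNH).trans hV.2.1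
      RQ := hRN.trans hNQ
      copV := (hanti hV.1 hV.2.2).cop, copQ := (hanti (hQN.trans hNH) hAQ).cop
      copR := (hanti (hRN.trans hNH) hAR).cop
      fixV := (hanti hV.1 hV.2.2).fix, fixQ := (hanti (hQN.trans hNH) hAQ).fix
      fixR := (hanti (hRN.trans hNH) hAR).fix
      commQR := fun b hb hb1 hbn x hx y hy => h.commute hb hb1 hbn
        (inf_le_inf_right _ (hQN.trans hNH) hx) (inf_le_inf_right _ (hRN.trans hNH) hy)
        (coprime_orderOf_of_isPGroup hrq.symm hQp hRp (mem_inf.mp hx).1 (mem_inf.mp hy).1)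
      commVQ := fun b hb hb1 hbn x hx y hy => h.commute hb hb1 hbn
        (inf_le_inf_right _ hV.1 hx) (inf_le_inf_right _ (hQN.trans hNH) hy)
        (coprime_orderOf_of_isPGroup hqv.symm hVp hQp (mem_inf.mp hx).1 (mem_inf.mp hy).1)
      faith := le_bot_iff.mp ((inf_le_inf_right _ hQN).trans hfaith.le)
      ne := hne }

/-- Ward's theorem: the stable term of the lower central series is nilpotent. -/
theorem exists_lcs_nilpotent [Finite G] {A H : Subgroup G} (h : Operated A H) :
    ∃ k, Group.IsNilpotent (H.lowerCentralSeries k) := by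
  suffices key : ∀ (m : ℕ) (G : Type _) [Group G] [Finite G] (A H : Subgroup G),
      Nat.card H = m → Operated A H → ∃ k, Group.IsNilpotent (H.lowerCentralSeries k) from
    key _ G A H rfl h
  intro m
  induction m using Nat.strong_induction_on with
  | _ m ih =>
  intro G _ _ A H hm h
  subst hm
  obtain ⟨k₀, hk₀⟩ := exists_stable H
  by_contra hnone
  push Not at hnone
  set P := H.lowerCentralSeries k₀ with hP
  have hPH : P ≤ H := by simpa using (lcs_antitone H (Nat.zero_le k₀)).1
  have hPinv : IsInv H A P :=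
    ⟨hPH, (lcs_antitone H (le_refl k₀)).2, lcs_normalizer h.AH k₀⟩
  obtain ⟨V, N, v, hv, hVe, hV, hVP, hV1, hNH, hAN, hVN, hVN0, hfaith, hPN, hvfree⟩ :=
    exists_reduced h.AH h.cop h.solv hPinv (hnone k₀) fun V hV hV1 => by
      have hlt : Nat.card (sect V H) < Nat.card H := by
        refine lt_of_le_of_ne (Nat.le_of_dvd Nat.card_pos (card_sect_dvd hV.2.1)) fun e => hV1 ?_
        have hbij : Function.Bijective (sectHom hV.2.1) :=
          (Nat.bijective_iff_surjective_and_card _).mpr ⟨sectHom_surjective hV.2.1, e.symm⟩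
        refine eq_bot_iff.mpr fun x hx => mem_bot.mpr ?_
        have h0 : (⟨x, hV.1 hx⟩ : H) = 1 := hbij.1 (by
          rw [map_one, sectHom_eq_one]; exact hx)
        exact congrArg Subtype.val h0
      obtain ⟨j, hj⟩ := ih _ hlt _ (sect V A) (sect V H) rfl (h.sect_operated hV)
      have hle : sect V P ≤ (sect V H).lowerCentralSeries j := by
        rw [← hk₀ (max j k₀) (le_max_right _ _), sect_lcs hV.2.1]
        exact (lcs_antitone _ (le_max_left _ _)).1
      exact H1.isNilpotent_mono hj hle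
  haveI := Fact.mk hv
  haveI := hVe.1
  have hVp : IsPGroup v V := fun x => ⟨1, Subtype.ext (by simpa using hVe.2 x x.2)⟩
  have hopN := h.anti hNH hAN
  obtain ⟨k₁, hk₁⟩ := exists_stable N
  set k := max k₀ k₁
  set M := N.lowerCentralSeries k₁ with hM
  have hMN : M ≤ N := by simpa using (lcs_antitone N (Nat.zero_le k₁)).1
  have hMk : M = N.lowerCentralSeries k := (hk₁ k (le_max_right _ _)).symm
  have hMP : M ≤ P ⊓ N := le_inf (by
    rw [hMk, ← hk₀ k (le_max_left _ _)]
    exact Subgroup.lowerCentralSeries_mono k hNH) hMN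
  have hM1 : M ≠ ⊥ := by
    intro e
    refine hnone k (H1.isNilpotent_mono (hK := hVp.isNilpotent) ?_)
    have hsect : sect V H = sect V N := by
      refine le_antisymm ?_ (sect_mono hNH)
      rintro _ ⟨⟨x, hxN⟩, hx, rfl⟩
      obtain ⟨w, hw, y, hy, hxy⟩ := H1.exists_mul_of_mem_sup (hNH.trans hV.2.1) (hVN.ge hx)
      refine ⟨⟨y, hV.2.1 (hNH hy)⟩, hy, QuotientGroup.eq.mpr (mem_subgroupOf.mpr ?_)⟩
      have hxy' : x = w * y := hxy
      simp only [Subgroup.coe_mul, Subgroup.coe_inv, hxy']
      have := (mem_normalizer_iff.mp (hV.2.1 (inv_mem (hNH hy))) w).mp hw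
      simpa [mul_assoc] using this
    have h0 := sect_lcs hV.2.1 k
    rw [hsect, ← sect_lcs (hNH.trans hV.2.1) k, ← hMk, e,
      (sect_eq_bot_iff bot_le).mpr bot_le, sect_eq_bot_iff
        (((lcs_antitone H (Nat.zero_le k)).1).trans (by simpa using hV.2.1))] at h0
    exact h0
  have hstab : ⁅M, N⁆ = M := by
    have := hk₁ (k₁ + 1) (Nat.le_succ _)
    rwa [Subgroup.lowerCentralSeries_succ] at this
  obtain ⟨q, r, Q, R, hq, hr, hrq, hQp, hRp, hQN, hRN, hNQ, hAQ, hAR, hne⟩ := exists_action hopN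
    hMN hM1 (H1.isNilpotent_mono hPN hMP) (lcs_antitone N (le_refl k₁)).2
    (lcs_normalizer hAN k₁) hstab
  haveI := Fact.mk hq
  haveI := Fact.mk hr
  exact action_false h hv hVe hV hNH hfaith hvfree hq hr hrq hQp hRp hQN hRN hNQ hAQ hAR hne

/-- A coprime fixed-point-free action on a solvable group by a non-cyclic group of order a product
of two primes gives a normal subgroup with nilpotent quotient and itself nilpotent. -/
theorem exists_nilpotent_lcs {G A : Type*} [Group G] [Finite G] [Group A] [Finite A]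
    (hG : Group.IsSolvable G) (φ : A →* MulAut G) {p₁ p₂ : ℕ} (h₁ : p₁.Prime) (h₂ : p₂.Prime)
    (hc : Nat.card A = p₁ * p₂) (hnc : ¬ IsCyclic A) (hcop : (Nat.card G).Coprime (Nat.card A))
    (hfpf : ∀ g : G, (∀ a : A, φ a g = g) → g = 1) :
    ∃ k, Group.IsNilpotent ((⊤ : Subgroup G).lowerCentralSeries k) := by
  haveI : Finite (G ⋊[φ] A) := Finite.of_equiv _ SemidirectProduct.equivProd.symm
  let i : G →* G ⋊[φ] A := SemidirectProduct.inl
  let j : A →* G ⋊[φ] A := SemidirectProduct.inr
  have hi : Function.Injective i := SemidirectProduct.inl_injective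
  have hj : Function.Injective j := SemidirectProduct.inr_injective
  have hA : Nat.card j.range = Nat.card A := (Nat.card_congr (MonoidHom.ofInjective hj).toEquiv).symm
  have hH : Nat.card i.range = Nat.card G := (Nat.card_congr (MonoidHom.ofInjective hi).toEquiv).symm
  have hop : Operated j.range i.range := by
    refine ⟨⟨p₁, p₂, h₁, h₂, hA.trans hc, fun hcyc => hnc ?_⟩, ?_, by rw [hA, hH]; exact hcop.symm,
      ?_, ?_⟩
    · haveI := hcyc
      exact isCyclic_of_injective (MonoidHom.ofInjective hj).toMonoidHom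
        (MonoidHom.ofInjective hj).injective
    · rintro _ ⟨a, rfl⟩
      refine normalizer_conj_mem ?_
      rintro _ ⟨g, rfl⟩
      exact ⟨φ a g, (SemidirectProduct.inl_aut a g).trans (by rw [map_inv])⟩
    · haveI := hG
      exact Group.isSolvable_of_surjective (f := i.rangeRestrict) i.rangeRestrict_surjective
    · refine eq_bot_iff.mpr ?_
      rintro _ ⟨⟨g, rfl⟩, hg⟩
      refine mem_bot.mpr ?_
      rw [hfpf g fun a => hi ?_, map_one]
      show SemidirectProduct.inl (φ a g) = SemidirectProduct.inl g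
      rw [SemidirectProduct.inl_aut, map_inv]
      exact mul_inv_eq_iff_eq_mul.mpr (mem_centralizer_iff.mp hg (j a) ⟨a, rfl⟩)
  obtain ⟨k, hk⟩ := exists_lcs_nilpotent hop
  refine ⟨k, ?_⟩
  have hmap : ((⊤ : Subgroup G).lowerCentralSeries k).map i = i.range.lowerCentralSeries k := by
    rw [Subgroup.map_lowerCentralSeries, ← MonoidHom.range_eq_map]
  haveI : Group.IsNilpotent (((⊤ : Subgroup G).lowerCentralSeries k).map i) := hmap ▸ hk
  exact Group.nilpotent_of_mulEquiv
    (((⊤ : Subgroup G).lowerCentralSeries k).equivMapOfInjective i hi).symm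

end H1.PairFPF
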