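import Cfsg.Agent.H1.PairFPF.Basic

/-! Splittings of an abelian group relative to a separating family of subgroups. -/

set_option autoImplicit false
set_option linter.style.haveILetI false

namespace H1.PairFPF

open Subgroup
open scoped Pointwise

variable {G : Type*} [Group G]

/-- `X` is a direct summand of `Q` compatible with the family `P`. -/
def IsSplit (P : Subgroup G → Prop) (Q X : Subgroup G) : Prop :=
  X ≤ Q ∧ ∃ Y : Subgroup G, Y ≤ Q ∧ X ⊔ Y = Q ∧ ∀ K, P K → X ≤ K ∨ Y ≤ K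

variable {P : Subgroup G → Prop} {Q : Subgroup G}

theorem le_normalizer_of_isMulCommutative (hQ : IsMulCommutative Q) {X Y : Subgroup G}
    (hX : X ≤ Q) (hY : Y ≤ Q) : X ≤ normalizer (Y : Set G) := fun x hx =>
  centralizer_le_normalizer _ (mem_centralizer_iff.mpr fun y hy =>
    congrArg Subtype.val (hQ.is_comm.comm (⟨y, hY hy⟩ : Q) ⟨x, hX hx⟩))

/-- A summand decomposes along any other splitting. -/
theorem split_inter_le (hQ : IsMulCommutative Q)
    (hsep : ∀ x ∈ Q, (∀ K, P K → x ∈ K) → x = 1) {X X' Y' : Subgroup G} (hX : IsSplit P Q X)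
    (hX' : X' ≤ Q) (hY' : Y' ≤ Q) (hsup : X' ⊔ Y' = Q) (hK : ∀ K, P K → X' ≤ K ∨ Y' ≤ K) :
    X ≤ (X ⊓ X') ⊔ (X ⊓ Y') := by
  obtain ⟨hXQ, Y, hYQ, hXY, hXK⟩ := hX
  intro x hx
  obtain ⟨x1, hx1, y1, hy1, rfl⟩ :=
    H1.exists_mul_of_mem_sup (le_normalizer_of_isMulCommutative hQ hY' hX') (hsup.symm ▸ hXQ hx)
  obtain ⟨u, hu, w, hw, huw⟩ := H1.exists_mul_of_mem_sup
    (le_normalizer_of_isMulCommutative hQ hYQ hXQ) (hXY.symm ▸ hX' hx1)
  have hw1 : w = 1 := by
    refine hsep w (hYQ hw) fun K hPK => ?_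
    rcases hXK K hPK with h | h
    · have h1 : x1 ∈ K := by
        rcases hK K hPK with h' | h'
        · exact h' hx1
        · simpa using mul_mem (h hx) (inv_mem (h' hy1))
      rw [show w = u⁻¹ * x1 by rw [huw]; group]
      exact mul_mem (inv_mem (h hu)) h1
    · exact h hw
  have hx1X : x1 ∈ X := by rw [huw, hw1, mul_one]; exact hu
  refine mul_mem (mem_sup_left (mem_inf.mpr ⟨hx1X, hx1⟩)) (mem_sup_right (mem_inf.mpr ⟨?_, hy1⟩))
  simpa using mul_mem (inv_mem hx1X) hx

/-- Intersections of summands are summands. -/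
theorem IsSplit.inter (hQ : IsMulCommutative Q) (hsep : ∀ x ∈ Q, (∀ K, P K → x ∈ K) → x = 1)
    {X X' : Subgroup G} (hX : IsSplit P Q X) (hX' : IsSplit P Q X') : IsSplit P Q (X ⊓ X') := by
  obtain ⟨hX'Q, Y', hY'Q, hsup', hK'⟩ := hX'
  have hdec := split_inter_le hQ hsep hX hX'Q hY'Q hsup' hK'
  obtain ⟨hXQ, Y, hYQ, hsup, hK⟩ := hX
  refine ⟨inf_le_left.trans hXQ, Y ⊔ Y', sup_le hYQ hY'Q, le_antisymm ?_ ?_, fun K hPK => ?_⟩
  · exact sup_le (inf_le_left.trans hXQ) (sup_le hYQ hY'Q)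
  · calc Q = X ⊔ Y := hsup.symm
      _ ≤ _ := sup_le (hdec.trans (sup_le le_sup_left
          ((inf_le_right.trans le_sup_right).trans le_sup_right)))
          (le_sup_left.trans le_sup_right)
  · rcases hK K hPK with h | h
    · exact Or.inl (inf_le_left.trans h)
    · rcases hK' K hPK with h' | h'
      · exact Or.inl (inf_le_right.trans h')
      · exact Or.inr (sup_le h h')

theorem IsSplit.conj {X : Subgroup G} (hX : IsSplit P Q X) {g : G}
    (hgQ : g ∈ normalizer (Q : Set G)) (hgP : ∀ K, P K → P (MulAut.conj g⁻¹ • K)) :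
    IsSplit P Q (MulAut.conj g • X) := by
  obtain ⟨hXQ, Y, hYQ, hsup, hK⟩ := hX
  have hQ : MulAut.conj g • Q = Q := mem_normalizer_iff_map_conj_eq.mp hgQ
  refine ⟨hQ ▸ map_mono hXQ, MulAut.conj g • Y, hQ ▸ map_mono hYQ, ?_, fun K hPK => ?_⟩
  · rw [← Subgroup.smul_sup, hsup, hQ]
  · have h := hK _ (hgP K hPK)
    rw [map_inv] at h
    exact h.imp Subgroup.pointwise_smul_subset_iff.mpr Subgroup.pointwise_smul_subset_iff.mpr

/-- If `b` of prime order has no fixed points on the summand `D` and centralises the complementary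
summand `C`, every summand is invariant under `b`. -/
theorem IsSplit.invariant [Finite G] (hQ : IsMulCommutative Q)
    (hsep : ∀ x ∈ Q, (∀ K, P K → x ∈ K) → x = 1) {C D : Subgroup G} (hCQ : C ≤ Q) (hDQ : D ≤ Q)
    (hsup : C ⊔ D = Q) (hK : ∀ K, P K → C ≤ K ∨ D ≤ K) {b : G} {n : ℕ} (hn : n.Prime)
    (hbn : b ^ n = 1) (hbQ : b ∈ normalizer (Q : Set G)) (hbD : b ∈ normalizer (D : Set G))
    (hbP : ∀ j : ℕ, ∀ K, P K → P (MulAut.conj (b ^ j)⁻¹ • K))
    (hC : C ≤ centralizer ({b} : Set G)) (hD : D ⊓ centralizer ({b} : Set G) = ⊥)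
    {X : Subgroup G} (hX : IsSplit P Q X) : b ∈ normalizer (X : Set G) := by
  classical
  induction hm : Nat.card X using Nat.strong_induction_on generalizing X with
  | _ m ih =>
  subst hm
  by_cases hsmall : ∃ X' : Subgroup G, IsSplit P Q X' ∧ X ⊓ X' ≠ X ∧ X ⊓ X' ≠ ⊥
  · obtain ⟨X', hX', hne, hne0⟩ := hsmall
    obtain ⟨Y', hY'Q, hsup', hK'⟩ := hX'.2
    have hY' : IsSplit P Q Y' :=
      ⟨hY'Q, X', hX'.1, by rw [sup_comm, hsup'], fun K hPK => (hK' K hPK).symm⟩
    have hlt : ∀ S : Subgroup G, X ⊓ S ≠ X → Nat.card (X ⊓ S : Subgroup G) < Nat.card X :=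
      fun S hS => lt_of_le_of_ne (card_le_of_le inf_le_left) fun e =>
        hS (eq_of_le_of_card_ge inf_le_left e.ge)
    have hdec := split_inter_le hQ hsep hX hX'.1 hY'Q hsup' hK'
    have hne' : X ⊓ Y' ≠ X := by
      intro e
      refine hne0 (eq_bot_iff.mpr fun x hx => mem_bot.mpr ?_)
      obtain ⟨hxX, hxX'⟩ := mem_inf.mp hx
      refine hsep x (hX.1 hxX) fun K hPK => ?_
      rcases hK' K hPK with h | h
      · exact h hxX'
      · exact h ((e.ge.trans inf_le_right) hxX)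
    have hb1 := ih _ (hlt X' hne) (hX.inter hQ hsep hX') rfl
    have hb2 := ih _ (hlt Y' hne') (hX.inter hQ hsep hY') rfl
    have hXeq : X = (X ⊓ X') ⊔ (X ⊓ Y') := le_antisymm hdec (sup_le inf_le_left inf_le_left)
    rw [mem_normalizer_iff_map_conj_eq] at hb1 hb2 ⊢
    rw [hXeq, Subgroup.map_sup, hb1, hb2]
  push Not at hsmall
  have hCs : IsSplit P Q C := ⟨hCQ, D, hDQ, hsup, hK⟩
  have hdec := split_inter_le hQ hsep hX hCQ hDQ hsup hK
  by_cases hXC : X ⊓ C = X
  · refine centralizer_le_normalizer _ (mem_centralizer_iff.mpr fun x hx => ?_)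
    exact (mem_centralizer_singleton'.mp (hC ((inf_eq_left.mp hXC) hx))).symm
  have hXD : X ≤ D := by
    refine hdec.trans ?_
    rw [hsmall C hCs hXC, bot_sup_eq]
    exact inf_le_right
  by_contra hb
  obtain ⟨Y, hYQ, hXY, hXK⟩ := hX.2
  have hbi : ∀ i : ℕ, 0 < i → i < n → MulAut.conj (b ^ i) • X ≤ Y := by
    intro i hi hin
    set Xi := MulAut.conj (b ^ i) • X
    have hXi : IsSplit P Q Xi := hX.conj (pow_mem hbQ i) (hbP i)
    have hne : X ⊓ Xi ≠ X := by
      intro e
      have hmem : b ^ i ∈ normalizer (X : Set G) := by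
        rw [mem_normalizer_iff_map_conj_eq]
        refine (eq_of_le_of_card_ge (inf_eq_left.mp e) ?_).symm
        exact (Nat.card_congr (X.equivMapOfInjective _ (MulAut.conj (b ^ i)).injective).toEquiv).ge
      refine hb ?_
      have hco : i.Coprime n := Nat.Coprime.symm
        (hn.coprime_iff_not_dvd.mpr (Nat.not_dvd_of_pos_of_lt hi hin))
      obtain ⟨k, hk⟩ := exists_pow_eq_self_of_coprime
        (hco.coprime_dvd_right (orderOf_dvd_of_pow_eq_one hbn))
      exact hk ▸ pow_mem hmem k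
    have hXi0 : X ⊓ Xi = ⊥ := hsmall Xi hXi hne
    have h := split_inter_le hQ hsep hXi hX.1 hYQ hXY hXK
    rw [inf_comm Xi X, hXi0, bot_sup_eq] at h
    exact h.trans inf_le_right
  have hdisj : X ⊓ Y = ⊥ := eq_bot_iff.mpr fun x hx => by
    obtain ⟨hxX, hxY⟩ := mem_inf.mp hx
    refine mem_bot.mpr (hsep x (hX.1 hxX) fun K hPK => ?_)
    exact (hXK K hPK).elim (fun h => h hxX) (fun h => h hxY)
  have hX1 : X = ⊥ := by
    refine eq_bot_iff.mpr fun u hu => ?_
    open scoped IsMulCommutative in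
    letI : CommGroup D :=
      { (inferInstance : Group D) with
        mul_comm := fun x y => Subtype.ext <| by
          have := congrArg Subtype.val (hQ.is_comm.comm (⟨x, hDQ x.2⟩ : Q) ⟨y, hDQ y.2⟩)
          simpa using this }
    let φ : normalizer (D : Set G) →* MulAut D := D.normalizerMonoidHom
    let g : normalizer (D : Set G) := ⟨b, hbD⟩
    let u' : D := ⟨u, hXD hu⟩
    have hgn : g ^ n = 1 := Subtype.ext hbn
    set w := ∏ i ∈ Finset.range n, φ (g ^ i) u' with hw
    have hfix : φ g w = w := by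
      rw [hw, map_prod]
      have e : ∀ i ∈ Finset.range n, φ g (φ (g ^ i) u') = φ (g ^ (i + 1)) u' := fun i _ => by
        rw [← MulAut.mul_apply, ← map_mul, ← pow_succ']
      rw [Finset.prod_congr rfl e]
      have h1 := Finset.prod_range_succ (fun i => φ (g ^ i) u') n
      have h2 := Finset.prod_range_succ' (fun i => φ (g ^ i) u') n
      rw [h1, hgn, pow_zero] at h2
      exact (mul_right_cancel h2).symm
    have hw1 : w = 1 := by
      have hmem : (w : G) ∈ D ⊓ centralizer ({b} : Set G) := mem_inf.mpr ⟨w.2,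
        mem_centralizer_singleton'.mpr (mul_inv_eq_iff_eq_mul.mp (congrArg Subtype.val hfix))⟩
      rw [hD, mem_bot] at hmem
      exact Subtype.ext hmem
    rw [hw, ← Finset.prod_erase_mul (Finset.range n) _ (Finset.mem_range.mpr hn.pos)] at hw1
    simp only [pow_zero, map_one, MulAut.one_apply] at hw1
    have hrest : ∏ i ∈ (Finset.range n).erase 0, φ (g ^ i) u' ∈ Y.subgroupOf D := by
      refine prod_mem fun i hi => ?_
      obtain ⟨hi0, hin⟩ := Finset.mem_erase.mp hi
      exact hbi i (Nat.pos_of_ne_zero hi0) (Finset.mem_range.mp hin) ⟨u, hu, rfl⟩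
    have huY : u' ∈ Y.subgroupOf D := by
      rw [eq_inv_of_mul_eq_one_right hw1]
      exact inv_mem hrest
    exact hdisj.le (mem_inf.mpr ⟨hu, huY⟩)
  exact hb (by rw [hX1]; exact le_normalizer_bot' (L := ⊤) (mem_top b))

end H1.PairFPF
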