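import Cfsg.Agent.H1.PairFPF.Config
import Cfsg.Agent.H1.PairFPF.Split

/-! The configuration does not occur. -/

set_option autoImplicit false
set_option linter.style.haveILetI false

namespace H1.PairFPF

open Subgroup
open scoped commutatorElement Pointwise

variable {G : Type*} [Group G] [Finite G] {A V Q R : Subgroup G} {v q r : ℕ}

theorem MinConfig.caseII_false (h : MinConfig A V Q R v q r) {b : G} (hb : b ∈ A) (hb1 : b ≠ 1)
    (hbn : A ≤ normalizer ((zpowers b : Subgroup G) : Set G)) (hRb : ⁅R, zpowers b⁆ = R)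
    (hfixR : R ⊓ centralizer ({b} : Set G) ≤ centralizer (Q : Set G)) : False := by
  haveI := Fact.mk h.conf.hq
  haveI := Fact.mk h.conf.hv
  haveI := h.conf.hV.1
  obtain ⟨n, hn, hnA, hbord⟩ := h.conf.pair.exists_orderOf hb hb1
  have hbpow : b ^ n = 1 := hbord ▸ pow_orderOf_eq_one b
  have hbA : zpowers b ≤ A := zpowers_le.mpr hb
  have hVp : IsPGroup v V := fun x => ⟨1, Subtype.ext (by simpa using h.conf.hV.2 x x.2)⟩
  have hcopQV : (Nat.card Q).Coprime (Nat.card V) :=
    coprime_of_isPGroup h.conf.hqv h.conf.hQ hVp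
  have hnQ : (Nat.card Q).Coprime n := (h.conf.copQ.coprime_dvd_left hnA).symm
  have hnR : (Nat.card R).Coprime n := (h.conf.copR.coprime_dvd_left hnA).symm
  have hzQ : zpowers b ≤ normalizer (Q : Set G) := hbA.trans h.conf.AQ
  have hzcop : (Nat.card (zpowers b)).Coprime (Nat.card Q) :=
    h.conf.copQ.coprime_dvd_left (card_dvd_of_le hbA)
  -- `x ∈ C_Q(b)` centralises `C_V(b)`
  have hVQ : ∀ x ∈ Q ⊓ centralizer ({b} : Set G),
      V ⊓ centralizer ({b} : Set G) ≤ centralizer ({x} : Set G) := fun x hx w hw =>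
    mem_centralizer_singleton'.mpr (h.conf.commVQ b hb hb1 hbn w hw x hx).symm
  by_cases hab : IsMulCommutative Q
  · haveI := hab
    obtain ⟨V1, hV1, hA1, hQ1, hR1, hV1Q, hker⟩ := h.exists_kernel_abelian hab
    haveI : IsMulCommutative V1 := isMulCommutative_of_le h.conf.hV.1 hV1
    let P : Subgroup G → Prop := fun K =>
      K ≤ Q ∧ K.relIndex Q = q ∧ V1 ⊓ centralizer (K : Set G) ≠ ⊥
    have hsep : ∀ x ∈ Q, (∀ K, P K → x ∈ K) → x = 1 := by
      intro x hx hall
      by_contra hx1
      obtain ⟨K, hxK, hK⟩ := hker x hx hx1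
      exact hxK (hall K hK)
    set C := Q ⊓ centralizer ({b} : Set G) with hC
    set D := ⁅Q, zpowers b⁆ with hDdef
    have hCQ : C ≤ Q := inf_le_left
    have hDQ : D ≤ Q := H1.commutator_le_left_of_le_normalizer hzQ
    have hsup : C ⊔ D = Q := by
      have := H1.commutator_sup_centralizer_eq hzQ hzcop (Or.inl (isSolvable_zpowers' b))
      rwa [centralizer_zpowers', sup_comm] at this
    have hD : D ⊓ centralizer ({b} : Set G) = ⊥ := by
      rw [← centralizer_zpowers']
      exact H1.commutator_inf_centralizer_eq_bot hab hzQ hzcop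
    have hC1 : C ≠ ⊥ := by
      intro e
      refine h.not_le_centralizer (frob_trivial Q R hn hbpow (h.conf.AQ hb) (h.conf.AR hb)
        h.conf.RQ h.copRQ hnR ?_ e)
      exact hfixR
    have hAC : A ≤ normalizer (C : Set G) := by
      refine le_normalizer_inf' h.conf.AQ ?_
      rw [← centralizer_zpowers']
      exact le_normalizer_centralizer' hbn
    have hDb : b ∈ normalizer (D : Set G) := H1.right_le_normalizer_commutator (mem_zpowers b)
    have hVD : D ≤ normalizer (V1 : Set G) := hDQ.trans hQ1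
    have hcopD : (Nat.card D).Coprime (Nat.card V1) :=
      (hcopQV.coprime_dvd_left (card_dvd_of_le hDQ)).coprime_dvd_right (card_dvd_of_le hV1)
    -- `C` centralises `[V1, D]`
    have hCV : ∀ x ∈ C, ⁅V1, D⁆ ≤ centralizer ({x} : Set G) := fun x hx =>
      commutator_le_centralizer V1 D hn hbpow (hA1 hb) hDb hVD hcopD
        (hnQ.coprime_dvd_left (card_dvd_of_le hDQ)) (hD.le.trans bot_le)
        (mem_centralizer_iff.mpr fun d hd =>
          congrArg Subtype.val (hab.is_comm.comm (⟨d, hDQ hd⟩ : Q) ⟨x, hCQ hx⟩))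
        ((inf_le_inf_right _ hV1).trans (hVQ x hx))
    have hV1dec : ⁅V1, D⁆ ⊔ (V1 ⊓ centralizer (D : Set G)) = V1 :=
      H1.commutator_sup_centralizer_eq hVD hcopD
        (Or.inr (Group.isSolvable_of_comm fun x y => Std.Commutative.comm x y))
    have hKCD : ∀ K, P K → C ≤ K ∨ D ≤ K := by
      intro K hK
      obtain ⟨u, hu, hu1⟩ : ∃ u ∈ V1 ⊓ centralizer (K : Set G), u ≠ 1 := by
        by_contra hall
        push Not at hall
        exact hK.2.2 (eq_bot_iff.mpr fun x hx => mem_bot.mpr (hall x hx))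
      obtain ⟨huV, huK⟩ := mem_inf.mp hu
      have hle1 : ⁅V1, D⁆ ≤ V1 := H1.commutator_le_left_of_le_normalizer hVD
      have hdj : ⁅V1, D⁆ ⊓ centralizer (D : Set G) = ⊥ :=
        H1.commutator_inf_centralizer_eq_bot inferInstance hVD hcopD
      obtain ⟨u1, hu1', u2, hu2, hu12⟩ := H1.exists_mul_of_mem_sup
        ((inf_le_left : V1 ⊓ centralizer (D : Set G) ≤ V1).trans H1.left_le_normalizer_commutator)
        (hV1dec.symm ▸ huV)
      have hQD : Q ≤ normalizer (D : Set G) := le_normalizer_of_isMulCommutative hab le_rfl hDQ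
      have hfix1 : ∀ k ∈ K, k * u1 = u1 * k := by
        intro k hk
        have h1 : k * u1 * k⁻¹ ∈ ⁅V1, D⁆ := (mem_normalizer_iff.mp
          (normalizer_inf_le_normalizer_commutator' (hQ1 (hK.1 hk)) (hQD (hK.1 hk))) u1).mp hu1'
        have h2 : k * u2 * k⁻¹ ∈ centralizer (D : Set G) :=
          (mem_normalizer_iff.mp (mem_normalizer_centralizer (hQD (hK.1 hk))) u2).mp
            (mem_inf.mp hu2).2
        have h3 : u1⁻¹ * (k * u1 * k⁻¹) = u2 * (k * u2 * k⁻¹)⁻¹ := by
          have e : (k * u1 * k⁻¹) * (k * u2 * k⁻¹) = u1 * u2 := by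
            rw [← hu12]
            calc k * u1 * k⁻¹ * (k * u2 * k⁻¹) = k * (u1 * u2) * k⁻¹ := by group
              _ = k * u * k⁻¹ := by rw [← hu12]
              _ = u := by rw [mem_centralizer_iff.mp huK k hk, mul_inv_cancel_right]
          calc u1⁻¹ * (k * u1 * k⁻¹)
              = u1⁻¹ * (k * u1 * k⁻¹ * (k * u2 * k⁻¹)) * (k * u2 * k⁻¹)⁻¹ := by group
            _ = u1⁻¹ * (u1 * u2) * (k * u2 * k⁻¹)⁻¹ := by rw [e]
            _ = u2 * (k * u2 * k⁻¹)⁻¹ := by group
        have h4 : u1⁻¹ * (k * u1 * k⁻¹) = 1 := mem_bot.mp (hdj.le (mem_inf.mpr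
          ⟨mul_mem (inv_mem hu1') h1, h3 ▸ mul_mem (mem_inf.mp hu2).2 (inv_mem h2)⟩))
        exact mul_inv_eq_iff_eq_mul.mp (inv_mul_eq_one.mp h4).symm
      by_cases hu11 : u1 = 1
      · right
        rw [hu11, one_mul] at hu12
        subst hu12
        have hT : K ⊔ D ≤ Q ⊓ centralizer ({u} : Set G) := sup_le
          (le_inf hK.1 fun k hk => mem_centralizer_singleton'.mpr
            (mem_centralizer_iff.mp huK k hk).symm)
          (le_inf hDQ fun d hd => mem_centralizer_singleton'.mpr
            (mem_centralizer_iff.mp (mem_inf.mp hu2).2 d hd).symm)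
        have hQK : Q ⊓ centralizer ((zpowers u : Subgroup G) : Set G) = K :=
          inf_centralizer_eq_of_relIndex hK.1 hK.2.1 hV1Q (zpowers_le.mpr hu) (by simp [hu1])
        rw [centralizer_zpowers'] at hQK
        exact hQK ▸ (le_sup_right.trans hT)
      · left
        have hu1V : u1 ∈ V1 ⊓ centralizer (K : Set G) :=
          mem_inf.mpr ⟨hle1 hu1', mem_centralizer_iff.mpr hfix1⟩
        have hQK : Q ⊓ centralizer ((zpowers u1 : Subgroup G) : Set G) = K :=
          inf_centralizer_eq_of_relIndex hK.1 hK.2.1 hV1Q (zpowers_le.mpr hu1V) (by simp [hu11])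
        rw [centralizer_zpowers'] at hQK
        refine hQK ▸ le_inf hCQ fun x hx => mem_centralizer_singleton'.mpr ?_
        exact (mem_centralizer_singleton'.mp (hCV x hx hu1')).symm
    have hbP : ∀ g ∈ R ⊔ A, ∀ K, P K → P (MulAut.conj g • K) := fun g hg K hK =>
      kernel_conj ((sup_le hR1 hA1) hg) ((sup_le h.conf.RQ h.conf.AQ) hg) hK
    have hinv : ∀ X, IsSplit P Q X → b ∈ normalizer (X : Set G) := fun X hX =>
      hX.invariant hab hsep hCQ hDQ hsup hKCD hn hbpow (h.conf.AQ hb) hDb
        (fun j K hK => hbP _ (mem_sup_right (inv_mem (pow_mem hb j))) K hK) inf_le_right hD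
    have hCs : IsSplit P Q C := ⟨hCQ, D, hDQ, hsup, hKCD⟩
    have hRC : R ≤ normalizer (C : Set G) := by
      rw [← hRb]
      refine commutator_le.mpr fun g hg s hs => ?_
      have hsN : s ∈ normalizer (C : Set G) := hAC (hbA hs)
      have hgs : g * s * g⁻¹ ∈ normalizer (C : Set G) := by
        have h1 := zpowers_le.mpr (hinv _ (hCs.conj (inv_mem (h.conf.RQ hg))
          (fun K hK => hbP _ (mem_sup_left (by rw [inv_inv]; exact hg)) K hK))) hs
        rw [mem_normalizer_iff_map_conj_eq] at h1 ⊢
        change MulAut.conj s • MulAut.conj g⁻¹ • C = MulAut.conj g⁻¹ • C at h1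
        show MulAut.conj (g * s * g⁻¹) • C = C
        rw [map_mul, mul_smul, map_mul, mul_smul, h1, ← mul_smul, ← map_mul, mul_inv_cancel,
          map_one, one_smul]
      rw [commutatorElement_def]
      exact mul_mem hgs (inv_mem hsN)
    have hClt : C < Q := by
      refine lt_of_le_of_ne hCQ fun e => ?_
      have hQb : ⁅Q, zpowers b⁆ = ⊥ := by
        rw [commutator_eq_bot_iff_le_centralizer, centralizer_zpowers']
        exact inf_eq_left.mp e
      refine h.not_le_centralizer ?_
      have h1 : ⁅⁅R, zpowers b⁆, Q⁆ = ⊥ := by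
        refine commutator_commutator_eq_bot_of_rotate ?_ ?_
        · rw [show ⁅zpowers b, Q⁆ = ⊥ by rw [commutator_comm]; exact hQb, commutator_bot_left]
        · rw [h.commutator_eq]; exact hQb
      rw [hRb] at h1
      exact commutator_eq_bot_iff_le_centralizer.mp h1
    have hCR := h.le_centralizer_R hClt hAC hRC
    exact hC1 (le_bot_iff.mp ((le_inf hCQ hCR).trans (h.abelian_fixed_eq_bot hab).le))
  · set Z := ⁅Q, Q⁆ with hZ
    haveI hZc : IsMulCommutative Z := ⟨⟨fun x y => Subtype.ext
      (mem_centralizer_iff.mp (h.derived_le_center y.2) x (commutator_le_self Q x.2))⟩⟩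
    have hAZ : A ≤ normalizer (Z : Set G) := le_normalizer_commutator'' h.conf.AQ h.conf.AQ
    have hZQ : Z ≤ Q := commutator_le_self Q
    have hzZ : zpowers b ≤ normalizer (Z : Set G) := hbA.trans hAZ
    set Z1 := ⁅Z, zpowers b⁆ with hZ1
    have hZ1Z : Z1 ≤ Z := H1.commutator_le_left_of_le_normalizer hzZ
    -- `b` centralises `Z`
    have hZb : Z ≤ centralizer ({b} : Set G) := by
      rw [← centralizer_zpowers', ← commutator_eq_bot_iff_le_centralizer, ← hZ1]
      by_contra hne
      have hfix : Z1 ⊓ centralizer ({b} : Set G) = ⊥ := by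
        rw [← centralizer_zpowers']
        exact H1.commutator_inf_centralizer_eq_bot hZc hzZ
          (hzcop.coprime_dvd_right (card_dvd_of_le hZQ))
      set V1 := ⁅V, Z1⁆ with hV1
      set T := Q ⊓ centralizer (V1 : Set G) with hT
      have hAZ1 : A ≤ normalizer (Z1 : Set G) := le_normalizer_commutator'' hAZ hbn
      have hRZ1 : R ≤ normalizer (Z1 : Set G) :=
        (le_centralizer_iff.mp (hZ1Z.trans h.derived_le_centralizer_R)).trans
          (centralizer_le_normalizer _)
      have hTlt : T < Q := by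
        refine lt_of_le_of_ne inf_le_left fun e => hne ?_
        have hZ1T : Z1 ≤ centralizer (V1 : Set G) :=
          ((hZ1Z.trans hZQ).trans e.ge).trans inf_le_right
        have hZ1V : Z1 ≤ normalizer (V : Set G) := (hZ1Z.trans hZQ).trans h.conf.QV
        refine le_bot_iff.mp ((le_inf (hZ1Z.trans hZQ) ?_).trans h.conf.faith.le)
        rw [← H1.commutator_sup_centralizer_eq hZ1V
          (hcopQV.coprime_dvd_left (card_dvd_of_le (hZ1Z.trans hZQ)))
          (Or.inr (Group.isSolvable_of_comm fun x y => h.conf.hV.1.is_comm.comm x y)),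
          le_centralizer_iff]
        exact sup_le (le_centralizer_iff.mp hZ1T) inf_le_right
      have hAT : A ≤ normalizer (T : Set G) := le_normalizer_inf' h.conf.AQ
        (le_normalizer_centralizer' (le_normalizer_commutator'' h.conf.AV hAZ1))
      have hRT : R ≤ normalizer (T : Set G) := le_normalizer_inf' h.conf.RQ
        (le_normalizer_centralizer' (le_normalizer_commutator'' h.conf.RV hRZ1))
      have hTc := h.fixed_le_center inf_le_left (h.le_centralizer_R hTlt hAT hRT)
      have hCc : Q ⊓ centralizer ({b} : Set G) ≤ centralizer (Q : Set G) := fun x hx => hTc <| by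
        refine mem_inf.mpr ⟨(mem_inf.mp hx).1, mem_centralizer_iff.mpr fun w hw => ?_⟩
        exact (mem_centralizer_singleton'.mp (commutator_le_centralizer V Z1 hn hbpow
          (h.conf.AV hb) (H1.right_le_normalizer_commutator (mem_zpowers b))
          ((hZ1Z.trans hZQ).trans h.conf.QV) (hcopQV.coprime_dvd_left (card_dvd_of_le (hZ1Z.trans hZQ)))
          (hnQ.coprime_dvd_left (card_dvd_of_le (hZ1Z.trans hZQ))) (hfix.le.trans bot_le)
          (mem_centralizer_iff.mpr fun z hz =>
            (mem_centralizer_iff.mp (h.derived_le_center (hZ1Z hz)) x (mem_inf.mp hx).1).symm)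
          (hVQ x hx) hw)).symm
      -- `R` would act trivially on `Q` modulo the centre
      set L := Q ⊓ centralizer (Q : Set G) with hL
      have hAL : A ≤ normalizer (L : Set G) :=
        le_normalizer_inf' h.conf.AQ (le_normalizer_centralizer' h.conf.AQ)
      have hRL : R ≤ normalizer (L : Set G) :=
        le_normalizer_inf' h.conf.RQ (le_normalizer_centralizer' h.conf.RQ)
      have hQL : Q ≤ normalizer (L : Set G) :=
        le_normalizer_inf' le_normalizer (le_normalizer_centralizer' le_normalizer)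
      haveI : IsMulCommutative (sect L Q) :=
        isMulCommutative_sect hQL (le_inf hZQ h.derived_le_center)
      set b' := QuotientGroup.mk' (L.subgroupOf (normalizer (L : Set G))) ⟨b, hAL hb⟩ with hb'
      have hsz : sect L (zpowers b) = zpowers b' := sect_zpowers (hAL hb)
      have hzR : zpowers b ≤ normalizer (R : Set G) := hbA.trans h.conf.AR
      have hfixQ' : sect L Q ⊓ centralizer ({b'} : Set _) = ⊥ := by
        rw [← centralizer_zpowers', ← hsz, ← sect_inf_centralizer hQL (hbA.trans hAL) hzQ hzcop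
          (isSolvable_zpowers' b), sect_eq_bot_iff (inf_le_left.trans hQL), centralizer_zpowers']
        exact le_inf inf_le_left hCc
      have hfixR' : sect L R ⊓ centralizer ({b'} : Set _) ≤ centralizer (sect L Q : Set _) := by
        rw [← centralizer_zpowers', ← hsz, ← sect_inf_centralizer hRL (hbA.trans hAL) hzR
          (h.conf.copR.coprime_dvd_left (card_dvd_of_le hbA)) (isSolvable_zpowers' b),
          centralizer_zpowers']
        exact sect_le_centralizer hfixR
      have htriv : sect L R ≤ centralizer (sect L Q : Set _) := by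
        refine frob_trivial (sect L Q) (sect L R) (a := b') hn ?_ ?_ ?_ (sect_le_normalizer h.conf.RQ)
          ((h.copRQ.coprime_dvd_left (card_sect_dvd hRL)).coprime_dvd_right (card_sect_dvd hQL))
          (hnR.coprime_dvd_left (card_sect_dvd hRL)) hfixR' hfixQ'
        · rw [hb', ← map_pow, show (⟨b, hAL hb⟩ : normalizer (L : Set G)) ^ n = 1 from
            Subtype.ext hbpow, map_one]
        · rw [← zpowers_le, ← hsz]; exact sect_le_normalizer hzQ
        · rw [← zpowers_le, ← hsz]; exact sect_le_normalizer hzR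
      rw [← commutator_eq_bot_iff_le_centralizer, commutator_comm, ← sect_commutator hQL hRL,
        h.commutator_eq, sect_eq_bot_iff hQL] at htriv
      exact MinConfig.derived_ne hab
        (commutator_eq_bot_iff_le_centralizer.mpr (htriv.trans inf_le_right))
    obtain ⟨V1, K, hV1, hKZ, hKi, hA1, hQ1, hR1, hVZ, hVK⟩ := h.exists_kernel_derived hab
    have hbK : b ∈ normalizer (K : Set G) := centralizer_le_normalizer _ (mem_centralizer_iff.mpr
      fun k hk => (mem_centralizer_singleton'.mp (hZb (hKZ hk))).symm)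
    refine h.nonabelian_false hV1 hKZ hKi hA1 hQ1 hR1 hVZ hVK hb hb1 hbK ?_ ?_ (Or.inr hfixR)
    · intro z hz
      have : ⁅z, b⁆ = 1 := commutatorElement_eq_one_iff_mul_comm.mpr
        (mem_centralizer_singleton'.mp (hZb hz)).symm
      rw [this]
      exact one_mem _
    · refine le_bot_iff.mp ((le_inf (inf_le_left.trans inf_le_left) ?_).trans hVZ.le)
      intro w hw
      refine mem_centralizer_iff.mpr fun z hz => ?_
      exact (h.conf.commVQ b hb hb1 hbn w
        (mem_inf.mpr ⟨hV1 (mem_inf.mp (mem_inf.mp hw).1).1, (mem_inf.mp hw).2⟩) z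
        (mem_inf.mpr ⟨hZQ hz, hZb hz⟩)).symm

/-- A group of order a product of two primes has a normal subgroup of prime order. -/
theorem IsPair.exists_normal (hA : IsPair A) :
    ∃ b ∈ A, b ≠ 1 ∧ A ≤ normalizer ((zpowers b : Subgroup G) : Set G) := by
  obtain ⟨p₁, p₂, h₁, h₂, hc, -⟩ := hA
  wlog hle : p₁ ≤ p₂ generalizing p₁ p₂
  · exact this p₂ p₁ h₂ h₁ (by rw [hc, mul_comm]) (le_of_not_ge hle)
  haveI := Fact.mk h₂
  obtain ⟨g, hg⟩ := exists_prime_orderOf_dvd_card' (G := A) p₂ (hc ▸ dvd_mul_left p₂ p₁)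
  have hidx : (zpowers g).index = p₁ := by
    have h := (zpowers g).card_mul_index
    rw [Nat.card_zpowers, hg, hc, mul_comm p₁] at h
    exact Nat.eq_of_mul_eq_mul_left h₂.pos h
  have hmin : (Nat.card A).minFac = p₁ := by
    refine le_antisymm (Nat.minFac_le_of_dvd h₁.two_le (hc ▸ dvd_mul_right p₁ p₂)) ?_
    have hd := Nat.minFac_dvd (Nat.card A)
    have hpr := Nat.minFac_prime (n := Nat.card A) (by
      rw [hc]
      exact (Nat.one_lt_mul_iff.mpr ⟨h₁.pos, h₂.pos, Or.inl h₁.one_lt⟩).ne')
    nth_rw 2 [hc] at hd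
    rcases (Nat.Prime.dvd_mul hpr).mp hd with h | h
    · exact ((Nat.prime_dvd_prime_iff_eq hpr h₁).mp h).ge
    · exact hle.trans ((Nat.prime_dvd_prime_iff_eq hpr h₂).mp h).ge
  haveI : (zpowers g).Normal := normal_of_index_eq_minFac_card (by rw [hidx, hmin])
  refine ⟨g, g.2, fun e => ?_, ?_⟩
  · rw [show g = 1 from Subtype.ext e, orderOf_one] at hg
    exact h₂.one_lt.ne hg
  · intro x hx
    refine mem_normalizer_iff.mpr fun y => ?_
    have hz : zpowers (g : G) = (zpowers g).map A.subtype := (MonoidHom.map_zpowers A.subtype g).symm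
    rw [hz]
    constructor
    · rintro ⟨y, hy, rfl⟩
      exact ⟨⟨x, hx⟩ * y * ⟨x, hx⟩⁻¹, Subgroup.Normal.conj_mem inferInstance y hy _, rfl⟩
    · rintro ⟨z, hz', hzy⟩
      have := Subgroup.Normal.conj_mem (inferInstance : (zpowers g).Normal) z hz' ⟨x, hx⟩⁻¹
      refine ⟨_, this, ?_⟩
      simp only [map_mul, map_inv, inv_inv, Subgroup.coe_subtype] at hzy ⊢
      rw [hzy]; group

/-- The configuration does not occur. -/
theorem Config.false (h : Config A V Q R v q r) : False := by
  induction hm : Nat.card Q + Nat.card R using Nat.strong_induction_on generalizing Q R with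
  | _ m ih =>
  subst hm
  have hlt : ∀ {X Y : Subgroup G}, X < Y → Nat.card X < Nat.card Y := fun {X Y} hXY =>
    lt_of_le_of_ne (card_le_of_le hXY.le) fun e => hXY.ne (eq_of_le_of_card_ge hXY.le e.ge)
  have hmin : MinConfig A V Q R v q r := by
    refine ⟨h, fun Q' hQ' hAQ' hRQ' => ?_, fun R' hR' hAR' => ?_⟩
    · by_contra hne
      refine ih _ (Nat.add_lt_add_right (hlt hQ') _) ?_ rfl
      exact
        { h with
          hQ := h.hQ.to_le hQ'.le
          AQ := hAQ'
          QV := hQ'.le.trans h.QV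
          RQ := hRQ'
          copQ := h.copQ.coprime_dvd_right (card_dvd_of_le hQ'.le)
          fixQ := le_bot_iff.mp ((inf_le_inf_right _ hQ'.le).trans h.fixQ.le)
          commQR := fun b hb hb1 hbn x hx => h.commQR b hb hb1 hbn x (inf_le_inf_right _ hQ'.le hx)
          commVQ := fun b hb hb1 hbn x hx y hy =>
            h.commVQ b hb hb1 hbn x hx y (inf_le_inf_right _ hQ'.le hy)
          faith := le_bot_iff.mp ((inf_le_inf_right _ hQ'.le).trans h.faith.le)
          ne := hne }
    · by_contra hne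
      refine ih _ (Nat.add_lt_add_left (hlt hR') _) ?_ rfl
      exact
        { h with
          hR := h.hR.to_le hR'.le
          AR := hAR'
          RV := hR'.le.trans h.RV
          RQ := hR'.le.trans h.RQ
          copR := h.copR.coprime_dvd_right (card_dvd_of_le hR'.le)
          fixR := le_bot_iff.mp ((inf_le_inf_right _ hR'.le).trans h.fixR.le)
          commQR := fun b hb hb1 hbn x hx y hy =>
            h.commQR b hb hb1 hbn x hx y (inf_le_inf_right _ hR'.le hy)
          ne := hne }
  obtain ⟨b, hb, hb1, hbn⟩ := h.pair.exists_normal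
  rcases hmin.dichotomy hb hbn with hR | ⟨hR, hfix⟩
  · exact hmin.caseI_false hb hb1 hbn hR
  · exact hmin.caseII_false hb hb1 hbn hR hfix

end H1.PairFPF
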