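import Cfsg.Agent.H1.PairFPF.Basic

/-! The section `N(L) / L`: images of subgroups. -/

set_option autoImplicit false

namespace H1.PairFPF

open Subgroup
open scoped commutatorElement

variable {G : Type*} [Group G] (L : Subgroup G)

/-- The image in `N(L) / L` of a subgroup of `G`. -/
def sect (X : Subgroup G) :
    Subgroup (↥(normalizer (L : Set G)) ⧸ L.subgroupOf (normalizer (L : Set G))) :=
  (X.subgroupOf (normalizer (L : Set G))).map (QuotientGroup.mk' _)

variable {L}

theorem sect_mono {X Y : Subgroup G} (h : X ≤ Y) : sect L X ≤ sect L Y :=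
  map_mono fun _ hx => h hx

theorem card_sect_dvd [Finite G] {X : Subgroup G} (hX : X ≤ normalizer (L : Set G)) :
    Nat.card (sect L X) ∣ Nat.card X := by
  rw [← Nat.card_congr (subgroupOfEquivOfLe hX).toEquiv]
  exact card_map_dvd _ _

theorem isPGroup_sect {p : ℕ} {X : Subgroup G} (h : IsPGroup p X) : IsPGroup p (sect L X) := by
  rintro ⟨_, x, hx, rfl⟩
  obtain ⟨k, hk⟩ := h ⟨(x : G), hx⟩
  refine ⟨k, Subtype.ext ?_⟩
  have hk' : x ^ p ^ k = 1 :=
    Subtype.ext ((SubmonoidClass.coe_pow x _).trans (congrArg Subtype.val hk))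
  show (QuotientGroup.mk' _ x) ^ p ^ k = 1
  rw [← map_pow, hk', map_one]

theorem sect_eq_bot_iff {X : Subgroup G} (hX : X ≤ normalizer (L : Set G)) :
    sect L X = ⊥ ↔ X ≤ L := by
  rw [sect, Subgroup.map_eq_bot_iff, QuotientGroup.ker_mk']
  exact ⟨fun h x hx => @h ⟨x, hX hx⟩ hx, fun h x hx => h hx⟩

theorem sect_le_normalizer {X Y : Subgroup G} (h : X ≤ normalizer (Y : Set G)) :
    sect L X ≤ normalizer (sect L Y : Set _) := by
  rintro _ ⟨x, hx, rfl⟩
  refine le_normalizer_map _ ⟨x, mem_normalizer_iff.mpr fun y => ?_, rfl⟩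
  exact mem_normalizer_iff.mp (h hx) (y : G)

theorem sect_commutator {X Y : Subgroup G} (hX : X ≤ normalizer (L : Set G))
    (hY : Y ≤ normalizer (L : Set G)) : sect L ⁅X, Y⁆ = ⁅sect L X, sect L Y⁆ := by
  rw [sect, sect, sect, ← map_commutator]
  congr 1
  refine map_injective (normalizer (L : Set G)).subtype_injective ?_
  rw [map_commutator, subgroupOf_map_subtype, subgroupOf_map_subtype, subgroupOf_map_subtype,
    inf_eq_left.mpr hX, inf_eq_left.mpr hY]
  exact inf_eq_left.mpr ((commutator_mono hX hY).trans (commutator_le_self _))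

theorem sect_le_centralizer {X Y : Subgroup G} (h : X ≤ centralizer (Y : Set G)) :
    sect L X ≤ centralizer (sect L Y : Set _) := by
  rintro _ ⟨x, hx, rfl⟩
  rw [mem_centralizer_iff]
  rintro _ ⟨y, hy, rfl⟩
  rw [← map_mul, ← map_mul]
  exact congrArg _ (Subtype.ext (mem_centralizer_iff.mp (h hx) y hy))

theorem isMulCommutative_sect {X : Subgroup G} (hX : X ≤ normalizer (L : Set G))
    (h : ⁅X, X⁆ ≤ L) : IsMulCommutative (sect L X) := by
  have h1 : ⁅sect L X, sect L X⁆ = ⊥ := by
    rw [← sect_commutator hX hX, sect_eq_bot_iff ((commutator_le_self X).trans hX)]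
    exact h
  exact ⟨⟨fun x y => Subtype.ext
    (mem_centralizer_iff.mp (commutator_eq_bot_iff_le_centralizer.mp h1 y.2) x x.2)⟩⟩

theorem sect_inf_centralizer [Finite G] {X S : Subgroup G} (hX : X ≤ normalizer (L : Set G))
    (hS : S ≤ normalizer (L : Set G)) (hSX : S ≤ normalizer (X : Set G))
    (hcop : (Nat.card S).Coprime (Nat.card X)) (hsol : Group.IsSolvable S) :
    sect L (X ⊓ centralizer (S : Set G)) = sect L X ⊓ centralizer (sect L S : Set _) := by
  set N := normalizer (L : Set G)
  have := hsol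
  have key := map_inf_centralizer (QuotientGroup.mk' (L.subgroupOf N)) (X := X.subgroupOf N)
    (S := S.subgroupOf N)
    (fun s hs => mem_normalizer_iff.mpr fun y => mem_normalizer_iff.mp (hSX hs) (y : G))
    (by rwa [Nat.card_congr (subgroupOfEquivOfLe hS).toEquiv,
      Nat.card_congr (subgroupOfEquivOfLe hX).toEquiv])
    (Or.inl (Group.isSolvable_of_isSolvable_injective
      (f := (subgroupOfEquivOfLe hS).toMonoidHom) (subgroupOfEquivOfLe hS).injective))
  rw [sect, sect, sect, ← key]
  congr 1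
  ext x
  simp only [mem_subgroupOf, mem_inf, mem_centralizer_iff]
  refine and_congr_right fun _ => ⟨fun h y hy => Subtype.ext (h y hy), fun h y hy => ?_⟩
  exact congrArg Subtype.val (h ⟨y, hS hy⟩ hy)

theorem sect_zpowers {a : G} (ha : a ∈ normalizer (L : Set G)) :
    sect L (zpowers a) = zpowers (QuotientGroup.mk' _ ⟨a, ha⟩) := by
  rw [sect, ← MonoidHom.map_zpowers]
  congr 1
  refine map_injective (normalizer (L : Set G)).subtype_injective ?_
  rw [subgroupOf_map_subtype, MonoidHom.map_zpowers, inf_eq_left.mpr (zpowers_le.mpr ha)]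
  rfl

end H1.PairFPF
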